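import Groth.Prelude.Def_RelProj2
import Groth.Agent.Lib.RelProj11.Dense
import Groth.Agent.Lib.GrTw11.QCoh
import Groth.Agent.Lib.ModM1.Local

/-!
The twisting sheaf of a relative `Proj`, chart by chart.
-/

universe u

open CategoryTheory CategoryTheory.Limits AlgebraicGeometry TopologicalSpace Opposite
open scoped HomogeneousIdeal

namespace Groth.Agent.RelProj11

variable {S P : Scheme.{u}} {𝒮 : RelProj.QCGrAlg S} {p : P ⟶ S}
  {chart : ∀ (U : S.Opens) (hU : IsAffineOpen U), ((p ⁻¹ᵁ U : P.Opens) : Scheme.{u}) ≅ Proj (𝒮.deg U hU)}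

theorem image_emb_le {U : S.Opens} {hU : IsAffineOpen U} (W : (Proj (𝒮.deg U hU)).Opens) :
    RelProj.emb p chart U hU ''ᵁ W ≤ p ⁻¹ᵁ U := by
  rintro _ ⟨y, -, rfl⟩
  exact ((chart U hU).inv y).2

theorem exists_emb_eq (x : P) : ∃ (U : S.Opens) (hU : IsAffineOpen U) (y : Proj (𝒮.deg U hU)),
    RelProj.emb p chart U hU y = x := by
  obtain ⟨U, hU, hx⟩ := exists_mem_preimage (p := p) x
  refine ⟨U, hU, (chart U hU).hom ⟨x, hx⟩, ?_⟩
  rw [RelProj.emb, ← Scheme.Hom.comp_apply, Iso.hom_inv_id_assoc]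
  rfl

variable {n : ℤ} {L : P.Modules}
  {lam : ∀ (U : S.Opens) (hU : IsAffineOpen U),
    L ⟶ (Scheme.Modules.pushforward (RelProj.emb p chart U hU)).obj (GrTwist.twist (𝒮.deg U hU) n)}

/-- Over an affine open of the base the twisting sheaf is the twisting sheaf of the graded ring. -/
noncomputable def restrictEmbIso (hL : RelProj.IsRelTwist 𝒮 p chart n L lam) (U : S.Opens) (hU : IsAffineOpen U) :
    L.restrict (RelProj.emb p chart U hU) ≅ GrTwist.twist (𝒮.deg U hU) n :=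
  haveI : IsIso ((Scheme.Modules.restrictFunctor (RelProj.emb p chart U hU)).map (lam U hU)) :=
    Scheme.Modules.Hom.isIso_iff_isIso_app.2 fun W =>
      (ConcreteCategory.isIso_iff_bijective _).2 (hL.bijective U hU _ (image_emb_le W))
  asIso ((Scheme.Modules.restrictFunctor (RelProj.emb p chart U hU)).map (lam U hU)) ≪≫
    asIso ((Scheme.Modules.restrictAdjunction (RelProj.emb p chart U hU)).counit.app _)

/-- A trivialisation on an open of `Proj 𝒮(U)` gives one on its image. -/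
theorem nonempty_trivial_image (hL : RelProj.IsRelTwist 𝒮 p chart n L lam) {U : S.Opens} {hU : IsAffineOpen U}
    (D : (Proj (𝒮.deg U hU)).Opens)
    (e : (GrTwist.twist (𝒮.deg U hU) n).restrict D.ι ≅ Coh.structureModule (D : Scheme.{u})) :
    Nonempty (L.restrict (RelProj.emb p chart U hU ''ᵁ D).ι ≅
      Coh.structureModule (RelProj.emb p chart U hU ''ᵁ D : P.Opens).toScheme) :=
  ⟨(M1.restrictImageIso L (RelProj.emb p chart U hU) D).symm ≪≫
    (Scheme.Modules.restrictFunctor _).mapIso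
      ((Scheme.Modules.restrictFunctor D.ι).mapIso (restrictEmbIso hL U hU) ≪≫ e) ≪≫
    Scheme.Modules.restrictUnitIso _⟩

theorem isQCoh_relTwist (hL : RelProj.IsRelTwist 𝒮 p chart n L lam) : Coh.IsQCoh L := by
  refine M1.isQCoh_of_openImmersion_cover
    (fun U : S.affineOpens => RelProj.emb p chart U.1 U.2) (fun x => ?_)
    fun U => M1.isQCoh_of_isIso (restrictEmbIso hL U.1 U.2).symm (GrTw11.isQCoh_twist' _ n)
  obtain ⟨U, hU, y, hy⟩ := exists_emb_eq (chart := chart) x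
  exact ⟨⟨U, hU⟩, y, hy⟩

theorem iSup_basicOpen_degOne (hgen : 𝒮.IsGenDegOne) (U : S.Opens) (hU : IsAffineOpen U) :
    (⨆ f : 𝒮.deg U hU 1, Proj.basicOpen (𝒮.deg U hU) (f : 𝒮.presheaf.obj (op U))) = ⊤ := by
  refine Proj.iSup_basicOpen_eq_top' (𝒮.deg U hU) _ (fun f => ⟨1, f.2⟩) (top_le_iff.1 fun x _ => ?_)
  have hx : x ∈ Subring.closure ((𝒮.deg U hU 0 : Set (𝒮.presheaf.obj (op U))) ∪ (𝒮.deg U hU 1 : Set _)) :=
    (hgen U hU) ▸ Subring.mem_top x
  refine (Subring.closure_le (t := (Algebra.adjoin (𝒮.deg U hU 0) _).toSubring)).2 ?_ hx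
  rintro y (hy | hy)
  · exact (Algebra.adjoin (𝒮.deg U hU 0) _).algebraMap_mem ⟨y, hy⟩
  · exact Algebra.subset_adjoin ⟨⟨y, hy⟩, rfl⟩

theorem isInvertible_relTwist (hgen : 𝒮.IsGenDegOne) (hL : RelProj.IsRelTwist 𝒮 p chart n L lam) :
    PicF.IsInvertible L := by
  intro x
  obtain ⟨U, hU, y, rfl⟩ := exists_emb_eq (chart := chart) x
  obtain ⟨D, hD, ⟨e⟩⟩ := GrTw11.exists_deg_one_nhd _ (iSup_basicOpen_degOne hgen U hU) n y
  exact ⟨RelProj.emb p chart U hU ''ᵁ D, ⟨y, hD, rfl⟩, nonempty_trivial_image hL D e⟩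

theorem exists_period_invertible (V : P.Opens) (hV : IsCompact (V : Set P)) :
    ∃ d : ℕ, 0 < d ∧ ∀ (n : ℤ), (d : ℤ) ∣ n →
      ∀ (L : P.Modules)
        (lam : ∀ (U : S.Opens) (hU : IsAffineOpen U),
          L ⟶ (Scheme.Modules.pushforward (RelProj.emb p chart U hU)).obj (GrTwist.twist (𝒮.deg U hU) n)),
        RelProj.IsRelTwist 𝒮 p chart n L lam → PicF.IsInvertible (L.restrict V.ι) := by
  classical
  let I := Σ U : S.affineOpens, {f : 𝒮.presheaf.obj (op U.1) // ∃ e : ℕ, 0 < e ∧ f ∈ 𝒮.deg U.1 U.2 e}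
  let O : I → P.Opens := fun i => RelProj.emb p chart i.1.1 i.1.2 ''ᵁ Proj.basicOpen (𝒮.deg i.1.1 i.1.2) i.2.1
  obtain ⟨T, hT⟩ := hV.elim_finite_subcover (fun i => (O i : Set P)) (fun i => (O i).2) (fun x _ => by
    obtain ⟨U, hU, y, rfl⟩ := exists_emb_eq (chart := chart) x
    obtain ⟨⟨f, hf⟩, hy⟩ := Opens.mem_iSup.1 ((iSup_basicOpen_pos (𝒮.deg U hU)).ge (Set.mem_univ y))
    exact Set.mem_iUnion.2 ⟨⟨⟨U, hU⟩, f, hf⟩, y, hy, rfl⟩)
  refine ⟨∏ i ∈ T, i.2.2.choose, Finset.prod_pos fun i _ => i.2.2.choose_spec.1, fun n hn L lam hL => ?_⟩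
  refine Twist.isInvertible_restrict L V.ι fun v => ?_
  obtain ⟨i, hi, hx⟩ := Set.mem_iUnion₂.1 (hT v.2)
  obtain ⟨k, rfl⟩ : (i.2.2.choose : ℤ) ∣ n :=
    (Int.natCast_dvd_natCast.2 (Finset.dvd_prod_of_mem _ hi)).trans hn
  refine ⟨O i, hx, ?_⟩
  obtain ⟨⟨U, hU⟩, f, hf⟩ := i
  have h := GrTw11.nonempty_iso_basicOpen_mul (𝒮.deg U hU) (d := hf.choose) (j := 0)
    hf.choose_spec.2 SetLike.GradedOne.one_mem (by simp) k
  rw [mul_one, mul_comm] at h
  obtain ⟨e⟩ := h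
  exact nonempty_trivial_image hL _ e

end Groth.Agent.RelProj11
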