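import Groth.Agent.Lib.RelProj11.Res

/-!
Morphisms of relative homogeneous spectra.
-/

universe u

open CategoryTheory CategoryTheory.Limits AlgebraicGeometry TopologicalSpace Opposite HomogeneousLocalization
open scoped HomogeneousIdeal

namespace Groth.Agent.RelProj11

section Graded

variable {A B σ τ : Type u} [CommRing A] [SetLike σ A] [AddSubgroupClass σ A]
  [CommRing B] [SetLike τ B] [AddSubgroupClass τ B]
  {𝒜 : ℕ → σ} {ℬ : ℕ → τ} [GradedRing 𝒜] [GradedRing ℬ]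
  (ψ : 𝒜 →+*ᵍ ℬ) (hψ : ℬ₊ ≤ (𝒜₊).map ψ)

theorem away_mk_eq_iff' {d : ℕ} {f : A} (hf : f ∈ 𝒜 d) {m n : ℕ} {a b : A}
    {ha : a ∈ 𝒜 (m • d)} {hb : b ∈ 𝒜 (n • d)} :
    Away.mk 𝒜 hf m a ha = Away.mk 𝒜 hf n b hb ↔ ∃ k, f ^ k * (f ^ n * a) = f ^ k * (f ^ m * b) := by
  rw [HomogeneousLocalization.ext_iff_val, Away.val_mk, Away.val_mk, Localization.mk_eq_mk_iff,
    Localization.r_iff_exists]
  exact ⟨fun ⟨⟨_, k, rfl⟩, h⟩ => ⟨k, h⟩, fun ⟨k, h⟩ => ⟨⟨_, k, rfl⟩, h⟩⟩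

theorem surjOn_of_surjective (h : Function.Surjective ψ) (n : ℕ) : Set.SurjOn ψ (𝒜 n : Set A) (ℬ n) := by
  classical
  intro b hb
  obtain ⟨a, rfl⟩ := h b
  exact ⟨DirectSum.decompose 𝒜 a n, SetLike.coe_mem _, by
    rw [GradedRingHom.map_directSumDecompose, DirectSum.decompose_of_mem_same ℬ hb]⟩

theorem away_map_surjective (h : ∀ n : ℕ, 0 < n → Set.SurjOn ψ (𝒜 n : Set A) (ℬ n)) {d : ℕ} (hd : 0 < d)
    {s : A} (hs : s ∈ 𝒜 d) : Function.Surjective (Away.map ψ s) := by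
  intro x
  obtain ⟨n, b, hb, rfl⟩ := Away.mk_surjective ℬ (ψ.map_mem hs) x
  have hb' : b * ψ s ∈ ℬ ((n + 1) • d) := by
    rw [succ_nsmul]; exact SetLike.mul_mem_graded hb (ψ.map_mem hs)
  obtain ⟨a, ha, hab⟩ := h ((n + 1) • d) (Nat.mul_pos (Nat.succ_pos n) hd) hb'
  refine ⟨Away.mk 𝒜 hs (n + 1) a ha, ?_⟩
  rw [Away.map_mk, away_mk_eq_iff']
  exact ⟨0, by rw [hab]; ring⟩

theorem away_map_injective (h : ∀ n : ℕ, 0 < n → Set.InjOn ψ (𝒜 n : Set A)) {d : ℕ} (hd : 0 < d)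
    {s : A} (hs : s ∈ 𝒜 d) : Function.Injective (Away.map ψ s) := by
  rw [injective_iff_map_eq_zero]
  intro x hx
  obtain ⟨n, a, ha, rfl⟩ := Away.mk_surjective 𝒜 hs x
  rw [Away.map_mk, away_mk_eq_zero_iff] at hx
  obtain ⟨k, hk⟩ := hx
  rw [away_mk_eq_zero_iff]
  refine ⟨k + 1, h ((k + 1) • d + n • d) (Nat.add_pos_left (Nat.mul_pos (Nat.succ_pos k) hd) _)
    (SetLike.mul_mem_graded (SetLike.pow_mem_graded _ hs) ha) (zero_mem _) ?_⟩
  rw [map_zero, map_mul, map_pow, pow_succ', mul_assoc, hk, mul_zero]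

/-- A property local on the target holds for `Proj.map` if it holds on the charts. -/
theorem map_of_forall_away (Q : MorphismProperty Scheme.{u}) [IsZariskiLocalAtTarget Q]
    (h : ∀ (d : ℕ) (_ : 0 < d) (s : A) (_ : s ∈ 𝒜 d),
      Q (Spec.map (CommRingCat.ofHom (Away.map ψ s)))) : Q (Proj.map ψ hψ) := by
  refine IsZariskiLocalAtTarget.of_openCover (Proj.affineOpenCover 𝒜).openCover fun i => ?_
  exact (Q.arrow_mk_iso_iff (Arrow.isoMk ((isPullback_chart hψ i.1.2 i.2.2).flip.isoPullback)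
    (Iso.refl _) (by
      simp only [Functor.id_obj, Arrow.mk_right, Arrow.mk_left, Arrow.mk_hom, Iso.refl_hom, Category.comp_id]
      exact IsPullback.isoPullback_hom_snd _))).1 (h _ i.1.2 _ i.2.2)

theorem isClosedImmersion_map (h : ∀ n : ℕ, 0 < n → Set.SurjOn ψ (𝒜 n : Set A) (ℬ n)) :
    IsClosedImmersion (Proj.map ψ hψ) :=
  map_of_forall_away ψ hψ @IsClosedImmersion fun d hd s hs =>
    IsClosedImmersion.spec_of_surjective _ (away_map_surjective ψ h hd hs)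

theorem isIso_map (h : ∀ n : ℕ, 0 < n → Set.BijOn ψ (𝒜 n : Set A) (ℬ n)) : IsIso (Proj.map ψ hψ) :=
  map_of_forall_away ψ hψ (MorphismProperty.isomorphisms Scheme) fun d hd s hs => by
    haveI : IsIso (CommRingCat.ofHom (Away.map ψ s)) := (ConcreteCategory.isIso_iff_bijective _).2
      ⟨away_map_injective ψ (fun n hn => (h n hn).injOn) hd hs,
        away_map_surjective ψ (fun n hn => (h n hn).surjOn) hd hs⟩
    exact MorphismProperty.isomorphisms.infer_property _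

end Graded

variable {S P Z : Scheme.{u}}

/-- Glueing a morphism out of the preimages of the affine opens of the base. -/
theorem existsUnique_glue (p : P ⟶ S) (g : ∀ (U : S.Opens) (_ : IsAffineOpen U), (p ⁻¹ᵁ U).toScheme ⟶ Z)
    (hg : ∀ (U : S.Opens) (hU : IsAffineOpen U) (r : Γ(S, U)),
      P.homOfLE (p.preimage_mono (S.basicOpen_le r)) ≫ g U hU = g (S.basicOpen r) (hU.basicOpen r)) :
    ∃! e : P ⟶ Z, ∀ (U : S.Opens) (hU : IsAffineOpen U), (p ⁻¹ᵁ U).ι ≫ e = g U hU := by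
  let O : S.affineOpens → P.Opens := fun U => p ⁻¹ᵁ U.1
  have hO : iSup O = ⊤ := top_le_iff.1 fun x _ => by
    obtain ⟨U, hU, hx⟩ := exists_mem_preimage (p := p) x
    exact Opens.mem_iSup.2 ⟨⟨U, hU⟩, hx⟩
  let C := P.openCoverOfIsOpenCover O hO
  have key : ∀ a b : S.affineOpens, P.homOfLE (inf_le_left : O a ⊓ O b ≤ O a) ≫ g a.1 a.2 =
      P.homOfLE (inf_le_right : O a ⊓ O b ≤ O b) ≫ g b.1 b.2 := by
    intro a b
    let I := {W : (O a ⊓ O b).toScheme.Opens // ∃ (r : Γ(S, a.1)) (t : Γ(S, b.1)), S.basicOpen r = S.basicOpen t ∧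
      ∀ z ∈ W, p z.1 ∈ S.basicOpen r}
    have hcov : iSup (fun W : I => W.1) = ⊤ := top_le_iff.1 fun z _ => by
      obtain ⟨r, t, e, hz⟩ := exists_basicOpen_le_affine_inter a.2 b.2 (p z.1) ⟨z.2.1, z.2.2⟩
      exact Opens.mem_iSup.2 ⟨⟨(O a ⊓ O b).ι ⁻¹ᵁ (p ⁻¹ᵁ S.basicOpen r), r, t, e, fun w hw => hw⟩, hz⟩
    refine Scheme.Cover.hom_ext ((O a ⊓ O b).toScheme.openCoverOfIsOpenCover _ hcov) _ _ fun W => ?_
    obtain ⟨W, r, t, e, hW⟩ := W
    show W.ι ≫ _ = W.ι ≫ _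
    have hr : Set.range (W.ι ≫ (O a ⊓ O b).ι) ⊆ Set.range (p ⁻¹ᵁ S.basicOpen r).ι := by
      rw [Scheme.Opens.range_ι]
      rintro _ ⟨z, rfl⟩
      exact hW z.1 z.2
    let l := IsOpenImmersion.lift (p ⁻¹ᵁ S.basicOpen r).ι (W.ι ≫ (O a ⊓ O b).ι) hr
    have e1 : W.ι ≫ P.homOfLE (inf_le_left : O a ⊓ O b ≤ O a) =
        l ≫ P.homOfLE (p.preimage_mono (S.basicOpen_le r)) := by
      rw [← cancel_mono (O a).ι]
      simp only [Category.assoc, Scheme.homOfLE_ι, O, l, IsOpenImmersion.lift_fac]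
    have hle : p ⁻¹ᵁ S.basicOpen r ≤ p ⁻¹ᵁ b.1 := p.preimage_mono (e ▸ S.basicOpen_le t)
    have e2 : W.ι ≫ P.homOfLE (inf_le_right : O a ⊓ O b ≤ O b) = l ≫ P.homOfLE hle := by
      rw [← cancel_mono (O b).ι]
      simp only [Category.assoc, Scheme.homOfLE_ι, O, l, IsOpenImmersion.lift_fac]
    have gen : ∀ (D : S.Opens) (hD : IsAffineOpen D) (hle : p ⁻¹ᵁ D ≤ p ⁻¹ᵁ b.1), D = S.basicOpen t →
        P.homOfLE hle ≫ g b.1 b.2 = g D hD := by
      rintro _ hD hle rfl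
      exact hg b.1 b.2 t
    rw [← Category.assoc, e1, ← Category.assoc, e2, Category.assoc, Category.assoc,
      hg a.1 a.2 r, gen _ (a.2.basicOpen r) hle e]
  refine ⟨C.glueMorphisms (fun a => g a.1 a.2) fun a b => ?_, fun U hU => ?_, fun e he => ?_⟩
  · refine (cancel_epi (isPullback_opens_inf (O a) (O b)).isoPullback.hom).mp ?_
    change _ ≫ pullback.fst (O a).ι (O b).ι ≫ _ = _ ≫ pullback.snd (O a).ι (O b).ι ≫ _
    rw [IsPullback.isoPullback_hom_fst_assoc, IsPullback.isoPullback_hom_snd_assoc]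
    exact key a b
  · exact Scheme.Cover.ι_glueMorphisms C _ _ ⟨U, hU⟩
  · refine Scheme.Cover.hom_ext C _ _ fun a => ?_
    exact (he a.1 a.2).trans (Scheme.Cover.ι_glueMorphisms C (fun a => g a.1 a.2) _ a).symm

/-- Two morphisms agreeing over every affine open of the base agree. -/
theorem hom_ext_preimage (p : P ⟶ S) (f g : P ⟶ Z)
    (h : ∀ (U : S.Opens), IsAffineOpen U → (p ⁻¹ᵁ U).ι ≫ f = (p ⁻¹ᵁ U).ι ≫ g) : f = g := by
  have hO : (⨆ U : S.affineOpens, p ⁻¹ᵁ U.1) = ⊤ := top_le_iff.1 fun x _ => by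
    obtain ⟨U, hU, hx⟩ := exists_mem_preimage (p := p) x
    exact Opens.mem_iSup.2 ⟨⟨U, hU⟩, hx⟩
  exact Scheme.Cover.hom_ext (P.openCoverOfIsOpenCover _ hO) _ _ fun U => h U.1 U.2

section RelProjMap

variable {PA PB : Scheme.{u}} {𝒜 ℬ : RelProj.QCGrAlg S} {φ : 𝒜.toQCAlg ⟶ ℬ.toQCAlg}
  {hφ : RelProj.IsGradedHom φ}
  {hirr : ∀ (U : S.Opens) (hU : IsAffineOpen U),
    (ℬ.deg U hU)₊ ≤ ((𝒜.deg U hU)₊).map (RelProj.gradedHomAt φ hφ U hU)}
  {pA : PA ⟶ S} {pB : PB ⟶ S}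
  {chartA : ∀ (U : S.Opens) (hU : IsAffineOpen U), (((pA ⁻¹ᵁ U : PA.Opens) : Scheme.{u}) ≅ Proj (𝒜.deg U hU))}
  {chartB : ∀ (U : S.Opens) (hU : IsAffineOpen U), (((pB ⁻¹ᵁ U : PB.Opens) : Scheme.{u}) ≅ Proj (ℬ.deg U hU))}
  (hA : RelProj.IsRelProj 𝒜 pA chartA) (hB : RelProj.IsRelProj ℬ pB chartB)

theorem gradedHomAt_res (φ : 𝒜.toQCAlg ⟶ ℬ.toQCAlg) (hφ : RelProj.IsGradedHom φ) {U V : S.Opens}
    (hU : IsAffineOpen U) (hV : IsAffineOpen V) (i : V ≤ U) :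
    (ℬ.res hU hV i).comp (RelProj.gradedHomAt φ hφ U hU) = (RelProj.gradedHomAt φ hφ V hV).comp (𝒜.res hU hV i) := by
  ext x
  exact (ConcreteCategory.congr_hom (φ.hom.naturality (homOfLE i).op) x).symm

include hA hB in
theorem existsUnique_isRelProjMap : ∃! h : PB ⟶ PA, RelProj.IsRelProjMap φ hφ hirr chartA chartB h := by
  refine existsUnique_glue pB (fun U hU => (chartB U hU).hom ≫ Proj.map (RelProj.gradedHomAt φ hφ U hU) (hirr U hU) ≫
    (chartA U hU).inv ≫ (pA ⁻¹ᵁ U).ι) fun U hU r => ?_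
  have hA' : Proj.map (𝒜.res hU (hU.basicOpen r) (S.basicOpen_le r)) (𝒜.irrelevant_le_map U hU r) ≫
      (chartA U hU).inv = (chartA (S.basicOpen r) (hU.basicOpen r)).inv ≫
        PA.homOfLE (pA.preimage_mono (S.basicOpen_le r)) := by
    rw [Iso.comp_inv_eq, Category.assoc, hA.chart_res U hU r, Iso.inv_hom_id_assoc]
  have hsq : Proj.map (ℬ.res hU (hU.basicOpen r) (S.basicOpen_le r)) (ℬ.irrelevant_le_map U hU r) ≫
      Proj.map (RelProj.gradedHomAt φ hφ U hU) (hirr U hU) =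
      Proj.map (RelProj.gradedHomAt φ hφ _ (hU.basicOpen r)) (hirr _ (hU.basicOpen r)) ≫
        Proj.map (𝒜.res hU (hU.basicOpen r) (S.basicOpen_le r)) (𝒜.irrelevant_le_map U hU r) := by
    rw [← Proj.map_comp, ← Proj.map_comp]
    exact map_congr _ (gradedHomAt_res φ hφ hU (hU.basicOpen r) _) _
  show _ ≫ _ ≫ _ ≫ _ ≫ _ = _
  rw [← Category.assoc, hB.chart_res U hU r, Category.assoc, reassoc_of% hsq, reassoc_of% hA',
    Scheme.homOfLE_ι]

include hA hB in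
theorem isRelProjMap_comp {h : PB ⟶ PA} (hh : RelProj.IsRelProjMap φ hφ hirr chartA chartB h) :
    h ≫ pA = pB := by
  refine hom_ext_preimage pB _ _ fun U hU => ?_
  rw [← Category.assoc, hh U hU]
  simp only [Category.assoc]
  rw [← hA.chart_over U hU, Iso.inv_hom_id_assoc, ← hB.chart_over U hU, reassoc_of% map_toSpecZero,
    ← Spec.map_comp_assoc]
  congr 4
  ext r
  exact ConcreteCategory.congr_hom (NatTrans.congr_app φ.comm (op U)) r

include hA hB in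
/-- A property local on the target holds for the induced morphism if it holds chartwise. -/
theorem relProjMap_of_forall_affine {h : PB ⟶ PA} (hh : RelProj.IsRelProjMap φ hφ hirr chartA chartB h)
    (Q : MorphismProperty Scheme.{u}) [IsZariskiLocalAtTarget Q] [Q.RespectsIso]
    (hQ : ∀ (U : S.Opens) (hU : IsAffineOpen U), Q (Proj.map (RelProj.gradedHomAt φ hφ U hU) (hirr U hU))) :
    Q h := by
  refine (IsZariskiLocalAtTarget.iff_of_iSup_eq_top (P := Q) (fun U : S.affineOpens => pA ⁻¹ᵁ U.1) ?_).2 fun U => ?_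
  · exact top_le_iff.1 fun x _ => by
      obtain ⟨U, hU, hx⟩ := exists_mem_preimage (p := pA) x
      exact Opens.mem_iSup.2 ⟨⟨U, hU⟩, hx⟩
  have hpre : h ⁻¹ᵁ (pA ⁻¹ᵁ U.1) = pB ⁻¹ᵁ U.1 := by
    rw [← Scheme.Hom.comp_preimage, isRelProjMap_comp hA hB hh]
  have e : h ∣_ (pA ⁻¹ᵁ U.1) = (PB.isoOfEq hpre).hom ≫ (chartB U.1 U.2).hom ≫
      Proj.map (RelProj.gradedHomAt φ hφ U.1 U.2) (hirr U.1 U.2) ≫ (chartA U.1 U.2).inv := by
    rw [← cancel_mono (pA ⁻¹ᵁ U.1).ι, morphismRestrict_ι]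
    simp only [Category.assoc]
    rw [← hh U.1 U.2, Scheme.isoOfEq_hom_ι_assoc]
  rw [e, Q.cancel_left_of_respectsIso, Q.cancel_left_of_respectsIso, Q.cancel_right_of_respectsIso]
  exact hQ U.1 U.2

end RelProjMap

end Groth.Agent.RelProj11
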