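import Groth.Agent.Lib.RelProj11.Res
import Mathlib.AlgebraicGeometry.Sites.SmallAffineZariski

/-!
Existence of the relative homogeneous spectrum.
-/

universe u

open CategoryTheory CategoryTheory.Limits AlgebraicGeometry TopologicalSpace Opposite
open scoped HomogeneousIdeal

namespace Groth.Agent.RelProj11

variable {S : Scheme.{u}} (𝒮 : RelProj.QCGrAlg S)

theorem irrelevant_le_of_le {U V : S.Opens} (hU : IsAffineOpen U) (hV : IsAffineOpen V) (hle : V ≤ U)
    (r : Γ(S, U)) (e : V = S.basicOpen r) :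
    (𝒮.deg V hV)₊ ≤ ((𝒮.deg U hU)₊).map (𝒮.res hU hV hle) := by
  subst e
  exact 𝒮.irrelevant_le_map U hU r

theorem irrelevant_site {U V : S.AffineZariskiSite} (h : V ≤ U) :
    (𝒮.deg V.1 V.2)₊ ≤ ((𝒮.deg U.1 U.2)₊).map (𝒮.res U.2 V.2 (Scheme.AffineZariskiSite.toOpens_mono h)) := by
  obtain ⟨r, hr⟩ := h
  exact irrelevant_le_of_le 𝒮 U.2 V.2 _ r hr.symm

theorem isResLoc {U V : S.Opens} (hU : IsAffineOpen U) (hV : IsAffineOpen V) (hle : V ≤ U)
    (r : Γ(S, U)) (e : V = S.basicOpen r) :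
    IsResLoc (𝒮.res hU hV hle) ((𝒮.strZero U hU).hom r) := by
  subst e
  exact 𝒮.isQC U hU r

theorem res_comp {U V W : S.Opens} (hU : IsAffineOpen U) (hV : IsAffineOpen V) (hW : IsAffineOpen W)
    (i : V ≤ U) (j : W ≤ V) :
    (𝒮.res hV hW j).comp (𝒮.res hU hV i) = 𝒮.res hU hW (j.trans i) := by
  ext x
  show (𝒮.presheaf.map (homOfLE j).op).hom ((𝒮.presheaf.map (homOfLE i).op).hom x) =
    (𝒮.presheaf.map (homOfLE (j.trans i)).op).hom x
  rw [← CommRingCat.comp_apply, ← Functor.map_comp]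
  rfl

theorem res_self {U : S.Opens} (hU : IsAffineOpen U) : 𝒮.res hU hU le_rfl = GradedRingHom.id _ := by
  ext x
  show (𝒮.presheaf.map (homOfLE (le_refl U)).op).hom x = x
  rw [show (homOfLE (le_refl U)).op = 𝟙 (op U) from rfl, CategoryTheory.Functor.map_id]
  rfl

theorem res_strZero {U V : S.Opens} (hU : IsAffineOpen U) (hV : IsAffineOpen V) (i : V ≤ U) :
    𝒮.strZero U hU ≫ CommRingCat.ofHom (zeroHom (𝒮.res hU hV i)) = S.presheaf.map (homOfLE i).op ≫ 𝒮.strZero V hV := by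
  ext r
  exact (ConcreteCategory.congr_hom (𝒮.str.naturality (homOfLE i).op) r).symm

/-- The pieces of the relative `Proj`. -/
noncomputable def pieces : S.AffineZariskiSite ⥤ Scheme.{u} where
  obj U := Proj (𝒮.deg U.1 U.2)
  map {V U} f := Proj.map (𝒮.res U.2 V.2 (Scheme.AffineZariskiSite.toOpens_mono f.le)) (irrelevant_site 𝒮 f.le)
  map_id U := by
    rw [map_congr _ (res_self 𝒮 U.2) (by simp), Proj.map_id]
  map_comp {W V U} f g := by
    rw [← Proj.map_comp]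
    exact map_congr _ (res_comp 𝒮 U.2 V.2 W.2 _ _).symm _

/-- The structure map of a piece. -/
noncomputable def piecesTo (U : S.AffineZariskiSite) : Proj (𝒮.deg U.1 U.2) ⟶ U.1.toScheme :=
  Proj.toSpecZero (𝒮.deg U.1 U.2) ≫ Spec.map (𝒮.strZero U.1 U.2) ≫ U.2.isoSpec.inv

theorem map_piecesTo {U V : S.AffineZariskiSite} (h : V ≤ U) :
    Proj.map (𝒮.res U.2 V.2 (Scheme.AffineZariskiSite.toOpens_mono h)) (irrelevant_site 𝒮 h) ≫ piecesTo 𝒮 U =
      piecesTo 𝒮 V ≫ S.homOfLE (Scheme.AffineZariskiSite.toOpens_mono h) := by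
  rw [← cancel_mono U.1.ι]
  simp only [piecesTo, Category.assoc, Scheme.homOfLE_ι]
  erw [IsAffineOpen.isoSpec_inv_ι U.2, IsAffineOpen.isoSpec_inv_ι V.2]
  rw [← Category.assoc, map_toSpecZero, Category.assoc, ← Spec.map_comp_assoc, res_strZero, Spec.map_comp,
    Category.assoc, U.2.map_fromSpec V.2]

theorem preimage_pieces {U V : S.AffineZariskiSite} (h : V ≤ U) :
    piecesTo 𝒮 U ⁻¹ᵁ (S.homOfLE (Scheme.AffineZariskiSite.toOpens_mono h)).opensRange =
      (⟨Set.range (Proj.map (𝒮.res U.2 V.2 (Scheme.AffineZariskiSite.toOpens_mono h)) (irrelevant_site 𝒮 h)),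
        (isOpenImmersion_map _ (isResLoc 𝒮 U.2 V.2 _ h.choose h.choose_spec.symm)).base_open.isOpen_range⟩ :
        (Proj (𝒮.deg U.1 U.2)).Opens) := by
  apply TopologicalSpace.Opens.ext
  show piecesTo 𝒮 U ⁻¹' Set.range (S.homOfLE _) = Set.range _
  rw [range_map _ (isResLoc 𝒮 U.2 V.2 _ h.choose h.choose_spec.symm)]
  ext x
  have hmem : ∀ z : U.1.toScheme, z ∈ Set.range (S.homOfLE (Scheme.AffineZariskiSite.toOpens_mono h)) ↔ U.1.ι z ∈ V.1 := by
    intro z
    constructor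
    · rintro ⟨w, rfl⟩
      rw [← Scheme.Hom.comp_apply, Scheme.homOfLE_ι]
      exact w.2
    · intro hz
      exact ⟨⟨U.1.ι z, hz⟩, U.1.ι.isOpenEmbedding.injective (by rw [← Scheme.Hom.comp_apply, Scheme.homOfLE_ι]; rfl)⟩
  rw [Set.mem_preimage, hmem, ← Scheme.Hom.comp_apply]
  simp only [piecesTo, Category.assoc]
  erw [IsAffineOpen.isoSpec_inv_ι U.2]
  rw [Scheme.Hom.comp_apply, Scheme.Hom.comp_apply, (SetLike.ext_iff.1 h.choose_spec.symm _)]
  show _ ∈ U.2.fromSpec ⁻¹ᵁ (S.basicOpen h.choose) ↔ _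
  rw [U.2.fromSpec_preimage_basicOpen]
  rfl

/-- The glueing data of the relative `Proj`. -/
noncomputable def glueData : (Scheme.AffineZariskiSite.directedCover S).RelativeGluingData where
  functor := pieces 𝒮
  natTrans :=
    { app := fun U => piecesTo 𝒮 U
      naturality := fun V U f => map_piecesTo 𝒮 f.le }
  equifibered V U f := by
    exact (@IsOpenImmersion.isPullback _ _ _ _ (piecesTo 𝒮 V) ((pieces 𝒮).map f) (S.homOfLE (Scheme.AffineZariskiSite.toOpens_mono f.le))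
      (piecesTo 𝒮 U) (isOpenImmersion_map _ (isResLoc 𝒮 U.2 V.2 _ f.le.choose f.le.choose_spec.symm)) _
      (map_piecesTo 𝒮 f.le) (preimage_pieces 𝒮 f.le)).flip

theorem exists_isRelProj : ∃ (P : Scheme.{u}) (p : P ⟶ S)
      (chart : ∀ (U : S.Opens) (hU : IsAffineOpen U), (((p ⁻¹ᵁ U : P.Opens) : Scheme.{u}) ≅ Proj (𝒮.deg U hU))),
      RelProj.IsRelProj 𝒮 p chart := by
  let d := glueData 𝒮
  haveI : (d.functor ⋙ Scheme.forget).IsLocallyDirected :=
    Scheme.Cover.RelativeGluingData.instIsLocallyDirectedI₀CompFunctorForgetOfIsThin ..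
  let p := d.toBase
  let c : ∀ (U : S.Opens) (hU : IsAffineOpen U), Proj (𝒮.deg U hU) ⟶ d.glued := fun U hU => d.cover.f ⟨U, hU⟩
  haveI : ∀ U hU, IsOpenImmersion (c U hU) := fun U hU => d.cover.map_prop _
  have hc : ∀ U hU, c U hU ≫ p = piecesTo 𝒮 ⟨U, hU⟩ ≫ U.ι := fun U hU => colimit.ι_desc _ _
  have hpre : ∀ U hU, p ⁻¹ᵁ U = (c U hU).opensRange := fun U hU => by
    simpa using! d.toBase_preimage_eq_opensRange_ι ⟨U, hU⟩
  let chart : ∀ (U : S.Opens) (hU : IsAffineOpen U), (p ⁻¹ᵁ U).toScheme ≅ Proj (𝒮.deg U hU) := fun U hU =>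
    IsOpenImmersion.isoOfRangeEq (p ⁻¹ᵁ U).ι (c U hU) (by rw [Scheme.Opens.range_ι, hpre]; rfl)
  have hchart : ∀ U hU, (chart U hU).hom ≫ c U hU = (p ⁻¹ᵁ U).ι := fun U hU =>
    IsOpenImmersion.lift_fac _ _ _
  refine ⟨d.glued, p, chart, ⟨fun U hU => ?_, fun U hU r => ?_⟩⟩
  · rw [← hchart U hU, Category.assoc, hc U hU]
    simp only [piecesTo, Category.assoc]
    erw [IsAffineOpen.isoSpec_inv_ι hU]
  · rw [← cancel_mono (c U hU), Category.assoc, Category.assoc, hchart U hU, Scheme.homOfLE_ι,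
      ← hchart (S.basicOpen r) (hU.basicOpen r)]
    congr 1
    exact (colimit.w d.functor (homOfLE (Scheme.AffineZariskiSite.basicOpen_le (⟨U, hU⟩ : S.AffineZariskiSite) r))).symm

end Groth.Agent.RelProj11
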