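import Mathlib.AlgebraicGeometry.Modules.Sheaf
import Mathlib.CategoryTheory.Limits.Preserves.Shapes.Equalizers
import Mathlib.Algebra.Category.Grp.Limits

/-!
Sections of products and equalizers of sheaves of modules.
-/

universe u

open CategoryTheory CategoryTheory.Limits AlgebraicGeometry TopologicalSpace Opposite

namespace Groth.Agent.RelProj11

/-- The homomorphism out of `ℤ` given by an element. -/
noncomputable def elemHom {A : AddCommGrpCat.{u}} (x : A) : AddCommGrpCat.of (ULift.{u} ℤ) ⟶ A :=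
  AddCommGrpCat.ofHom ((zmultiplesHom A x).comp AddEquiv.ulift.toAddMonoidHom)

theorem elemHom_one {A : AddCommGrpCat.{u}} (x : A) : elemHom x ⟨1⟩ = x := one_zsmul x

theorem elemHom_ext {A : AddCommGrpCat.{u}} {f g : AddCommGrpCat.of (ULift.{u} ℤ) ⟶ A} (h : f ⟨1⟩ = g ⟨1⟩) :
    f = g := by
  ext x
  obtain ⟨m⟩ := x
  have e : (⟨m⟩ : ULift.{u} ℤ) = m • ⟨1⟩ := ULift.ext _ _ (by simp)
  rw [e]
  exact ((map_zsmul f.hom m _).trans (congrArg (m • ·) h)).trans (map_zsmul g.hom m _).symm

section Gamma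

variable {X : Scheme.{u}} (W : X.Opens)

/-- Sections over `W`, as a functor. -/
noncomputable def gammaAt : X.Modules ⥤ AddCommGrpCat.{u} :=
  Scheme.Modules.toPresheaf X ⋙ (CategoryTheory.evaluation _ _).obj (op W)

instance gammaAt_preservesLimits : PreservesLimits (gammaAt W) :=
  haveI : PreservesLimits ((CategoryTheory.evaluation (Opens X)ᵒᵖ AddCommGrpCat.{u}).obj (op W)) := evaluationPreservesLimits _
  comp_preservesLimits (Scheme.Modules.toPresheaf X) ((CategoryTheory.evaluation _ _).obj (op W))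

theorem exists_pi_section {ι : Type u} (M : ι → X.Modules) (t : ∀ i, Γ(M i, W)) :
    ∃ s : Γ(∏ᶜ M, W), ∀ i, (Pi.π M i).app W s = t i := by
  have hl := isLimitOfPreserves (gammaAt W) (limit.isLimit (Discrete.functor M))
  let c : Cone (Discrete.functor M ⋙ gammaAt W) :=
    { pt := AddCommGrpCat.of (ULift.{u} ℤ)
      π := Discrete.natTrans fun i => elemHom (t i.as) }
  refine ⟨hl.lift c ⟨1⟩, fun i => ?_⟩
  exact (ConcreteCategory.congr_hom (hl.fac c ⟨i⟩) ⟨1⟩).trans (elemHom_one _)

theorem pi_section_ext {ι : Type u} (M : ι → X.Modules) {s s' : Γ(∏ᶜ M, W)}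
    (h : ∀ i, (Pi.π M i).app W s = (Pi.π M i).app W s') : s = s' := by
  have hl := isLimitOfPreserves (gammaAt W) (limit.isLimit (Discrete.functor M))
  have e : (elemHom (A := (gammaAt W).obj (∏ᶜ M)) s) = elemHom s' := hl.hom_ext fun i => elemHom_ext
    ((congrArg (fun z => (Pi.π M i.as).app W z) (elemHom_one (A := (gammaAt W).obj (∏ᶜ M)) s)).trans
      ((h i.as).trans (congrArg (fun z => (Pi.π M i.as).app W z) (elemHom_one (A := (gammaAt W).obj (∏ᶜ M)) s')).symm))
  exact (elemHom_one (A := (gammaAt W).obj (∏ᶜ M)) s).symm.trans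
    ((ConcreteCategory.congr_hom e ⟨1⟩).trans (elemHom_one (A := (gammaAt W).obj (∏ᶜ M)) s'))

theorem exists_equalizer_section {M N : X.Modules} (f g : M ⟶ N) (s : Γ(M, W)) (h : f.app W s = g.app W s) :
    ∃ e : Γ(equalizer f g, W), (equalizer.ι f g).app W e = s := by
  have hl := isLimitForkMapOfIsLimit (gammaAt W) _ (equalizerIsEqualizer f g)
  obtain ⟨l, hl'⟩ := Fork.IsLimit.lift' hl (elemHom (A := (gammaAt W).obj M) s) (elemHom_ext
    ((congrArg (fun z => f.app W z) (elemHom_one (A := (gammaAt W).obj M) s)).trans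
      (h.trans (congrArg (fun z => g.app W z) (elemHom_one (A := (gammaAt W).obj M) s)).symm)))
  exact ⟨l ⟨1⟩, (ConcreteCategory.congr_hom hl' ⟨1⟩).trans (elemHom_one _)⟩

theorem equalizer_section_ext {M N : X.Modules} (f g : M ⟶ N) {e e' : Γ(equalizer f g, W)}
    (h : (equalizer.ι f g).app W e = (equalizer.ι f g).app W e') : e = e' := by
  have hl := isLimitForkMapOfIsLimit (gammaAt W) _ (equalizerIsEqualizer f g)
  have h' : elemHom (A := (gammaAt W).obj (equalizer f g)) e = elemHom e' := Fork.IsLimit.hom_ext hl (elemHom_ext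
    ((congrArg (fun z => (equalizer.ι f g).app W z) (elemHom_one (A := (gammaAt W).obj (equalizer f g)) e)).trans
      (h.trans (congrArg (fun z => (equalizer.ι f g).app W z) (elemHom_one (A := (gammaAt W).obj (equalizer f g)) e')).symm)))
  exact (elemHom_one (A := (gammaAt W).obj (equalizer f g)) e).symm.trans
    ((ConcreteCategory.congr_hom h' ⟨1⟩).trans (elemHom_one (A := (gammaAt W).obj (equalizer f g)) e'))

end Gamma

end Groth.Agent.RelProj11
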