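import Groth.Agent.Lib.RelProj11.Basic
import Mathlib.AlgebraicGeometry.ProjectiveSpectrum.Functor

/-!
The open `X_f` of a relative `Proj` for a global section `f`.
-/

universe u

open CategoryTheory CategoryTheory.Limits AlgebraicGeometry TopologicalSpace Opposite
open scoped HomogeneousIdeal

namespace Groth.Agent.RelProj11

variable {S P : Scheme.{u}} {𝒮 : RelProj.QCGrAlg S} {p : P ⟶ S}
  {chart : ∀ (U : S.Opens) (hU : IsAffineOpen U), ((p ⁻¹ᵁ U : P.Opens) : Scheme.{u}) ≅ Proj (𝒮.deg U hU)}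

variable (chart) in
/-- The part of `X_f` over an affine open. -/
noncomputable def basicPart (U : S.Opens) (hU : IsAffineOpen U) (f : 𝒮.presheaf.obj (op ⊤)) : P.Opens :=
  (p ⁻¹ᵁ U).ι ''ᵁ ((chart U hU).hom ⁻¹ᵁ
    Proj.basicOpen (𝒮.deg U hU) ((𝒮.presheaf.map (homOfLE le_top).op).hom f))

theorem mem_basicPart_iff {U : S.Opens} {hU : IsAffineOpen U} {f : 𝒮.presheaf.obj (op ⊤)} (x : P)
    (hx : x ∈ p ⁻¹ᵁ U) :
    x ∈ basicPart chart U hU f ↔ (chart U hU).hom ⟨x, hx⟩ ∈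
      Proj.basicOpen (𝒮.deg U hU) ((𝒮.presheaf.map (homOfLE le_top).op).hom f) := by
  constructor
  · rintro ⟨z, hz, rfl⟩; exact hz
  · exact fun h => ⟨⟨x, hx⟩, h, rfl⟩

theorem basicPart_le {U : S.Opens} {hU : IsAffineOpen U} {f : 𝒮.presheaf.obj (op ⊤)} :
    basicPart chart U hU f ≤ p ⁻¹ᵁ U := by
  rintro _ ⟨z, -, rfl⟩; exact z.2

theorem mem_basicPart_res (hP : RelProj.IsRelProj 𝒮 p chart) {U D : S.Opens} (hU : IsAffineOpen U) (hD : IsAffineOpen D)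
    (r : Γ(S, U)) (e : D = S.basicOpen r) (f : 𝒮.presheaf.obj (op ⊤)) (x : P) (hx : x ∈ p ⁻¹ᵁ D) :
    x ∈ basicPart chart U hU f ↔ x ∈ basicPart chart D hD f := by
  subst e
  have hle := S.basicOpen_le r
  rw [mem_basicPart_iff x (p.preimage_mono hle hx), mem_basicPart_iff x hx]
  have h1 : (chart U hU).hom ⟨x, p.preimage_mono hle hx⟩ =
      Proj.map (𝒮.res hU (hU.basicOpen r) hle) (𝒮.irrelevant_le_map U hU r)
        ((chart (S.basicOpen r) hD).hom ⟨x, hx⟩) := by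
    have h2 := congr($(hP.chart_res U hU r) (⟨x, hx⟩ : (p ⁻¹ᵁ S.basicOpen r).toScheme))
    rw [Scheme.Hom.comp_apply, Scheme.Hom.comp_apply] at h2
    refine Eq.trans ?_ h2
    congr 1
    apply (p ⁻¹ᵁ U).ι.isOpenEmbedding.injective
    rw [← Scheme.Hom.comp_apply, Scheme.homOfLE_ι]
    rfl
  rw [h1]
  rw [← Scheme.Hom.mem_preimage, Proj.map_preimage_basicOpen, RelProj.QCGrAlg.res_apply, ← CommRingCat.comp_apply,
    ← Functor.map_comp]
  rfl

theorem basicPart_inf (hP : RelProj.IsRelProj 𝒮 p chart) (f : 𝒮.presheaf.obj (op ⊤)) {U V : S.Opens}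
    (hU : IsAffineOpen U) (hV : IsAffineOpen V) :
    basicPart chart U hU f ⊓ p ⁻¹ᵁ V ≤ basicPart chart V hV f := by
  rintro x ⟨hxU, hxV⟩
  obtain ⟨r, t, e, hx⟩ := exists_basicOpen_le_affine_inter hU hV (p x) ⟨basicPart_le hxU, hxV⟩
  have h := (mem_basicPart_res hP hU (hU.basicOpen r) r rfl f x hx).1 hxU
  exact (mem_basicPart_res hP hV (hU.basicOpen r) t e f x hx).2 h

theorem exists_basicOpen_section (hP : RelProj.IsRelProj 𝒮 p chart) {d : ℕ} (hd : 0 < d) (f : 𝒮.presheaf.obj (op ⊤))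
    (hf : ∀ (U : S.Opens) (hU : IsAffineOpen U), (𝒮.presheaf.map (homOfLE le_top).op).hom f ∈ 𝒮.deg U hU d) :
    ∃ Xf : P.Opens, (∀ (U : S.Opens) (hU : IsAffineOpen U), Xf ⊓ p ⁻¹ᵁ U = basicPart chart U hU f) ∧
      IsAffineHom (Xf.ι ≫ p) := by
  let Xf : P.Opens := ⨆ U : S.affineOpens, basicPart chart U.1 U.2 f
  have h1 : ∀ (U : S.Opens) (hU : IsAffineOpen U), Xf ⊓ p ⁻¹ᵁ U = basicPart chart U hU f := fun U hU =>
    le_antisymm (by rw [iSup_inf_eq]; exact iSup_le fun V => basicPart_inf hP f V.2 hU)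
      (le_inf (le_iSup (fun U : S.affineOpens => basicPart chart U.1 U.2 f) ⟨U, hU⟩) basicPart_le)
  refine ⟨Xf, h1, ⟨fun U hU => ?_⟩⟩
  show IsAffineOpen ((Xf.ι ≫ p) ⁻¹ᵁ U)
  rw [← Xf.ι.isAffineOpen_iff_of_isOpenImmersion, Scheme.Hom.comp_preimage, Scheme.Hom.image_preimage_eq_opensRange_inf,
    Scheme.Opens.opensRange_ι, h1 U hU, basicPart]
  exact ((Proj.isAffineOpen_basicOpen _ _ (hf U hU) hd).preimage_of_isIso _).image_of_isOpenImmersion _

end Groth.Agent.RelProj11
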