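import Groth.Agent.Lib.RelProj11.Twist
import Groth.Agent.Lib.RelProj11.Xf

/-!
The twisting sheaves `O(nd)` are free on `X_f`.
-/

universe u

open CategoryTheory CategoryTheory.Limits AlgebraicGeometry TopologicalSpace Opposite
open scoped HomogeneousIdeal

namespace Groth.Agent.RelProj11

open Groth.Agent.M1

/-- A section generating locally generates everywhere. -/
theorem bijective_smul_of_locally {X : Scheme.{u}} (M : X.Modules) (U : X.Opens) (s : Γ(M, U)) {ι : Type u}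
    (C : ι → X.Opens) (hC : U ≤ iSup C)
    (h : ∀ (i : ι) (V : X.Opens) (hV : V ≤ U), V ≤ C i →
      Function.Bijective fun r : Γ(X, V) => r • mres M hV s)
    (V : X.Opens) (hV : V ≤ U) : Function.Bijective fun r : Γ(X, V) => r • mres M hV s := by
  have hsh : TopCat.Presheaf.IsSheaf M.presheaf := M.isSheaf
  let W : ι → X.Opens := fun i => V ⊓ C i
  have hW : V ≤ iSup W := fun x hx => by
    obtain ⟨i, hi⟩ := Opens.mem_iSup.1 (hC (hV hx))
    exact Opens.mem_iSup.2 ⟨i, hx, hi⟩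
  have key : ∀ (r : Γ(X, V)) (A : X.Opens) (hA : A ≤ V),
      mres M hA (r • mres M hV s) = X.presheaf.map (homOfLE hA).op r • mres M (hA.trans hV) s := fun r A hA => by
    rw [← mres_mres M hV hA s]
    exact Scheme.Modules.map_smul M (homOfLE hA) r _
  constructor
  · intro r r' hr
    refine X.sheaf.eq_of_locally_eq' W V (fun i => homOfLE inf_le_left) hW r r' fun i => ?_
    refine (h i (W i) (inf_le_left.trans hV) inf_le_right).1 ?_
    show X.presheaf.map (homOfLE inf_le_left).op r • _ = X.presheaf.map (homOfLE inf_le_left).op r' • _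
    rw [← key r _ inf_le_left, ← key r' _ inf_le_left]
    exact congrArg _ hr
  · intro t
    choose ρ hρ using fun i => (h i (W i) (inf_le_left.trans hV) inf_le_right).2 (mres M inf_le_left t)
    have hρ' : ∀ (i : ι) (A : X.Opens) (hA : A ≤ W i),
        X.presheaf.map (homOfLE hA).op (ρ i) • mres M (hA.trans (inf_le_left.trans hV)) s =
          mres M (hA.trans inf_le_left) t := fun i A hA => by
      rw [← mres_mres M (inf_le_left : W i ≤ V) hA t, ← hρ i, ← mres_mres M (inf_le_left.trans hV) hA s]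
      exact (Scheme.Modules.map_smul M (homOfLE hA) (ρ i) _).symm
    obtain ⟨r, hr⟩ : ∃ r : Γ(X, V), ∀ i, X.presheaf.map (homOfLE (inf_le_left : W i ≤ V)).op r = ρ i := by
      obtain ⟨r, hr, -⟩ := X.sheaf.existsUnique_gluing' W V (fun i => homOfLE inf_le_left) hW ρ fun i j => by
        refine (h i (W i ⊓ W j) (inf_le_left.trans (inf_le_left.trans hV)) (inf_le_left.trans inf_le_right)).1 ?_
        exact (hρ' i _ inf_le_left).trans (hρ' j _ inf_le_right).symm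
      exact ⟨r, hr⟩
    refine ⟨r, TopCat.Sheaf.eq_of_locally_eq' ⟨M.presheaf, hsh⟩ W V (fun i => homOfLE inf_le_left) hW _ _ fun i => ?_⟩
    show mres M inf_le_left (r • mres M hV s) = mres M inf_le_left t
    rw [key, ← hρ i]
    exact congrArg (fun z => z • _) (hr i)

variable {S P : Scheme.{u}} {𝒮 : RelProj.QCGrAlg S} {p : P ⟶ S}
  {chart : ∀ (U : S.Opens) (hU : IsAffineOpen U), ((p ⁻¹ᵁ U : P.Opens) : Scheme.{u}) ≅ Proj (𝒮.deg U hU)}

theorem le_opensRange_emb {U : S.Opens} {hU : IsAffineOpen U} {V : P.Opens} (h : V ≤ p ⁻¹ᵁ U) :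
    V ≤ (RelProj.emb p chart U hU).opensRange := by
  show V ≤ ((chart U hU).inv ≫ (p ⁻¹ᵁ U).ι).opensRange
  rw [Scheme.Hom.opensRange_comp_of_isIso, Scheme.Opens.opensRange_ι]
  exact h

theorem locMap_mk' {A B σ τ : Type u} [CommRing A] [SetLike σ A] [AddSubgroupClass σ A] {𝒜 : ℕ → σ} [GradedRing 𝒜]
    [CommRing B] [SetLike τ B] [AddSubgroupClass τ B] {ℬ : ℕ → τ} [GradedRing ℬ] (ψ : 𝒜 →+*ᵍ ℬ)
    (hψ : ℬ₊ ≤ (𝒜₊).map ψ) (y : ProjectiveSpectrum ℬ) (a : A) (s : A)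
    (hs : s ∉ (ProjectiveSpectrum.comap ψ hψ y).asHomogeneousIdeal) :
    GrTwist.locMap ψ hψ y (Localization.mk a ⟨s, hs⟩) = Localization.mk (ψ a) ⟨ψ s, hs⟩ :=
  GrTwist.locMap_mk ψ hψ y a ⟨s, hs⟩

theorem exists_iso_relTwist_Xf (hP : RelProj.IsRelProj 𝒮 p chart) {d : ℕ}
    (f : 𝒮.presheaf.obj (op ⊤))
    (hf : ∀ (U : S.Opens) (hU : IsAffineOpen U), (𝒮.presheaf.map (homOfLE le_top).op).hom f ∈ 𝒮.deg U hU d)
    (Xf : P.Opens) (hXf : ∀ (U : S.Opens) (hU : IsAffineOpen U), Xf ⊓ p ⁻¹ᵁ U = basicPart chart U hU f)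
    (n : ℤ) (L : P.Modules)
    (lam : ∀ (U : S.Opens) (hU : IsAffineOpen U),
      L ⟶ (Scheme.Modules.pushforward (RelProj.emb p chart U hU)).obj (GrTwist.twist (𝒮.deg U hU) (n * (d : ℤ))))
    (hL : RelProj.IsRelTwist 𝒮 p chart (n * (d : ℤ)) L lam) :
    Nonempty (L.restrict Xf.ι ≅ Coh.structureModule (Xf : Scheme.{u})) := by
  classical
  -- the exponents of numerator and denominator
  obtain ⟨a, b, hab⟩ : ∃ a b : ℕ, n = (a : ℤ) - b := ⟨n.toNat, (-n).toNat, (Int.toNat_sub_toNat_neg n).symm⟩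
  let fU : ∀ U : S.Opens, 𝒮.presheaf.obj (op U) := fun U => (𝒮.presheaf.map (homOfLE le_top).op).hom f
  have hres : ∀ {U D : S.Opens} (i : D ≤ U), (𝒮.presheaf.map (homOfLE i).op).hom (fU U) = fU D := fun i => by
    simp only [fU]
    rw [← CommRingCat.comp_apply, ← Functor.map_comp]
    rfl
  have hD : ∀ (U : S.Opens) (hU : IsAffineOpen U) (V : P.Opens), V ≤ Xf →
      RelProj.emb p chart U hU ⁻¹ᵁ V ≤ Proj.basicOpen (𝒮.deg U hU) (fU U) := by
    intro U hU V hV y hy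
    have h1 : RelProj.emb p chart U hU y ∈ Xf ⊓ p ⁻¹ᵁ U := ⟨hV hy, ((chart U hU).inv y).2⟩
    rw [hXf U hU, mem_basicPart_iff (RelProj.emb p chart U hU y) ((chart U hU).inv y).2] at h1
    have e : (chart U hU).hom ⟨RelProj.emb p chart U hU y, ((chart U hU).inv y).2⟩ = y := by
      have h2 : (⟨RelProj.emb p chart U hU y, ((chart U hU).inv y).2⟩ : (p ⁻¹ᵁ U).toScheme) = (chart U hU).inv y :=
        Subtype.ext (Scheme.Hom.comp_apply _ _ _)
      rw [h2, ← Scheme.Hom.comp_apply, Iso.inv_hom_id]; rfl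
    exact e ▸ h1
  have hDk : ∀ (U : S.Opens) (hU : IsAffineOpen U) (V : P.Opens), V ≤ Xf → ∀ k : ℕ,
      RelProj.emb p chart U hU ⁻¹ᵁ V ≤ Proj.basicOpen (𝒮.deg U hU) (fU U ^ k) :=
    fun U hU V hV k y hy h => hD U hU V hV hy (y.isPrime.mem_of_pow_mem k h)
  let e : ∀ (U : S.Opens) (hU : IsAffineOpen U) (V : P.Opens), V ≤ Xf →
      GrTw11.Sec (𝒜 := 𝒮.deg U hU) (n * (d : ℤ)) (RelProj.emb p chart U hU ⁻¹ᵁ V) :=
    fun U hU V hV => GrTw11.frac (𝒮.deg U hU) _ (SetLike.pow_mem_graded a (hf U hU)) (SetLike.pow_mem_graded b (hf U hU))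
      (by simp only [smul_eq_mul]; push_cast; rw [hab]; ring) (hDk U hU V hV b)
  let W : S.affineOpens → P.Opens := fun U => Xf ⊓ p ⁻¹ᵁ U.1
  have hσ : ∀ U : S.affineOpens, ∃ σ : Γ(L, W U), (lam U.1 U.2).app (W U) σ = e U.1 U.2 (W U) inf_le_left :=
    fun U => (hL.bijective U.1 U.2 (W U) inf_le_right).2 _
  choose σ hσ using hσ
  have hσV : ∀ (U : S.affineOpens) (V : P.Opens) (h : V ≤ W U),
      (lam U.1 U.2).app V (mres L h (σ U)) = e U.1 U.2 V (h.trans inf_le_left) := fun U V h => by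
    rw [app_mres, hσ]; rfl
  have hbasic : ∀ (U : S.affineOpens) (D : S.affineOpens) (r : Γ(S, U.1)), D.1 = S.basicOpen r →
      ∀ (V : P.Opens) (hVU : V ≤ W U) (hVD : V ≤ W D), mres L hVU (σ U) = mres L hVD (σ D) := by
    rintro U ⟨D, hDa⟩ r (rfl : D = _) V hVU hVD
    refine (hL.bijective (S.basicOpen r) hDa V (hVD.trans inf_le_right)).1 ?_
    rw [hσV ⟨S.basicOpen r, hDa⟩ V hVD]
    refine GrTw11.sec_ext fun y hy => ?_
    have hy' : RelProj.emb p chart U.1 U.2 (ProjectiveSpectrum.comap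
        (𝒮.res U.2 hDa (S.basicOpen_le r)) (𝒮.irrelevant_le_map U.1 U.2 r) y) ∈ V := by
      have h1 := congr($(RelProj.map_res_emb hP U.1 U.2 r) y)
      rw [Scheme.Hom.comp_apply] at h1
      exact h1 ▸ hy
    refine (hL.compat U.1 U.2 r V (mres L hVU (σ U)) y hy hy').trans ?_
    rw [hσV U V hVU]
    refine (locMap_mk' _ _ y (fU U.1 ^ a) (fU U.1 ^ b) _).trans ?_
    refine Localization.mk_eq_mk_iff.2 (Localization.r_iff_exists.2 ⟨1, ?_⟩)
    simp only [RelProj.QCGrAlg.res_apply, map_pow, hres]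
    rfl
  have hcomp : ∀ U U' : S.affineOpens, mres L (inf_le_left : W U ⊓ W U' ≤ W U) (σ U) =
      mres L (inf_le_right : W U ⊓ W U' ≤ W U') (σ U') := by
    intro U U'
    let I := {D : S.affineOpens // ∃ (r : Γ(S, U.1)) (t : Γ(S, U'.1)), D.1 = S.basicOpen r ∧ D.1 = S.basicOpen t}
    refine TopCat.Sheaf.eq_of_locally_eq' ⟨L.presheaf, L.isSheaf⟩ (fun D : I => W D.1 ⊓ (W U ⊓ W U')) _
      (fun D => homOfLE inf_le_right) (fun x hx => ?_) _ _ fun D => ?_
    · obtain ⟨r, t, h, hxr⟩ := exists_basicOpen_le_affine_inter U.2 U'.2 (p x) ⟨hx.1.2, hx.2.2⟩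
      exact Opens.mem_iSup.2 ⟨⟨⟨S.basicOpen r, U.2.basicOpen r⟩, r, t, rfl, h⟩, ⟨hx.1.1, hxr⟩, hx⟩
    · obtain ⟨D, r, t, hr, ht⟩ := D
      show mres L inf_le_right (mres L inf_le_left (σ U)) = mres L inf_le_right (mres L inf_le_right (σ U'))
      rw [mres_mres, mres_mres, hbasic U D r hr _ _ (inf_le_left : W D ⊓ (W U ⊓ W U') ≤ W D),
        hbasic U' D t ht _ _ (inf_le_left : W D ⊓ (W U ⊓ W U') ≤ W D)]
  have hcov : Xf ≤ iSup W := fun x hx => by
    obtain ⟨U, hU, hxU⟩ := exists_mem_preimage (p := p) x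
    exact Opens.mem_iSup.2 ⟨⟨U, hU⟩, hx, hxU⟩
  obtain ⟨τ, hτ, -⟩ := TopCat.Sheaf.existsUnique_gluing' ⟨L.presheaf, L.isSheaf⟩ W Xf
    (fun U => homOfLE inf_le_left) hcov σ hcomp
  refine Twist.nonempty_restrict_iso L Xf τ
    (bijective_smul_of_locally L Xf τ W hcov fun U V hV hVW => ?_)
  have hτV : mres L hV τ = mres L hVW (σ U) := by
    rw [← mres_mres L (inf_le_left : W U ≤ Xf) hVW τ]
    exact congrArg (mres L hVW) (hτ U)
  have hb := hL.bijective U.1 U.2 V (hVW.trans inf_le_right)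
  rw [← hb.of_comp_iff' (fun r : Γ(P, V) => r • mres L hV τ)]
  let e' : GrTw11.Sec (𝒜 := 𝒮.deg U.1 U.2) (-(n * (d : ℤ))) (RelProj.emb p chart U.1 U.2 ⁻¹ᵁ V) :=
    GrTw11.frac (𝒮.deg U.1 U.2) _ (SetLike.pow_mem_graded b (hf U.1 U.2)) (SetLike.pow_mem_graded a (hf U.1 U.2))
      (by simp only [smul_eq_mul]; push_cast; rw [hab]; ring) (hDk U.1 U.2 V hV a)
  have hgen := GrTw11.bijective_smul_of_inverse (e U.1 U.2 V hV) e'
    (fun x hx => GrTw11.mk_mul_mk_eq_one _ (hDk U.1 U.2 V hV a hx) (hDk U.1 U.2 V hV b hx)) _ le_rfl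
  haveI := Scheme.Hom.isIso_app (RelProj.emb p chart U.1 U.2) V (le_opensRange_emb (hVW.trans inf_le_right))
  have hφ := ConcreteCategory.bijective_of_isIso ((RelProj.emb p chart U.1 U.2).app V)
  let T := GrTwist.twist (𝒮.deg U.1 U.2) (n * (d : ℤ))
  let eV : Γ(T, RelProj.emb p chart U.1 U.2 ⁻¹ᵁ V) := e U.1 U.2 V hV
  let G : Γ(Proj (𝒮.deg U.1 U.2), RelProj.emb p chart U.1 U.2 ⁻¹ᵁ V) → Γ(T, RelProj.emb p chart U.1 U.2 ⁻¹ᵁ V) :=
    fun r' => r' • mres T le_rfl eV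
  have hG : Function.Bijective G := hgen
  have key : ∀ r : Γ(P, V), ((lam U.1 U.2).app V (r • mres L hV τ) : Γ(T, RelProj.emb p chart U.1 U.2 ⁻¹ᵁ V)) =
      G ((RelProj.emb p chart U.1 U.2).app V r) := fun r => by
    rw [Scheme.Modules.Hom.app_smul, hτV, hσV U V hVW]
    show _ = ((RelProj.emb p chart U.1 U.2).app V r) • mres T le_rfl eV
    rw [mres_id]
    rfl
  have hF := hG.comp hφ
  constructor
  · intro r r' hr
    exact hF.1 (((key r).symm.trans hr).trans (key r'))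
  · intro t
    obtain ⟨r, hr⟩ := hF.2 t
    exact ⟨r, (key r).trans hr⟩

end Groth.Agent.RelProj11
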