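import Groth.Agent.Lib.RelProj11.TwistRes
import Groth.Agent.Lib.RelProj11.TwistTriv
import Groth.Agent.Lib.RelProj11.GammaLim
import Mathlib.CategoryTheory.Limits.Preserves.Shapes.Equalizers
import Mathlib.Algebra.Category.Grp.Limits

/-!
Existence of the twisting sheaves on a relative `Proj`.
-/

universe u

open CategoryTheory CategoryTheory.Limits AlgebraicGeometry TopologicalSpace Opposite
open scoped HomogeneousIdeal

namespace Groth.Agent.RelProj11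

open Groth.Agent.M1

variable {S P : Scheme.{u}} {𝒮 : RelProj.QCGrAlg S} {p : P ⟶ S}
  {chart : ∀ (U : S.Opens) (hU : IsAffineOpen U), ((p ⁻¹ᵁ U : P.Opens) : Scheme.{u}) ≅ Proj (𝒮.deg U hU)}
  (hP : RelProj.IsRelProj 𝒮 p chart) (n : ℤ)

theorem exists_common_basic {U V : S.Opens} (hU : IsAffineOpen U) (hV : IsAffineOpen V) (x : S) (hx : x ∈ U ⊓ V) :
    ∃ D : S.Opens, IsAffineOpen D ∧ IsBasic U D ∧ IsBasic V D ∧ x ∈ D := by
  obtain ⟨r, t, e, hxr⟩ := exists_basicOpen_le_affine_inter hU hV x hx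
  exact ⟨S.basicOpen r, hU.basicOpen r, ⟨r, rfl⟩, ⟨t, e⟩, hxr⟩

variable (chart) in
theorem mres_fam_bijective {V : S.Opens} (hV : IsAffineOpen V) {A A' : P.Opens} (h : A' ≤ A)
    (e : RelProj.emb p chart V hV ⁻¹ᵁ A' = RelProj.emb p chart V hV ⁻¹ᵁ A) :
    Function.Bijective (mres (fam chart n V hV) h) := by
  show Function.Bijective ((GrTwist.twist (𝒮.deg V hV) n).presheaf.map
    (homOfLE (show RelProj.emb p chart V hV ⁻¹ᵁ A' ≤ RelProj.emb p chart V hV ⁻¹ᵁ A from e.le)).op)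
  have hi : IsIso (homOfLE (show RelProj.emb p chart V hV ⁻¹ᵁ A' ≤ RelProj.emb p chart V hV ⁻¹ᵁ A from e.le)).op :=
    ⟨⟨(homOfLE e.ge).op, Subsingleton.elim _ _, Subsingleton.elim _ _⟩⟩
  exact ConcreteCategory.bijective_of_isIso ((GrTwist.twist (𝒮.deg V hV) n).presheaf.map
    (homOfLE (show RelProj.emb p chart V hV ⁻¹ᵁ A' ≤ RelProj.emb p chart V hV ⁻¹ᵁ A from e.le)).op)

/-- Pairs of affine opens, the second basic in the first. -/
abbrev BasicPair (S : Scheme.{u}) : Type u := {q : S.affineOpens × S.affineOpens // IsBasic q.1.1 q.2.1}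

variable (chart) in
/-- The family of chartwise twisting sheaves. -/
noncomputable abbrev famI : S.affineOpens → P.Modules := fun U => fam chart n U.1 U.2

variable (chart) in
/-- Their restrictions. -/
noncomputable abbrev famJ : BasicPair S → P.Modules := fun j => fam chart n j.1.2.1 j.1.2.2

variable (chart) in
/-- The value on the smaller open. -/
noncomputable def eqLeft : ∏ᶜ famI chart n ⟶ ∏ᶜ famJ chart n :=
  Pi.lift fun j => Pi.π (famI chart n) j.1.2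

/-- The restriction of the value on the bigger open. -/
noncomputable def eqRight : ∏ᶜ famI chart n ⟶ ∏ᶜ famJ chart n :=
  Pi.lift fun j => Pi.π (famI chart n) j.1.1 ≫ resMap hP n j.1.1.2 j.1.2.2 j.2

/-- The glued twisting sheaf. -/
noncomputable def glued : P.Modules := equalizer (eqLeft chart n) (eqRight hP n)

/-- Its chartwise identifications. -/
noncomputable def gluedTo (U : S.Opens) (hU : IsAffineOpen U) : glued hP n ⟶ fam chart n U hU :=
  equalizer.ι (eqLeft chart n) (eqRight hP n) ≫ Pi.π (famI chart n) ⟨U, hU⟩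

theorem gluedTo_resMap {U D : S.Opens} (hU : IsAffineOpen U) (hD : IsAffineOpen D) (h : IsBasic U D) :
    gluedTo hP n U hU ≫ resMap hP n hU hD h = gluedTo hP n D hD := by
  have e := equalizer.condition (eqLeft chart n) (eqRight hP n) =≫ Pi.π (famJ chart n) ⟨(⟨U, hU⟩, ⟨D, hD⟩), h⟩
  simp only [eqLeft, eqRight, Category.assoc, Pi.lift_π] at e
  rw [gluedTo, gluedTo, Category.assoc]
  exact e.symm

theorem gluedTo_ext (W : P.Opens) {s s' : Γ(glued hP n, W)}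
    (h : ∀ (V : S.Opens) (hV : IsAffineOpen V), (gluedTo hP n V hV).app W s = (gluedTo hP n V hV).app W s') :
    s = s' :=
  equalizer_section_ext W _ _ (pi_section_ext W _ fun V => h V.1 V.2)

theorem isSheaf_eq_of_locally {M : P.Modules} {A : P.Opens} {κ : Type u} (C : κ → P.Opens) (hC : ∀ k, C k ≤ A)
    (hcov : A ≤ iSup C) (s t : Γ(M, A)) (h : ∀ k, mres M (hC k) s = mres M (hC k) t) : s = t :=
  TopCat.Sheaf.eq_of_locally_eq' ⟨M.presheaf, M.isSheaf⟩ C A (fun k => homOfLE (hC k)) hcov s t h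

theorem resMap_app_comp {U D E : S.Opens} (hU : IsAffineOpen U) (hD : IsAffineOpen D) (hE : IsAffineOpen E)
    (h : IsBasic U D) (h' : IsBasic D E) (A : P.Opens) (x : Γ(fam chart n U hU, A)) :
    (resMap hP n hD hE h').app A ((resMap hP n hU hD h).app A x) = (resMap hP n hU hE (h.trans hU h')).app A x :=
  congr($(congrArg (fun φ => Scheme.Modules.Hom.app φ A) (resMap_comp hP n hU hD hE h h')) x)

theorem exists_gluedTo_eq {U : S.Opens} (hU : IsAffineOpen U) {W : P.Opens} (hW : W ≤ p ⁻¹ᵁ U)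
    (t : Γ(fam chart n U hU, W)) : ∃ s : Γ(glued hP n, W), (gluedTo hP n U hU).app W s = t := by
  classical
  -- the opens basic in both
  let K : S.affineOpens → Type u := fun V => {D : S.affineOpens // IsBasic U D.1 ∧ IsBasic V.1 D.1}
  have hsec : ∀ V : S.affineOpens, ∃ s : Γ(famI chart n V, W), ∀ D : K V,
      (resMap hP n V.2 D.1.2 D.2.2).app _ (mres (famI chart n V) (inf_le_left : W ⊓ p ⁻¹ᵁ D.1.1 ≤ W) s) =
        (resMap hP n hU D.1.2 D.2.1).app _ (mres (fam chart n U hU) inf_le_left t) := by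
    intro V
    let A : K V → P.Opens := fun D => W ⊓ p ⁻¹ᵁ D.1.1
    choose τ hτ using fun D : K V => (resMap_bijective hP n V.2 D.1.2 D.2.2 (inf_le_right : A D ≤ _)).2
      ((resMap hP n hU D.1.2 D.2.1).app (A D) (mres (fam chart n U hU) inf_le_left t))
    have hcompat : ∀ D D' : K V, mres (famI chart n V) (inf_le_left : A D ⊓ A D' ≤ A D) (τ D) =
        mres (famI chart n V) (inf_le_right : A D ⊓ A D' ≤ A D') (τ D') := by
      intro D D'
      let J := {E : S.affineOpens // IsBasic D.1.1 E.1 ∧ IsBasic D'.1.1 E.1}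
      refine isSheaf_eq_of_locally (fun E : J => (A D ⊓ A D') ⊓ p ⁻¹ᵁ E.1.1) (fun E => inf_le_left) (fun x hx => ?_) _ _ fun E => ?_
      · obtain ⟨E, hE, h1, h2, hxE⟩ := exists_common_basic D.1.2 D'.1.2 (p x) ⟨hx.1.2, hx.2.2⟩
        exact Opens.mem_iSup.2 ⟨⟨⟨E, hE⟩, h1, h2⟩, hx, hxE⟩
      · refine (resMap_bijective hP n V.2 E.1.2 (D.2.2.trans V.2 E.2.1) (inf_le_right : (A D ⊓ A D') ⊓ p ⁻¹ᵁ E.1.1 ≤ _)).1 ?_
        rw [mres_mres, mres_mres]
        conv_lhs => rw [← resMap_app_comp hP n V.2 D.1.2 E.1.2 D.2.2 E.2.1, app_mres, hτ, ← app_mres, mres_mres,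
          resMap_app_comp hP n hU D.1.2 E.1.2 D.2.1 E.2.1]
        conv_rhs => rw [← resMap_app_comp hP n V.2 D'.1.2 E.1.2 D'.2.2 E.2.2, app_mres, hτ, ← app_mres, mres_mres,
          resMap_app_comp hP n hU D'.1.2 E.1.2 D'.2.1 E.2.2]
    have hcov : W ⊓ p ⁻¹ᵁ V.1 ≤ iSup A := fun x hx => by
      obtain ⟨D, hD, h1, h2, hxD⟩ := exists_common_basic hU V.2 (p x) ⟨hW hx.1, hx.2⟩
      exact Opens.mem_iSup.2 ⟨⟨⟨D, hD⟩, h1, h2⟩, hx.1, hxD⟩
    have hA : ∀ D : K V, A D ≤ W ⊓ p ⁻¹ᵁ V.1 := fun D => inf_le_inf le_rfl (p.preimage_mono D.2.2.le)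
    obtain ⟨s', hs', -⟩ := TopCat.Sheaf.existsUnique_gluing' ⟨(famI chart n V).presheaf, (famI chart n V).isSheaf⟩ A
      (W ⊓ p ⁻¹ᵁ V.1) (fun D => homOfLE (hA D)) hcov τ hcompat
    have e : RelProj.emb p chart V.1 V.2 ⁻¹ᵁ (W ⊓ p ⁻¹ᵁ V.1) = RelProj.emb p chart V.1 V.2 ⁻¹ᵁ W :=
      le_antisymm (fun y hy => hy.1) fun y hy => ⟨hy, ((chart V.1 V.2).inv y).2⟩
    obtain ⟨s, hs⟩ := (mres_fam_bijective chart n V.2 (inf_le_left : W ⊓ p ⁻¹ᵁ V.1 ≤ W) e).2 s'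
    refine ⟨s, fun D => ?_⟩
    rw [← mres_mres _ (inf_le_left : W ⊓ p ⁻¹ᵁ V.1 ≤ W) (hA D) s, hs]
    exact (congrArg _ (hs' D)).trans (hτ D)
  choose sV hsV using hsec
  obtain ⟨σ, hσ⟩ := exists_pi_section W (famI chart n) sV
  have hcond : (eqLeft chart n).app W σ = (eqRight hP n).app W σ := by
    refine pi_section_ext W _ fun j => ?_
    obtain ⟨⟨V, E⟩, hj⟩ := j
    have e1 : (Pi.π (famJ chart n) ⟨(V, E), hj⟩).app W ((eqLeft chart n).app W σ) = sV E := by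
      rw [← hσ E, eqLeft]
      exact congr($(congrArg (fun φ => Scheme.Modules.Hom.app φ W) (Pi.lift_π (fun j : BasicPair S => Pi.π (famI chart n) j.1.2) ⟨(V, E), hj⟩)) σ)
    have e2 : (Pi.π (famJ chart n) ⟨(V, E), hj⟩).app W ((eqRight hP n).app W σ) =
        (resMap hP n V.2 E.2 hj).app W (sV V) := by
      rw [← hσ V, eqRight]
      exact congr($(congrArg (fun φ => Scheme.Modules.Hom.app φ W) (Pi.lift_π
        (fun j : BasicPair S => Pi.π (famI chart n) j.1.1 ≫ resMap hP n j.1.1.2 j.1.2.2 j.2) ⟨(V, E), hj⟩)) σ)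
    rw [e1, e2]
    have e : RelProj.emb p chart E.1 E.2 ⁻¹ᵁ (W ⊓ p ⁻¹ᵁ E.1) = RelProj.emb p chart E.1 E.2 ⁻¹ᵁ W :=
      le_antisymm (fun y hy => hy.1) fun y hy => ⟨hy, ((chart E.1 E.2).inv y).2⟩
    refine (mres_fam_bijective chart n E.2 (inf_le_left : W ⊓ p ⁻¹ᵁ E.1 ≤ W) e).1 ?_
    refine isSheaf_eq_of_locally (fun D : K E => W ⊓ p ⁻¹ᵁ D.1.1) (fun D => inf_le_inf le_rfl (p.preimage_mono D.2.2.le))
      (fun x hx => ?_) _ _ fun D => ?_
    · obtain ⟨D, hD, h1, h2, hxD⟩ := exists_common_basic hU E.2 (p x) ⟨hW hx.1, hx.2⟩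
      exact Opens.mem_iSup.2 ⟨⟨⟨D, hD⟩, h1, h2⟩, hx.1, hxD⟩
    · refine (resMap_bijective hP n E.2 D.1.2 D.2.2 (inf_le_right : W ⊓ p ⁻¹ᵁ D.1.1 ≤ _)).1 ?_
      rw [mres_mres, mres_mres, hsV E D, ← app_mres, resMap_app_comp hP n V.2 E.2 D.1.2 hj D.2.2,
        hsV V ⟨D.1, D.2.1, hj.trans V.2 D.2.2⟩]
  obtain ⟨s, hs⟩ := exists_equalizer_section W _ _ σ hcond
  refine ⟨s, ?_⟩
  have e3 : (gluedTo hP n U hU).app W s = sV ⟨U, hU⟩ := by
    rw [← hσ ⟨U, hU⟩, ← hs]; rfl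
  rw [e3]
  let K' := {D : S.affineOpens // IsBasic U D.1}
  refine isSheaf_eq_of_locally (fun D : K' => W ⊓ p ⁻¹ᵁ D.1.1) (fun D => inf_le_left) (fun x hx => ?_) _ _ fun D => ?_
  · obtain ⟨D, hD, h1, -, hxD⟩ := exists_common_basic hU hU (p x) ⟨hW hx, hW hx⟩
    exact Opens.mem_iSup.2 ⟨⟨⟨D, hD⟩, h1⟩, hx, hxD⟩
  · exact (resMap_bijective hP n hU D.1.2 D.2 inf_le_right).1 (hsV ⟨U, hU⟩ ⟨D.1, D.2, D.2⟩)

include hP in
theorem gluedTo_injective {U : S.Opens} (hU : IsAffineOpen U) {W : P.Opens} (hW : W ≤ p ⁻¹ᵁ U) :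
    Function.Injective ((gluedTo hP n U hU).app W) := by
  intro s s' h
  refine gluedTo_ext hP n W fun V hV => ?_
  have e : RelProj.emb p chart V hV ⁻¹ᵁ (W ⊓ p ⁻¹ᵁ V) = RelProj.emb p chart V hV ⁻¹ᵁ W :=
    le_antisymm (fun y hy => hy.1) fun y hy => ⟨hy, ((chart V hV).inv y).2⟩
  refine (mres_fam_bijective chart n hV (inf_le_left : W ⊓ p ⁻¹ᵁ V ≤ W) e).1 ?_
  let K' := {D : S.affineOpens // IsBasic U D.1 ∧ IsBasic V D.1}
  refine isSheaf_eq_of_locally (fun D : K' => W ⊓ p ⁻¹ᵁ D.1.1) (fun D => inf_le_inf le_rfl (p.preimage_mono D.2.2.le))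
    (fun x hx => ?_) _ _ fun D => ?_
  · obtain ⟨D, hD, h1, h2, hxD⟩ := exists_common_basic hU hV (p x) ⟨hW hx.1, hx.2⟩
    exact Opens.mem_iSup.2 ⟨⟨⟨D, hD⟩, h1, h2⟩, hx.1, hxD⟩
  · refine (resMap_bijective hP n hV D.1.2 D.2.2 (inf_le_right : W ⊓ p ⁻¹ᵁ D.1.1 ≤ _)).1 ?_
    have key : ∀ z : Γ(glued hP n, W),
        (resMap hP n hV D.1.2 D.2.2).app (W ⊓ p ⁻¹ᵁ D.1.1) (mres (fam chart n V hV) inf_le_left ((gluedTo hP n V hV).app W z)) =
        (resMap hP n hU D.1.2 D.2.1).app (W ⊓ p ⁻¹ᵁ D.1.1) (mres (fam chart n U hU) inf_le_left ((gluedTo hP n U hU).app W z)) := by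
      intro z
      rw [← app_mres, ← app_mres]
      exact (congr($(congrArg (fun φ => Scheme.Modules.Hom.app φ (W ⊓ p ⁻¹ᵁ D.1.1)) (gluedTo_resMap hP n hV D.1.2 D.2.2)) _)).trans
        (congr($(congrArg (fun φ => Scheme.Modules.Hom.app φ (W ⊓ p ⁻¹ᵁ D.1.1)) (gluedTo_resMap hP n hU D.1.2 D.2.1)) _)).symm
    rw [mres_mres, mres_mres, key, key, h]

include hP in
theorem exists_isRelTwist : ∃ (L : P.Modules) (lam : ∀ (U : S.Opens) (hU : IsAffineOpen U),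
      L ⟶ (Scheme.Modules.pushforward (RelProj.emb p chart U hU)).obj (GrTwist.twist (𝒮.deg U hU) n)),
      RelProj.IsRelTwist 𝒮 p chart n L lam := by
  refine ⟨glued hP n, gluedTo hP n, ⟨fun U hU W hW => ⟨gluedTo_injective hP n hU hW, exists_gluedTo_eq hP n hU hW⟩,
    fun U hU r W s y hy hy' => ?_⟩⟩
  · have hr : IsBasic U (S.basicOpen r) := ⟨r, rfl⟩
    rw [← gluedTo_resMap hP n hU (hU.basicOpen r) hr]
    exact resMap_val hP n hU (hU.basicOpen r) hr W _ y hy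

end Groth.Agent.RelProj11
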