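import Mathlib.AlgebraicGeometry.Gluing
import Mathlib.AlgebraicGeometry.Restrict
import Mathlib.AlgebraicGeometry.PullbackCarrier

/-!
Glueing morphisms out of a family of open immersions with common refinements.
-/

universe u v

open CategoryTheory CategoryTheory.Limits AlgebraicGeometry TopologicalSpace

namespace Groth.Agent.RelProj11

variable {X Z : Scheme.{u}} {I : Type v} {Y : I → Scheme.{u}} (c : ∀ i, Y i ⟶ X) [∀ i, IsOpenImmersion (c i)]
  (m : ∀ i, Y i ⟶ Z)

/-- `k` refines `i`. -/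
def Refines (k i : I) : Prop := ∃ a : Y k ⟶ Y i, a ≫ c i = c k ∧ a ≫ m i = m k

variable {c m}

omit [∀ i, IsOpenImmersion (c i)] in
theorem Refines.refl (i : I) : Refines c m i i := ⟨𝟙 _, Category.id_comp _, Category.id_comp _⟩

omit [∀ i, IsOpenImmersion (c i)] in
theorem Refines.trans {i j k : I} (h : Refines c m k j) (h' : Refines c m j i) : Refines c m k i := by
  obtain ⟨a, ha, ha'⟩ := h
  obtain ⟨b, hb, hb'⟩ := h'
  exact ⟨a ≫ b, by rw [Category.assoc, hb, ha], by rw [Category.assoc, hb', ha']⟩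

variable (W : X.Opens)

/-- Morphisms on a union of open pieces with common refinements glue uniquely. -/
theorem existsUnique_glue_refine (hsub : ∀ i, Set.range (c i) ⊆ Set.range W.ι)
    (hcov : ∀ x ∈ W, ∃ i, x ∈ Set.range (c i))
    (href : ∀ i j x, x ∈ Set.range (c i) → x ∈ Set.range (c j) →
      ∃ k, x ∈ Set.range (c k) ∧ Refines c m k i ∧ Refines c m k j) :
    ∃! r : W.toScheme ⟶ Z, ∀ i, IsOpenImmersion.lift W.ι (c i) (hsub i) ≫ r = m i := by
  let l : ∀ i, Y i ⟶ W.toScheme := fun i => IsOpenImmersion.lift W.ι (c i) (hsub i)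
  have hl : ∀ i, l i ≫ W.ι = c i := fun i => IsOpenImmersion.lift_fac _ _ _
  haveI hlo : ∀ i, IsOpenImmersion (l i) := fun i => by
    haveI : IsOpenImmersion (l i ≫ W.ι) := by rw [hl i]; infer_instance
    exact IsOpenImmersion.of_comp (l i) W.ι
  let J := {x : X // x ∈ W}
  let idx : J → I := fun x => (hcov x.1 x.2).choose
  have hidx : ∀ w : W.toScheme, w ∈ (l (idx ⟨w.1, w.2⟩)).opensRange := fun w => by
    obtain ⟨y, hy⟩ := (hcov w.1 w.2).choose_spec
    refine ⟨y, W.ι.isOpenEmbedding.injective ?_⟩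
    rw [← Scheme.Hom.comp_apply]
    exact (congr($(hl (idx ⟨w.1, w.2⟩)) y)).trans hy
  let C : W.toScheme.OpenCover := Scheme.Cover.mkOfCovers J (fun x => Y (idx x)) (fun x => l (idx x))
    (fun w => ⟨⟨w.1, w.2⟩, hidx w⟩) inferInstance
  have compat : ∀ i j, pullback.fst (l i) (l j) ≫ m i = pullback.snd (l i) (l j) ≫ m j := by
    intro i j
    let K := pullback (l i) (l j)
    let f : K ⟶ X := pullback.fst (l i) (l j) ≫ c i
    haveI : IsOpenImmersion f := inferInstanceAs (IsOpenImmersion (_ ≫ _))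
    have hf : f = pullback.snd (l i) (l j) ≫ c j := by
      show _ ≫ _ = _
      rw [← hl i, ← hl j, reassoc_of% pullback.condition]
    have key : ∀ z : K, ∃ (k : I) (b : Y k ⟶ K), IsOpenImmersion b ∧ z ∈ Set.range b ∧
        b ≫ pullback.fst (l i) (l j) ≫ m i = b ≫ pullback.snd (l i) (l j) ≫ m j := by
      intro z
      obtain ⟨k, ⟨y, hy⟩, ⟨a, ha, ha'⟩, ⟨a₂, hb, hb'⟩⟩ := href i j (f z)
        ⟨pullback.fst (l i) (l j) z, rfl⟩ ⟨pullback.snd (l i) (l j) z, (congr($hf z)).symm⟩
      have e : a ≫ l i = a₂ ≫ l j := by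
        rw [← cancel_mono W.ι, Category.assoc, hl i, Category.assoc, hl j, ha, hb]
      have hbf : pullback.lift a a₂ e ≫ f = c k := by
        show _ ≫ _ ≫ _ = _
        rw [pullback.lift_fst_assoc, ha]
      haveI : IsOpenImmersion (pullback.lift a a₂ e ≫ f) := by rw [hbf]; infer_instance
      refine ⟨k, pullback.lift a a₂ e, IsOpenImmersion.of_comp _ f, ⟨y, f.isOpenEmbedding.injective ?_⟩, ?_⟩
      · rw [← Scheme.Hom.comp_apply]
        exact (congr($hbf y)).trans hy
      · rw [pullback.lift_fst_assoc, pullback.lift_snd_assoc, ha', hb']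
    choose k b hbo hbz hbe using key
    haveI := hbo
    let C' : K.OpenCover := Scheme.Cover.mkOfCovers (K : Type u) (fun z => Y (k z)) b (fun z => ⟨z, hbz z⟩) hbo
    exact Scheme.Cover.hom_ext C' _ _ fun z => hbe z
  refine ⟨C.glueMorphisms (fun (x : J) => m (idx x)) (fun (x y : J) => compat (idx x) (idx y)), fun i => ?_, fun r hr => ?_⟩
  · let P := C.pullback₁ (l i)
    refine Scheme.Cover.hom_ext P _ _ fun (x : J) => ?_
    show pullback.fst (l i) (l (idx x)) ≫ l i ≫ _ = pullback.fst (l i) (l (idx x)) ≫ m i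
    rw [reassoc_of% pullback.condition (f := l i) (g := l (idx x)), compat]
    exact congrArg _ (Scheme.Cover.ι_glueMorphisms C _ _ x)
  · refine Scheme.Cover.hom_ext C _ _ fun (x : J) => ?_
    exact (hr (idx x)).trans (Scheme.Cover.ι_glueMorphisms C (fun (x : J) => m (idx x)) (fun (x y : J) => compat (idx x) (idx y)) x).symm

/-- Morphisms on a union of open pieces are determined by the pieces. -/
theorem hom_ext_refine (hsub : ∀ i, Set.range (c i) ⊆ Set.range W.ι)
    (hcov : ∀ x ∈ W, ∃ i, x ∈ Set.range (c i)) (r r' : W.toScheme ⟶ Z)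
    (h : ∀ i, IsOpenImmersion.lift W.ι (c i) (hsub i) ≫ r = IsOpenImmersion.lift W.ι (c i) (hsub i) ≫ r') :
    r = r' := by
  let l : ∀ i, Y i ⟶ W.toScheme := fun i => IsOpenImmersion.lift W.ι (c i) (hsub i)
  have hl : ∀ i, l i ≫ W.ι = c i := fun i => IsOpenImmersion.lift_fac _ _ _
  haveI hlo : ∀ i, IsOpenImmersion (l i) := fun i => by
    haveI : IsOpenImmersion (l i ≫ W.ι) := by rw [hl i]; infer_instance
    exact IsOpenImmersion.of_comp (l i) W.ι
  choose i hi using fun w : W.toScheme => hcov w.1 w.2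
  have hw : ∀ w : W.toScheme, w ∈ Set.range (l (i w)) := fun w => by
    obtain ⟨y, hy⟩ := hi w
    refine ⟨y, W.ι.isOpenEmbedding.injective ?_⟩
    rw [← Scheme.Hom.comp_apply]
    exact (congr($(hl (i w)) y)).trans hy
  let C : W.toScheme.OpenCover := Scheme.Cover.mkOfCovers (W.toScheme : Type u) (fun w => Y (i w)) (fun w => l (i w))
    (fun w => ⟨w, hw w⟩) (fun w => hlo (i w))
  exact Scheme.Cover.hom_ext C _ _ fun w => h (i w)

end Groth.Agent.RelProj11
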