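import Groth.Prelude.Def_RelProj4
import Groth.Agent.Lib.RelProj11.Exists
import Groth.Agent.Lib.RelProj11.GlueRefine

/-!
The morphism of relative homogeneous spectra attached to a graded morphism over a morphism of bases.
-/

universe u

open CategoryTheory CategoryTheory.Limits AlgebraicGeometry TopologicalSpace Opposite HomogeneousLocalization
open scoped HomogeneousIdeal

namespace Groth.Agent.RelProj11

section Ring

variable {A B C σ τ υ : Type u} [CommRing A] [SetLike σ A] [AddSubgroupClass σ A]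
  [CommRing B] [SetLike τ B] [AddSubgroupClass τ B] [CommRing C] [SetLike υ C] [AddSubgroupClass υ C]
  {𝒜 : ℕ → σ} {ℬ : ℕ → τ} {𝒞 : ℕ → υ} [GradedRing 𝒜] [GradedRing ℬ] [GradedRing 𝒞]

theorem away_map_comp (ψ : 𝒜 →+*ᵍ ℬ) (ρ : ℬ →+*ᵍ 𝒞) (f : A) {d : ℕ} (hf : f ∈ 𝒜 d) :
    CommRingCat.ofHom (Away.map (ρ.comp ψ) f) =
      CommRingCat.ofHom (Away.map ψ f) ≫ CommRingCat.ofHom (Away.map ρ (ψ f)) := by
  refine CommRingCat.hom_ext (RingHom.ext fun x => ?_)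
  obtain ⟨n, a, ha, rfl⟩ := Away.mk_surjective 𝒜 hf x
  show Away.map (ρ.comp ψ) f (Away.mk 𝒜 hf n a ha) = Away.map ρ (ψ f) (Away.map ψ f (Away.mk 𝒜 hf n a ha))
  rw [Away.map_mk, Away.map_mk]
  exact (Away.map_mk ρ (ψ f) (ψ.map_mem hf) n (ψ a) (ψ.map_mem ha)).symm

/-- Refining on the target. -/
theorem exists_refine_target (ψ : 𝒜 →+*ᵍ ℬ) (ρ : ℬ →+*ᵍ 𝒞) (φ : 𝒜 →+*ᵍ 𝒞) (e : ρ.comp ψ = φ)
    (hρ : 𝒞₊ ≤ (ℬ₊).map ρ) {d : ℕ} (hd : 0 < d) {f : A} (hf : f ∈ 𝒜 d) :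
    ∃ a : Spec (.of (Away 𝒞 (φ f))) ⟶ Spec (.of (Away ℬ (ψ f))),
      a ≫ Proj.awayι ℬ (ψ f) (ψ.map_mem hf) hd = Proj.awayι 𝒞 (φ f) (φ.map_mem hf) hd ≫ Proj.map ρ hρ ∧
      a ≫ Spec.map (CommRingCat.ofHom (Away.map ψ f)) = Spec.map (CommRingCat.ofHom (Away.map φ f)) := by
  subst e
  refine ⟨Spec.map (CommRingCat.ofHom (Away.map ρ (ψ f))), (Proj.awayι_comp_map ρ hρ hd (ψ f) (ψ.map_mem hf)).symm, ?_⟩
  rw [← Spec.map_comp, away_map_comp ψ ρ f hf]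
  rfl

/-- Refining on the source. -/
theorem exists_refine_source (ρ : 𝒜 →+*ᵍ ℬ) (φ : ℬ →+*ᵍ 𝒞) (ψ : 𝒜 →+*ᵍ 𝒞) (e : φ.comp ρ = ψ)
    (hρ : ℬ₊ ≤ (𝒜₊).map ρ) {d : ℕ} (hd : 0 < d) {f : A} (hf : f ∈ 𝒜 d) :
    ∃ a : Spec (.of (Away 𝒞 (φ (ρ f)))) ⟶ Spec (.of (Away 𝒞 (ψ f))),
      a ≫ Proj.awayι 𝒞 (ψ f) (ψ.map_mem hf) hd = Proj.awayι 𝒞 (φ (ρ f)) (φ.map_mem (ρ.map_mem hf)) hd ∧
      a ≫ Spec.map (CommRingCat.ofHom (Away.map ψ f)) ≫ Proj.awayι 𝒜 f hf hd =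
        Spec.map (CommRingCat.ofHom (Away.map φ (ρ f))) ≫ Proj.awayι ℬ (ρ f) (ρ.map_mem hf) hd ≫ Proj.map ρ hρ := by
  subst e
  refine ⟨𝟙 _, Category.id_comp _, ?_⟩
  rw [Proj.awayι_comp_map ρ hρ hd f hf, ← Spec.map_comp_assoc, away_map_comp ρ φ f hf]
  exact Category.id_comp _

/-- Refining by a product. -/
theorem exists_refine_mul (ψ : 𝒜 →+*ᵍ ℬ) {d e n : ℕ} (hd : 0 < d) (hn : 0 < n) (hnde : n = d + e) {f h x : A}
    (hf : f ∈ 𝒜 d) (hh : h ∈ 𝒜 e) (hx : x = f * h) (hxn : x ∈ 𝒜 n) :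
    ∃ a : Spec (.of (Away ℬ (ψ x))) ⟶ Spec (.of (Away ℬ (ψ f))),
      a ≫ Proj.awayι ℬ (ψ f) (ψ.map_mem hf) hd = Proj.awayι ℬ (ψ x) (ψ.map_mem hxn) hn ∧
      a ≫ Spec.map (CommRingCat.ofHom (Away.map ψ f)) ≫ Proj.awayι 𝒜 f hf hd =
        Spec.map (CommRingCat.ofHom (Away.map ψ x)) ≫ Proj.awayι 𝒜 x hxn hn := by
  subst hnde
  have hx' : ψ x = ψ f * ψ h := by rw [hx, map_mul]
  refine ⟨Spec.map (CommRingCat.ofHom (awayMap ℬ (ψ.map_mem hh) hx')),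
    Proj.SpecMap_awayMap_awayι ℬ (ψ.map_mem hf) hd (ψ.map_mem hh) hx', ?_⟩
  rw [← Proj.SpecMap_awayMap_awayι 𝒜 hf hd hh hx, ← Spec.map_comp_assoc, ← Spec.map_comp_assoc]
  congr 2
  refine CommRingCat.hom_ext (RingHom.ext fun y => ?_)
  obtain ⟨k, a, ha, rfl⟩ := Away.mk_surjective 𝒜 hf y
  show awayMap ℬ (ψ.map_mem hh) hx' (Away.map ψ f (Away.mk 𝒜 hf k a ha)) =
    Away.map ψ x (awayMap 𝒜 hh hx (Away.mk 𝒜 hf k a ha))
  rw [awayMap_mk, Away.map_mk, Away.map_mk, awayMap_mk]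
  apply HomogeneousLocalization.val_injective
  simp only [Away.val_mk, map_mul, map_pow]
  rfl

theorem map_isLocalizationElem (ψ : 𝒜 →+*ᵍ ℬ) {d e : ℕ} {f h : A} (hh : h ∈ 𝒜 e) (hf : f ∈ 𝒜 d) :
    Away.map ψ h (Away.isLocalizationElem hh hf) = Away.isLocalizationElem (ψ.map_mem hh) (ψ.map_mem hf) := by
  show Away.map ψ h (Away.mk 𝒜 hh d (f ^ e) _) = Away.mk ℬ (ψ.map_mem hh) d (ψ f ^ e) _
  rw [Away.map_mk]
  apply HomogeneousLocalization.val_injective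
  simp only [Away.val_mk, map_pow]
  rfl

end Ring

variable {S S' P P' : Scheme.{u}} {g : S' ⟶ S} {𝒮 : RelProj.QCGrAlg S} {𝒮' : RelProj.QCGrAlg S'}
  (u : RelProj.QGrHom g 𝒮 𝒮')
  {p : P ⟶ S} {chart : ∀ (U : S.Opens) (hU : IsAffineOpen U), (((p ⁻¹ᵁ U : P.Opens) : Scheme.{u}) ≅ Proj (𝒮.deg U hU))}
  {p' : P' ⟶ S'} {chart' : ∀ (U' : S'.Opens) (hU' : IsAffineOpen U'), (((p' ⁻¹ᵁ U' : P'.Opens) : Scheme.{u}) ≅ Proj (𝒮'.deg U' hU'))}

/-- An index for a standard chart. -/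
structure QIdx where
  U : S.Opens
  hU : IsAffineOpen U
  U' : S'.Opens
  hU' : IsAffineOpen U'
  hle : U' ≤ g ⁻¹ᵁ U
  d : ℕ
  hd : 0 < d
  f : 𝒮.presheaf.obj (op U)
  hf : f ∈ 𝒮.deg U hU d

variable {u}

/-- The domain of a chart. -/
noncomputable def qDom (i : QIdx (g := g) (𝒮 := 𝒮)) : Scheme.{u} :=
  Spec (CommRingCat.of (Away (𝒮'.deg i.U' i.hU') (u.gradedAt i.U i.hU i.U' i.hU' i.hle i.f)))

variable (u p' chart') in
/-- The chart in the source. -/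
noncomputable def qC (i : QIdx (g := g) (𝒮 := 𝒮)) : qDom (u := u) i ⟶ P' :=
  RelProj.awayEmb u p' chart' i.U i.hU i.U' i.hU' i.hle i.hd i.f i.hf

variable (u p chart) in
/-- The morphism on a chart. -/
noncomputable def qM (i : QIdx (g := g) (𝒮 := 𝒮)) : qDom (u := u) i ⟶ P :=
  Spec.map (CommRingCat.ofHom (Away.map (u.gradedAt i.U i.hU i.U' i.hU' i.hle) i.f)) ≫
    Proj.awayι (𝒮.deg i.U i.hU) i.f i.hf i.hd ≫ RelProj.emb p chart i.U i.hU

instance isOpenImmersion_qC (i : QIdx (g := g) (𝒮 := 𝒮)) : IsOpenImmersion (qC u p' chart' i) :=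
  show IsOpenImmersion (Proj.awayι (𝒮'.deg i.U' i.hU') (u.gradedAt i.U i.hU i.U' i.hU' i.hle i.f)
    ((u.gradedAt i.U i.hU i.U' i.hU' i.hle).map_mem i.hf) i.hd ≫ RelProj.emb p' chart' i.U' i.hU') from inferInstance

theorem mem_range_qC (i : QIdx (g := g) (𝒮 := 𝒮)) {x : P'} :
    x ∈ Set.range (qC u p' chart' i) ↔
      ∃ w ∈ Proj.basicOpen (𝒮'.deg i.U' i.hU') (u.gradedAt i.U i.hU i.U' i.hU' i.hle i.f),
        RelProj.emb p' chart' i.U' i.hU' w = x := by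
  have e := Proj.opensRange_awayι (𝒮'.deg i.U' i.hU') _ ((u.gradedAt i.U i.hU i.U' i.hU' i.hle).map_mem i.hf) i.hd
  refine ⟨fun ⟨y, hy⟩ => ⟨_, e.le ⟨y, rfl⟩, hy⟩, fun ⟨w, hw, hwx⟩ => ?_⟩
  obtain ⟨y, rfl⟩ := e.ge hw
  exact ⟨y, hwx⟩

theorem range_emb (q : P' ⟶ S') (ch : ∀ (U' : S'.Opens) (hU' : IsAffineOpen U'), (((q ⁻¹ᵁ U' : P'.Opens) : Scheme.{u}) ≅ Proj (𝒮'.deg U' hU')))
    (U' : S'.Opens) (hU' : IsAffineOpen U') : Set.range (RelProj.emb q ch U' hU') = (q ⁻¹ᵁ U' : P'.Opens) := by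
  ext x
  constructor
  · rintro ⟨w, rfl⟩
    exact ((ch U' hU').inv w).2
  · intro hx
    exact ⟨(ch U' hU').hom ⟨x, hx⟩, by rw [RelProj.emb, ← Scheme.Hom.comp_apply, Iso.hom_inv_id_assoc]; rfl⟩

theorem p'_mem_of_range (i : QIdx (g := g) (𝒮 := 𝒮)) {x : P'} (hx : x ∈ Set.range (qC u p' chart' i)) : p' x ∈ i.U' := by
  obtain ⟨w, -, rfl⟩ := (mem_range_qC i).1 hx
  have : RelProj.emb p' chart' i.U' i.hU' w ∈ Set.range (RelProj.emb p' chart' i.U' i.hU') := ⟨w, rfl⟩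
  rw [range_emb] at this
  exact this

theorem gradedAt_res_target {U : S.Opens} (hU : IsAffineOpen U) {U' W' : S'.Opens} (hU' : IsAffineOpen U') (hW' : IsAffineOpen W')
    (hle : U' ≤ g ⁻¹ᵁ U) (hW : W' ≤ U') :
    (𝒮'.res hU' hW' hW).comp (u.gradedAt U hU U' hU' hle) = u.gradedAt U hU W' hW' (hW.trans hle) := by
  ext x
  exact ConcreteCategory.congr_hom (u.appLE_map hle hW) x

theorem gradedAt_res_source {U W : S.Opens} (hU : IsAffineOpen U) (hW : IsAffineOpen W) (hWU : W ≤ U)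
    {U' : S'.Opens} (hU' : IsAffineOpen U') (hle : U' ≤ g ⁻¹ᵁ W) :
    (u.gradedAt W hW U' hU' hle).comp (𝒮.res hU hW hWU) = u.gradedAt U hU U' hU' (hle.trans (g.preimage_mono hWU)) := by
  ext x
  exact ConcreteCategory.congr_hom (u.map_appLE hWU hle) x

theorem map_res_emb_eq {S₁ P₁ : Scheme.{u}} {𝒯 : RelProj.QCGrAlg S₁} {q : P₁ ⟶ S₁}
    {ch : ∀ (U : S₁.Opens) (hU : IsAffineOpen U), (((q ⁻¹ᵁ U : P₁.Opens) : Scheme.{u}) ≅ Proj (𝒯.deg U hU))}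
    (hq : RelProj.IsRelProj 𝒯 q ch) {U W : S₁.Opens} (hU : IsAffineOpen U) (hW : IsAffineOpen W) (hWU : W ≤ U)
    (r : Γ(S₁, U)) (e : W = S₁.basicOpen r) :
    Proj.map (𝒯.res hU hW hWU) (irrelevant_le_of_le 𝒯 hU hW hWU r e) ≫ RelProj.emb q ch U hU = RelProj.emb q ch W hW := by
  subst e
  exact RelProj.map_res_emb hq U hU r

/-- Shrink the open of the base of the source. -/
theorem refine_target (hP' : RelProj.IsRelProj 𝒮' p' chart') (i : QIdx (g := g) (𝒮 := 𝒮)) {W' : S'.Opens}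
    (hW' : IsAffineOpen W') (r : Γ(S', i.U')) (e : W' = S'.basicOpen r) :
    ∃ k : QIdx (g := g) (𝒮 := 𝒮), k = ⟨i.U, i.hU, W', hW', (e.trans_le (S'.basicOpen_le r)).trans i.hle, i.d, i.hd, i.f, i.hf⟩ ∧
      Refines (qC u p' chart') (qM u p chart) k i ∧
      ∀ x ∈ Set.range (qC u p' chart' i), p' x ∈ W' → x ∈ Set.range (qC u p' chart' k) := by
  obtain ⟨U, hU, U', hU', hle, d, hd, f, hf⟩ := i
  refine ⟨_, rfl, ?_, ?_⟩
  · obtain ⟨a, ha, ha'⟩ := exists_refine_target (u.gradedAt U hU U' hU' hle) (𝒮'.res hU' hW' (e.trans_le (S'.basicOpen_le r)))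
      (u.gradedAt U hU W' hW' ((e.trans_le (S'.basicOpen_le r)).trans hle)) (gradedAt_res_target hU hU' hW' hle _)
      (irrelevant_le_of_le 𝒮' hU' hW' _ r e) hd hf
    refine ⟨a, ?_, ?_⟩
    · show a ≫ Proj.awayι _ _ _ _ ≫ _ = Proj.awayι _ _ _ _ ≫ _
      rw [reassoc_of% ha, map_res_emb_eq hP' hU' hW' _ r e]
    · show a ≫ Spec.map _ ≫ _ = Spec.map _ ≫ _
      rw [reassoc_of% ha']
  · intro x hx hxW
    obtain ⟨w, hw, rfl⟩ := (mem_range_qC _).1 hx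
    obtain ⟨v, hv⟩ : RelProj.emb p' chart' U' hU' w ∈ Set.range (RelProj.emb p' chart' W' hW') := by
      rw [range_emb]; exact hxW
    refine (mem_range_qC _).2 ⟨v, ?_, hv⟩
    rw [← map_res_emb_eq hP' hU' hW' (e.trans_le (S'.basicOpen_le r)) r e, Scheme.Hom.comp_apply] at hv
    have h1 := (RelProj.emb p' chart' U' hU').isOpenEmbedding.injective hv
    show v ∈ Proj.basicOpen (𝒮'.deg W' hW') (u.gradedAt U hU W' hW' ((e.trans_le (S'.basicOpen_le r)).trans hle) f)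
    rw [← gradedAt_res_target hU hU' hW' hle (e.trans_le (S'.basicOpen_le r))]
    show v ∈ Proj.basicOpen (𝒮'.deg W' hW') (𝒮'.res hU' hW' (e.trans_le (S'.basicOpen_le r)) (u.gradedAt U hU U' hU' hle f))
    rw [← Proj.map_preimage_basicOpen _ (irrelevant_le_of_le 𝒮' hU' hW' _ r e), Scheme.Hom.mem_preimage, h1]
    exact hw

/-- Shrink the open of the base of the target. -/
theorem refine_source (hP : RelProj.IsRelProj 𝒮 p chart) (i : QIdx (g := g) (𝒮 := 𝒮)) {W : S.Opens}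
    (hW : IsAffineOpen W) (r : Γ(S, i.U)) (e : W = S.basicOpen r) (hle : i.U' ≤ g ⁻¹ᵁ W) :
    ∃ k : QIdx (g := g) (𝒮 := 𝒮), k = ⟨W, hW, i.U', i.hU', hle, i.d, i.hd, 𝒮.res i.hU hW (e.trans_le (S.basicOpen_le r)) i.f,
        (𝒮.res i.hU hW (e.trans_le (S.basicOpen_le r))).map_mem i.hf⟩ ∧
      Refines (qC u p' chart') (qM u p chart) k i ∧
      ∀ x ∈ Set.range (qC u p' chart' i), x ∈ Set.range (qC u p' chart' k) := by
  obtain ⟨U, hU, U', hU', hle₀, d, hd, f, hf⟩ := i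
  refine ⟨_, rfl, ?_, ?_⟩
  · obtain ⟨a, ha, ha'⟩ := exists_refine_source (𝒮.res hU hW (e.trans_le (S.basicOpen_le r)))
      (u.gradedAt W hW U' hU' hle) (u.gradedAt U hU U' hU' hle₀) (gradedAt_res_source hU hW _ hU' hle)
      (irrelevant_le_of_le 𝒮 hU hW _ r e) hd hf
    refine ⟨a, ?_, ?_⟩
    · show a ≫ Proj.awayι _ _ _ _ ≫ _ = Proj.awayι _ _ _ _ ≫ _
      rw [reassoc_of% ha]
    · show a ≫ Spec.map _ ≫ Proj.awayι _ _ _ _ ≫ _ = Spec.map _ ≫ Proj.awayι _ _ _ _ ≫ _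
      rw [reassoc_of% ha', map_res_emb_eq hP hU hW _ r e]
  · intro x hx
    obtain ⟨w, hw, rfl⟩ := (mem_range_qC _).1 hx
    refine (mem_range_qC _).2 ⟨w, ?_, rfl⟩
    show w ∈ Proj.basicOpen (𝒮'.deg U' hU') (((u.gradedAt W hW U' hU' hle).comp (𝒮.res hU hW (e.trans_le (S.basicOpen_le r)))) f)
    rw [gradedAt_res_source hU hW _ hU' hle]
    exact hw

/-- Refine by a product. -/
theorem refine_mul (i : QIdx (g := g) (𝒮 := 𝒮)) {e n : ℕ} (hn : 0 < n) (hnde : n = i.d + e)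
    {h x : 𝒮.presheaf.obj (op i.U)} (hh : h ∈ 𝒮.deg i.U i.hU e) (hx : x = i.f * h) (hxn : x ∈ 𝒮.deg i.U i.hU n) :
    Refines (qC u p' chart') (qM u p chart) ⟨i.U, i.hU, i.U', i.hU', i.hle, n, hn, x, hxn⟩ i := by
  obtain ⟨U, hU, U', hU', hle, d, hd, f, hf⟩ := i
  obtain ⟨a, ha, ha'⟩ := exists_refine_mul (u.gradedAt U hU U' hU' hle) hd hn hnde hf hh hx hxn
  refine ⟨a, ?_, ?_⟩
  · show a ≫ Proj.awayι _ _ _ _ ≫ _ = Proj.awayι _ _ _ _ ≫ _
    rw [reassoc_of% ha]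
  · show a ≫ Spec.map _ ≫ Proj.awayι _ _ _ _ ≫ _ = Spec.map _ ≫ Proj.awayι _ _ _ _ ≫ _
    rw [reassoc_of% ha']

theorem exists_basic_inside {U V : S'.Opens} (hU : IsAffineOpen U) (hV : IsAffineOpen V) (O : S'.Opens) {y : S'}
    (hyU : y ∈ U) (hyV : y ∈ V) (hyO : y ∈ O) :
    ∃ W : S'.Opens, IsAffineOpen W ∧ y ∈ W ∧ W ≤ O ∧ (∃ r : Γ(S', U), W = S'.basicOpen r) ∧ (∃ r : Γ(S', V), W = S'.basicOpen r) := by
  obtain ⟨r, t, e, hy⟩ := exists_basicOpen_le_affine_inter hU hV y ⟨hyU, hyV⟩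
  obtain ⟨s, hsO, hys⟩ := (hU.basicOpen r).exists_basicOpen_le (V := O) ⟨y, hyO⟩ hy
  obtain ⟨r', hr'⟩ := hU.basicOpen_basicOpen_is_basicOpen r s
  have key : ∀ (D : S'.Opens) (s : Γ(S', D)), D = S'.basicOpen t → ∃ t' : Γ(S', V), S'.basicOpen t' = S'.basicOpen s := by
    rintro _ s rfl
    exact hV.basicOpen_basicOpen_is_basicOpen t s
  obtain ⟨t', ht'⟩ := key _ s e
  exact ⟨S'.basicOpen s, (hU.basicOpen r).basicOpen s, hys, hsO, ⟨r', hr'.symm⟩, ⟨t', ht'.symm⟩⟩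

variable (hP : RelProj.IsRelProj 𝒮 p chart) (hP' : RelProj.IsRelProj 𝒮' p' chart')

include hP hP' in
/-- Two charts at a point can be moved to a common affine pair. -/
theorem exists_common_pair (i j : QIdx (g := g) (𝒮 := 𝒮)) (x : P') (hi : x ∈ Set.range (qC u p' chart' i))
    (hyj : p' x ∈ j.U') :
    ∃ (W : S.Opens) (hW : IsAffineOpen W) (W' : S'.Opens) (hW' : IsAffineOpen W') (hle : W' ≤ g ⁻¹ᵁ W)
      (f : 𝒮.presheaf.obj (op W)) (hf : f ∈ 𝒮.deg W hW i.d),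
      p' x ∈ W' ∧ (∃ r : Γ(S, j.U), W = S.basicOpen r) ∧ (∃ r : Γ(S', j.U'), W' = S'.basicOpen r) ∧
      x ∈ Set.range (qC u p' chart' ⟨W, hW, W', hW', hle, i.d, i.hd, f, hf⟩) ∧
      Refines (qC u p' chart') (qM u p chart) ⟨W, hW, W', hW', hle, i.d, i.hd, f, hf⟩ i := by
  have hyi := p'_mem_of_range i hi
  obtain ⟨r, t, e, hy⟩ := exists_basicOpen_le_affine_inter i.hU j.hU (g (p' x)) ⟨i.hle hyi, j.hle hyj⟩
  obtain ⟨W', hW', hyW', hW'O, ⟨r', er'⟩, hjW'⟩ := exists_basic_inside i.hU' j.hU' (g ⁻¹ᵁ S.basicOpen r) hyi hyj hy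
  obtain ⟨k₁, rfl, hk₁, hk₁x⟩ := refine_target (p := p) (chart := chart) (u := u) hP' i hW' r' er'
  obtain ⟨k₂, rfl, hk₂, hk₂x⟩ := refine_source (u := u) (p' := p') (chart' := chart') hP
    (⟨i.U, i.hU, W', hW', (er'.trans_le (S'.basicOpen_le r')).trans i.hle, i.d, i.hd, i.f, i.hf⟩ : QIdx (g := g) (𝒮 := 𝒮))
    (i.hU.basicOpen r) r rfl hW'O
  exact ⟨S.basicOpen r, i.hU.basicOpen r, W', hW', hW'O, _, _, hyW', ⟨t, e⟩, hjW', hk₂x x (hk₁x x hi hyW'), hk₂.trans hk₁⟩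

include hP hP' in
theorem exists_refinement (i j : QIdx (g := g) (𝒮 := 𝒮)) (x : P') (hi : x ∈ Set.range (qC u p' chart' i))
    (hj : x ∈ Set.range (qC u p' chart' j)) :
    ∃ k, x ∈ Set.range (qC u p' chart' k) ∧ Refines (qC u p' chart') (qM u p chart) k i ∧
      Refines (qC u p' chart') (qM u p chart) k j := by
  obtain ⟨W, hW, W', hW', hle, f, hf, hy, ⟨r, er⟩, ⟨r', er'⟩, hx, href⟩ :=
    exists_common_pair hP hP' i j x hi (p'_mem_of_range j hj)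
  obtain ⟨k₁, rfl, hk₁, hk₁x⟩ := refine_target (p := p) (chart := chart) (u := u) hP' j hW' r' er'
  obtain ⟨k₂, rfl, hk₂, hk₂x⟩ := refine_source (u := u) (p' := p') (chart' := chart') hP
    (⟨j.U, j.hU, W', hW', (er'.trans_le (S'.basicOpen_le r')).trans j.hle, j.d, j.hd, j.f, j.hf⟩ : QIdx (g := g) (𝒮 := 𝒮))
    hW r er hle
  have hx₂ := hk₂x x (hk₁x x hj hy)
  set h := 𝒮.res j.hU hW (er.trans_le (S.basicOpen_le r)) j.f with hh
  have hhd : h ∈ 𝒮.deg W hW j.d := (𝒮.res j.hU hW (er.trans_le (S.basicOpen_le r))).map_mem j.hf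
  have hprod : f * h ∈ 𝒮.deg W hW (i.d + j.d) := SetLike.mul_mem_graded hf hhd
  refine ⟨⟨W, hW, W', hW', hle, i.d + j.d, Nat.add_pos_left i.hd _, f * h, hprod⟩, ?_,
    (refine_mul (p := p) (chart := chart) (p' := p') (chart' := chart') (u := u)
      ⟨W, hW, W', hW', hle, i.d, i.hd, f, hf⟩ _ rfl hhd rfl hprod).trans href,
    ((refine_mul (p := p) (chart := chart) (p' := p') (chart' := chart') (u := u)
      ⟨W, hW, W', hW', hle, j.d, j.hd, h, hhd⟩ _ (add_comm _ _) hf (mul_comm _ _) hprod).trans hk₂).trans hk₁⟩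
  obtain ⟨w, hw, hwx⟩ := (mem_range_qC _).1 hx
  obtain ⟨v, hv, hvx⟩ := (mem_range_qC _).1 hx₂
  have : v = w := (RelProj.emb p' chart' W' hW').isOpenEmbedding.injective (hvx.trans hwx.symm)
  subst this
  refine (mem_range_qC _).2 ⟨v, ?_, hvx⟩
  show v ∈ Proj.basicOpen _ (u.gradedAt W hW W' hW' hle (f * h))
  rw [map_mul, Proj.basicOpen_mul]
  exact ⟨hw, hv⟩

theorem range_qC_subset (i : QIdx (g := g) (𝒮 := 𝒮)) :
    Set.range (qC u p' chart' i) ⊆ Set.range (RelProj.domQ u p' chart').ι :=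
  RelProj.range_awayEmb_subset_domQ u p' chart' i.U i.hU i.U' i.hU' i.hle i.hd i.f i.hf

/-- The charts cover the open of definition. -/
theorem exists_mem_range_qC {x : P'} (hx : x ∈ RelProj.domQ u p' chart') :
    ∃ i : QIdx (g := g) (𝒮 := 𝒮), x ∈ Set.range (qC u p' chart' i) := by
  classical
  obtain ⟨⟨⟨⟨U, hU⟩, ⟨U', hU'⟩⟩, hle⟩, w, hw, rfl⟩ := Opens.mem_iSup.1 hx
  obtain ⟨f, hf, hfw⟩ := (RelCone.mem_domOpen _ w).1 hw
  have : ¬ ((𝒮.deg U hU)₊).toIdeal ≤ (w.asHomogeneousIdeal.toIdeal).comap (u.gradedAt U hU U' hU' hle) :=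
    fun h => hfw (h hf)
  rw [HomogeneousIdeal.toIdeal_irrelevant_le] at this
  push Not at this
  obtain ⟨d, hd, hnot⟩ := this
  obtain ⟨f', hf', hf'w⟩ := Set.not_subset.1 hnot
  exact ⟨⟨U, hU, U', hU', hle, d, hd, f', hf'⟩, (mem_range_qC _).2
    ⟨w, (ProjectiveSpectrum.mem_basicOpen _ _ _).2 hf'w, rfl⟩⟩

variable (u) in
include hP hP' in
theorem existsUnique_qMapOn :
    ∃! v : (RelProj.domQ u p' chart').toScheme ⟶ P, RelProj.IsProjQMapOn u p chart p' chart' (RelProj.domQ u p' chart') v := by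
  obtain ⟨v, hv, huniq⟩ := existsUnique_glue_refine (c := qC u p' chart') (m := qM u p chart) (RelProj.domQ u p' chart')
    range_qC_subset (fun x hx => exists_mem_range_qC hx) (exists_refinement hP hP')
  exact ⟨v, fun U hU U' hU' hle d hd f hf _ => hv ⟨U, hU, U', hU', hle, d, hd, f, hf⟩,
    fun v' hv' => huniq v' fun i => hv' i.U i.hU i.U' i.hU' i.hle i.d i.hd i.f i.hf (range_qC_subset i)⟩

section Props

variable {r : (RelProj.domQ u p' chart').toScheme ⟶ P}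
  (hr : RelProj.IsProjQMapOn u p chart p' chart' (RelProj.domQ u p' chart') r)

include hr in
theorem lift_qC_comp (i : QIdx (g := g) (𝒮 := 𝒮)) :
    IsOpenImmersion.lift (RelProj.domQ u p' chart').ι (qC u p' chart' i) (range_qC_subset i) ≫ r = qM u p chart i :=
  hr i.U i.hU i.U' i.hU' i.hle i.d i.hd i.f i.hf (range_qC_subset i)

include hr hP hP' in
theorem qMapOn_comp : r ≫ p = (RelProj.domQ u p' chart').ι ≫ p' ≫ g := by
  refine hom_ext_refine (c := qC u p' chart') _ range_qC_subset (fun x hx => exists_mem_range_qC hx) _ _ fun i => ?_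
  rw [reassoc_of% lift_qC_comp hr i, IsOpenImmersion.lift_fac_assoc]
  obtain ⟨U, hU, U', hU', hle, d, hd, f, hf⟩ := i
  have e1 : RelProj.emb p chart U hU ≫ p = Proj.toSpecZero (𝒮.deg U hU) ≫ Spec.map (𝒮.strZero U hU) ≫ hU.fromSpec := by
    rw [RelProj.emb, Category.assoc, ← hP.chart_over U hU, Iso.inv_hom_id_assoc]
  have e2 : RelProj.emb p' chart' U' hU' ≫ p' = Proj.toSpecZero (𝒮'.deg U' hU') ≫ Spec.map (𝒮'.strZero U' hU') ≫ hU'.fromSpec := by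
    rw [RelProj.emb, Category.assoc, ← hP'.chart_over U' hU', Iso.inv_hom_id_assoc]
  simp only [qM, qC, RelProj.awayEmb, Category.assoc]
  show _ = Proj.awayι (𝒮'.deg U' hU') (u.gradedAt U hU U' hU' hle f) ((u.gradedAt U hU U' hU' hle).map_mem hf) hd ≫
    RelProj.emb p' chart' U' hU' ≫ p' ≫ g
  rw [e1, reassoc_of% e2, Proj.awayι_toSpecZero_assoc, Proj.awayι_toSpecZero_assoc,
    ← IsAffineOpen.SpecMap_appLE_fromSpec g hU hU' hle, ← Spec.map_comp_assoc, ← Spec.map_comp_assoc,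
    ← Spec.map_comp_assoc]
  refine (Spec.map_comp_assoc _ _ _).symm.trans ?_
  congr 2
  refine CommRingCat.hom_ext (RingHom.ext fun s => ?_)
  show Away.map (u.gradedAt U hU U' hU' hle) f (fromZeroRingHom _ _ ((𝒮.strZero U hU).hom s)) =
    fromZeroRingHom _ _ ((𝒮'.strZero U' hU').hom ((g.appLE U U' hle).hom s))
  apply HomogeneousLocalization.val_injective
  rw [show fromZeroRingHom (𝒮.deg U hU) (Submonoid.powers f) ((𝒮.strZero U hU).hom s) =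
    HomogeneousLocalization.mk ⟨0, ⟨((𝒮.str.app (op U)).hom s), 𝒮.str_mem U hU s⟩, 1, one_mem _⟩ from rfl]
  simp only [Away.map, HomogeneousLocalization.map_mk, HomogeneousLocalization.val_mk, fromZeroRingHom,
    RingHom.coe_mk, MonoidHom.coe_mk, OneHom.coe_mk]
  congr 1
  · exact ConcreteCategory.congr_hom (u.str_appLE U U' hle) s
  · simp

include hP hP' in
/-- Over an affine pair every point of the open of definition lies in a chart of that pair. -/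
theorem exists_mem_chart {U : S.Opens} (hU : IsAffineOpen U) {U' : S'.Opens} (hU' : IsAffineOpen U') (hle : U' ≤ g ⁻¹ᵁ U)
    {x : P'} (hx : x ∈ RelProj.domQ u p' chart') (hxU : p' x ∈ U') :
    ∃ (d : ℕ) (hd : 0 < d) (f : 𝒮.presheaf.obj (op U)) (hf : f ∈ 𝒮.deg U hU d),
      x ∈ Set.range (qC u p' chart' ⟨U, hU, U', hU', hle, d, hd, f, hf⟩) := by
  obtain ⟨i, hi⟩ := exists_mem_range_qC hx
  obtain ⟨W, hW, W', hW', hle', h, hh, -, ⟨r, er⟩, ⟨r', er'⟩, hx', -⟩ :=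
    exists_common_pair (u := u) hP hP' i ⟨U, hU, U', hU', hle, 1, one_pos, 0, zero_mem _⟩ x hi hxU
  have hWU := er.trans_le (S.basicOpen_le r)
  have hres : IsResLoc (𝒮.res hU hW hWU) ((𝒮.strZero U hU).hom r) := isResLoc 𝒮 hU hW hWU r er
  obtain ⟨k, a, ha, hak⟩ := exists_lift hres hh
  refine ⟨i.d, i.hd, a, ha, ?_⟩
  obtain ⟨w, hw, hwx⟩ := (mem_range_qC _).1 hx'
  have hwa : w ∈ Proj.basicOpen (𝒮'.deg W' hW') (((u.gradedAt W hW W' hW' hle').comp (𝒮.res hU hW hWU)) a) := by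
    show w ∈ Proj.basicOpen (𝒮'.deg W' hW') (u.gradedAt W hW W' hW' hle' (𝒮.res hU hW hWU a))
    rw [← hak, map_mul, map_pow]
    refine (ProjectiveSpectrum.mem_basicOpen _ _ _).2 ?_
    intro hmem
    rcases w.isPrime.mem_or_mem hmem with h1 | h1
    · exact (ProjectiveSpectrum.mem_basicOpen _ _ _).1 hw h1
    · obtain ⟨v, hv⟩ := exists_inv hres
      have h2 : u.gradedAt W hW W' hW' hle' (𝒮.res hU hW hWU ((𝒮.strZero U hU).hom r : 𝒮.presheaf.obj (op U))) *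
          u.gradedAt W hW W' hW' hle' (v : 𝒮.presheaf.obj (op W)) = 1 := by
        rw [← map_mul]
        exact (congrArg (fun z : 𝒮.deg W hW 0 => u.gradedAt W hW W' hW' hle' (z : 𝒮.presheaf.obj (op W))) hv).trans (map_one _)
      exact w.isPrime.ne_top ((Ideal.eq_top_iff_one _).2 (h2 ▸ Ideal.mul_mem_right _ _ (w.isPrime.mem_of_pow_mem k h1)))
  rw [gradedAt_res_source hU hW hWU hW' hle'] at hwa
  have hW'U' : W' ≤ U' := er'.trans_le (S'.basicOpen_le r')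
  rw [← gradedAt_res_target hU hU' hW' hle hW'U'] at hwa
  refine (mem_range_qC _).2 ⟨Proj.map (𝒮'.res hU' hW' hW'U') (irrelevant_le_of_le 𝒮' hU' hW' hW'U' r' er') w, ?_, ?_⟩
  · show _ ∈ Proj.basicOpen (𝒮'.deg U' hU') (u.gradedAt U hU U' hU' hle a)
    rw [← Scheme.Hom.mem_preimage, Proj.map_preimage_basicOpen]
    exact hwa
  · rw [← Scheme.Hom.comp_apply, map_res_emb_eq hP' hU' hW' hW'U' r' er']
    exact hwx

include hr hP hP' in
/-- The inverse image of a standard open. -/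
theorem mem_preimage_emb_basicOpen_iff (i : QIdx (g := g) (𝒮 := 𝒮)) (z : (RelProj.domQ u p' chart').toScheme)
    (hz : p' z.1 ∈ i.U') :
    r z ∈ RelProj.emb p chart i.U i.hU ''ᵁ Proj.basicOpen (𝒮.deg i.U i.hU) i.f ↔ z.1 ∈ Set.range (qC u p' chart' i) := by
  obtain ⟨U, hU, U', hU', hle, d, hd, f, hf⟩ := i
  obtain ⟨e, he, h, hh, y, hy⟩ := exists_mem_chart hP hP' hU hU' hle z.2 hz
  have hzy : IsOpenImmersion.lift (RelProj.domQ u p' chart').ι (qC u p' chart' ⟨U, hU, U', hU', hle, e, he, h, hh⟩)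
      (range_qC_subset _) y = z := by
    refine (RelProj.domQ u p' chart').ι.isOpenEmbedding.injective ?_
    rw [← Scheme.Hom.comp_apply, IsOpenImmersion.lift_fac]
    exact hy
  have h1 : r z = qM u p chart ⟨U, hU, U', hU', hle, e, he, h, hh⟩ y := by
    rw [← hzy, ← Scheme.Hom.comp_apply, lift_qC_comp hr]
  let ψ := u.gradedAt U hU U' hU' hle
  rw [h1]
  have L : qM u p chart ⟨U, hU, U', hU', hle, e, he, h, hh⟩ y ∈ RelProj.emb p chart U hU ''ᵁ Proj.basicOpen (𝒮.deg U hU) f ↔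
      y ∈ Spec.map (CommRingCat.ofHom (Away.map ψ h)) ⁻¹ᵁ (Proj.awayι (𝒮.deg U hU) h hh he ⁻¹ᵁ Proj.basicOpen (𝒮.deg U hU) f) := by
    show RelProj.emb p chart U hU (Proj.awayι (𝒮.deg U hU) h hh he (Spec.map (CommRingCat.ofHom (Away.map ψ h)) y)) ∈ _ ↔ _
    exact (RelProj.emb p chart U hU).isOpenEmbedding.injective.mem_set_image
  have R : z.1 ∈ Set.range (qC u p' chart' ⟨U, hU, U', hU', hle, d, hd, f, hf⟩) ↔
      y ∈ Proj.awayι (𝒮'.deg U' hU') (ψ h) (ψ.map_mem hh) he ⁻¹ᵁ Proj.basicOpen (𝒮'.deg U' hU') (ψ f) := by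
    rw [mem_range_qC]
    constructor
    · rintro ⟨w, hw, hwz⟩
      have : w = Proj.awayι (𝒮'.deg U' hU') (ψ h) (ψ.map_mem hh) he y :=
        (RelProj.emb p' chart' U' hU').isOpenEmbedding.injective (hwz.trans hy.symm)
      show _ ∈ Proj.basicOpen (𝒮'.deg U' hU') (ψ f)
      rw [← this]
      exact hw
    · exact fun hyw => ⟨_, hyw, hy⟩
  rw [L, R, Proj.awayι_preimage_basicOpen (𝒮.deg U hU) hh he hf hd]
  refine Iff.trans ?_ (Iff.of_eq (congrArg (y ∈ ·)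
    (Proj.awayι_preimage_basicOpen (𝒮'.deg U' hU') (ψ.map_mem hh) he (ψ.map_mem hf) hd).symm))
  rw [← map_isLocalizationElem ψ hh hf]
  exact Iff.rfl

end Props

end Groth.Agent.RelProj11
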