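import Groth.Agent.Lib.RelProj11.Basic
import Mathlib.AlgebraicGeometry.ProjectiveSpectrum.Functor

/-!
`Proj` of a localization of a graded ring at an element of degree zero is an open subscheme of `Proj`.
-/

universe u

open CategoryTheory CategoryTheory.Limits AlgebraicGeometry TopologicalSpace HomogeneousLocalization
open scoped HomogeneousIdeal

namespace Groth.Agent.RelProj11

variable {A B σ τ : Type u} [CommRing A] [SetLike σ A] [AddSubgroupClass σ A]
  [CommRing B] [SetLike τ B] [AddSubgroupClass τ B]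
  {𝒜 : ℕ → σ} {ℬ : ℕ → τ} [GradedRing 𝒜] [GradedRing ℬ]
  (ψ : 𝒜 →+*ᵍ ℬ) (c : 𝒜 0)

/-- `ψ` exhibits `ℬ` as the localization of `𝒜` at the degree zero element `c`. -/
def IsResLoc : Prop :=
  letI := (ψ : A →+* B).toAlgebra
  IsLocalization.Away (c : A) B

variable {ψ c}

theorem psi_mem_zero : ψ (c : A) ∈ ℬ 0 := ψ.map_mem c.2

theorem exists_inv (h : IsResLoc ψ c) : ∃ v : ℬ 0, (⟨ψ (c : A), psi_mem_zero⟩ : ℬ 0) * v = 1 := by
  classical
  letI := (ψ : A →+* B).toAlgebra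
  haveI : IsLocalization.Away (c : A) B := h
  obtain ⟨u, hu⟩ := isUnit_iff_exists_inv.1 (IsLocalization.Away.algebraMap_isUnit (S := B) (c : A))
  refine ⟨DirectSum.decompose ℬ u 0, Subtype.ext ?_⟩
  show ψ (c : A) * (DirectSum.decompose ℬ u 0 : B) = 1
  have h2 := DirectSum.coe_decompose_mul_of_left_mem_of_le ℬ (a := ψ (c : A)) (b := u) (n := 0) psi_mem_zero le_rfl
  rw [show ψ (c : A) * u = 1 from hu, DirectSum.decompose_of_mem_same ℬ SetLike.GradedOne.one_mem] at h2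
  simpa using h2.symm

theorem exists_lift (h : IsResLoc ψ c) {i : ℕ} {b : B} (hb : b ∈ ℬ i) :
    ∃ (k : ℕ) (a : A), a ∈ 𝒜 i ∧ b * ψ (c : A) ^ k = ψ a := by
  classical
  letI := (ψ : A →+* B).toAlgebra
  haveI : IsLocalization.Away (c : A) B := h
  obtain ⟨k, a, ha⟩ := IsLocalization.Away.surj (c : A) b
  refine ⟨k, DirectSum.decompose 𝒜 a i, SetLike.coe_mem _, ?_⟩
  have hm : b * ψ (c : A) ^ k ∈ ℬ i := by
    simpa only [smul_zero, add_zero] using
      SetLike.mul_mem_graded (A := ℬ) hb (SetLike.pow_mem_graded k (psi_mem_zero (ψ := ψ) (c := c)))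
  rw [GradedRingHom.map_directSumDecompose, show ψ a = b * ψ (c : A) ^ k from ha.symm,
    DirectSum.decompose_of_mem_same ℬ hm]

theorem exists_pow_mul_eq_zero (h : IsResLoc ψ c) {a : A} (ha : ψ a = 0) : ∃ k, (c : A) ^ k * a = 0 := by
  letI := (ψ : A →+* B).toAlgebra
  haveI : IsLocalization.Away (c : A) B := h
  obtain ⟨⟨_, k, rfl⟩, hk⟩ := (IsLocalization.map_eq_zero_iff (Submonoid.powers (c : A)) B a).1 ha
  exact ⟨k, hk⟩

theorem map_fromZero (s : A) :
    Away.map ψ s (fromZeroRingHom 𝒜 _ c) = fromZeroRingHom ℬ _ ⟨ψ (c : A), psi_mem_zero⟩ := by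
  refine (HomogeneousLocalization.map_mk _ _ _).trans ?_
  apply HomogeneousLocalization.val_injective
  simp [fromZeroRingHom]

theorem val_fromZero_pow {x : Submonoid A} (k : ℕ) :
    (fromZeroRingHom 𝒜 x c ^ k).val = Localization.mk ((c : A) ^ k) 1 := by
  rw [HomogeneousLocalization.val_pow]
  simp [fromZeroRingHom, Localization.mk_pow]
  rfl

theorem away_isLocalization (h : IsResLoc ψ c) {d : ℕ} {s : A} (hs : s ∈ 𝒜 d) :
    letI := (Away.map ψ s).toAlgebra
    IsLocalization.Away (fromZeroRingHom 𝒜 (Submonoid.powers s) c) (Away ℬ (ψ s)) := by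
  letI := (Away.map ψ s).toAlgebra
  refine IsLocalization.Away.mk (fromZeroRingHom 𝒜 (Submonoid.powers s) c) ?_ (fun z => ?_) (fun x y hxy => ?_)
  · show IsUnit (Away.map ψ s (fromZeroRingHom 𝒜 _ c))
    rw [map_fromZero]
    obtain ⟨v, hv⟩ := exists_inv h
    exact (IsUnit.of_mul_eq_one v hv).map _
  · obtain ⟨n, b, hb, rfl⟩ := Away.mk_surjective ℬ (ψ.map_mem hs) z
    obtain ⟨k, a, ha, hab⟩ := exists_lift h hb
    refine ⟨k, Away.mk 𝒜 hs n a ha, ?_⟩
    show _ * Away.map ψ s (fromZeroRingHom 𝒜 _ c) ^ k = Away.map ψ s _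
    rw [map_fromZero, Away.map_mk]
    apply HomogeneousLocalization.val_injective
    rw [HomogeneousLocalization.val_mul, val_fromZero_pow, Away.val_mk, Away.val_mk, Localization.mk_mul]
    congr 1
    exact mul_one _
  · have hxy' : Away.map ψ s (x - y) = 0 := by rw [map_sub, sub_eq_zero]; exact hxy
    obtain ⟨n, a, ha, e⟩ := Away.mk_surjective 𝒜 hs (x - y)
    rw [← e, Away.map_mk, away_mk_eq_zero_iff] at hxy'
    obtain ⟨j, hj⟩ := hxy'
    obtain ⟨k, hk⟩ := exists_pow_mul_eq_zero h (a := s ^ j * a) (by rw [map_mul, map_pow]; exact hj)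
    refine ⟨k, ?_⟩
    rw [← sub_eq_zero, ← mul_sub, ← e]
    apply HomogeneousLocalization.val_injective
    rw [HomogeneousLocalization.val_mul, val_fromZero_pow, Away.val_mk, Localization.mk_mul,
      HomogeneousLocalization.val_zero, ← Localization.mk_zero (1 : Submonoid.powers s),
      Localization.mk_eq_mk_iff, Localization.r_iff_exists]
    refine ⟨⟨_, j, rfl⟩, ?_⟩
    simp only [one_mul, mul_zero, OneMemClass.coe_one]
    calc s ^ j * ((c : A) ^ k * a) = (c : A) ^ k * (s ^ j * a) := by ring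
      _ = 0 := hk

variable (hψ : ℬ₊ ≤ (𝒜₊).map ψ)

theorem isPullback_chart {d : ℕ} (hd : 0 < d) {s : A} (hs : s ∈ 𝒜 d) :
    IsPullback (Spec.map (CommRingCat.ofHom (Away.map ψ s)))
      (Proj.awayι ℬ (ψ s) (ψ.map_mem hs) hd) (Proj.awayι 𝒜 s hs hd) (Proj.map ψ hψ) :=
  IsOpenImmersion.isPullback _ _ _ _ (Proj.awayι_comp_map ψ hψ hd s hs)
    (by rw [Proj.opensRange_awayι, Proj.opensRange_awayι, Proj.map_preimage_basicOpen])

theorem isOpenImmersion_map (h : IsResLoc ψ c) : IsOpenImmersion (Proj.map ψ hψ) := by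
  refine IsZariskiLocalAtTarget.of_openCover (Proj.affineOpenCover 𝒜).openCover fun i => ?_
  refine ((MorphismProperty.arrow_mk_iso_iff (P := @IsOpenImmersion)
    (Arrow.isoMk ((isPullback_chart hψ i.1.2 i.2.2).flip.isoPullback)
      (Iso.refl _) (by
        simp only [Functor.id_obj, Arrow.mk_right, Arrow.mk_left, Arrow.mk_hom, Iso.refl_hom, Category.comp_id]
        exact IsPullback.isoPullback_hom_snd _)))).1 ?_
  letI := (Away.map ψ (i.2 : A)).toAlgebra
  haveI := away_isLocalization h i.2.2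
  exact IsOpenImmersion.of_isLocalization (S := Away ℬ (ψ (i.2 : A))) (fromZeroRingHom 𝒜 _ c)

/-- The image of `Proj ℬ` is the locus where `c` is invertible. -/
theorem range_map (h : IsResLoc ψ c) :
    Set.range (Proj.map ψ hψ) = (Proj.toSpecZero 𝒜) ⁻¹' (PrimeSpectrum.basicOpen c : Set (PrimeSpectrum (𝒜 0))) := by
  ext x
  obtain ⟨i, w, hw'⟩ : ∃ (i : (Proj.affineOpenCover 𝒜).I₀) (w : Spec (CommRingCat.of (Away 𝒜 (i.2 : A)))),
      Proj.awayι 𝒜 (i.2 : A) i.2.2 i.1.2 w = x := ⟨_, (Proj.affineOpenCover 𝒜).openCover.covers x⟩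
  letI := (Away.map ψ (i.2 : A)).toAlgebra
  haveI := away_isLocalization h i.2.2
  have hloc : Set.range (Spec.map (CommRingCat.ofHom (Away.map ψ (i.2 : A)))) =
      SetLike.coe (PrimeSpectrum.basicOpen (fromZeroRingHom 𝒜 (Submonoid.powers (i.2 : A)) c)) :=
    PrimeSpectrum.localization_away_comap_range (Away ℬ (ψ (i.2 : A))) (fromZeroRingHom 𝒜 (Submonoid.powers (i.2 : A)) c)
  subst hw'
  rw [Set.mem_preimage]
  constructor
  · rintro ⟨y, hy⟩
    obtain ⟨z, hz, -⟩ := Scheme.exists_preimage_of_isPullback (isPullback_chart hψ i.1.2 i.2.2) w y hy.symm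
    have hmem : w ∈ Set.range (Spec.map (CommRingCat.ofHom (Away.map ψ (i.2 : A)))) := ⟨z, hz⟩
    rw [hloc] at hmem
    rw [← Scheme.Hom.comp_apply, Proj.awayι_toSpecZero]
    exact hmem
  · intro hmem
    rw [← Scheme.Hom.comp_apply, Proj.awayι_toSpecZero] at hmem
    have : w ∈ Set.range (Spec.map (CommRingCat.ofHom (Away.map ψ (i.2 : A)))) := by rw [hloc]; exact hmem
    obtain ⟨z, rfl⟩ := this
    exact ⟨Proj.awayι ℬ (ψ (i.2 : A)) (ψ.map_mem i.2.2) i.1.2 z, by
      rw [← Scheme.Hom.comp_apply, ← Scheme.Hom.comp_apply, Proj.awayι_comp_map]⟩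

variable (ψ) in
/-- The degree zero part of a graded homomorphism. -/
def zeroHom : 𝒜 0 →+* ℬ 0 where
  toFun a := ⟨ψ (a : A), ψ.map_mem a.2⟩
  map_one' := Subtype.ext (map_one ψ)
  map_mul' a b := Subtype.ext (map_mul ψ (a : A) (b : A))
  map_zero' := Subtype.ext (map_zero ψ)
  map_add' a b := Subtype.ext (map_add ψ (a : A) (b : A))

omit c in
theorem map_toSpecZero : Proj.map ψ hψ ≫ Proj.toSpecZero 𝒜 =
    Proj.toSpecZero ℬ ≫ Spec.map (CommRingCat.ofHom (zeroHom ψ)) := by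
  have key : ∀ (d : ℕ) (hd : 0 < d) (t : A) (ht : t ∈ 𝒜 d),
      Proj.awayι ℬ (ψ t) (ψ.map_mem ht) hd ≫ Proj.map ψ hψ ≫ Proj.toSpecZero 𝒜 =
        Proj.awayι ℬ (ψ t) (ψ.map_mem ht) hd ≫ Proj.toSpecZero ℬ ≫ Spec.map (CommRingCat.ofHom (zeroHom ψ)) := by
    intro d hd t ht
    rw [Proj.awayι_comp_map_assoc ψ hψ hd t ht, Proj.awayι_toSpecZero, Proj.awayι_toSpecZero_assoc,
      ← Spec.map_comp, ← Spec.map_comp, ← CommRingCat.ofHom_comp, ← CommRingCat.ofHom_comp]
    congr 2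
    refine RingHom.ext fun a => ?_
    apply HomogeneousLocalization.val_injective
    simp [Away.map, fromZeroRingHom, HomogeneousLocalization.map_mk, zeroHom]
  exact (Proj.mapAffineOpenCover ψ hψ).openCover.hom_ext _ _ fun s => key _ s.1.2 _ s.2.2

omit c in
theorem map_congr {ψ' : 𝒜 →+*ᵍ ℬ} (e : ψ = ψ') (h' : ℬ₊ ≤ (𝒜₊).map ψ') :
    Proj.map ψ hψ = Proj.map ψ' h' := by
  subst e; rfl

end Groth.Agent.RelProj11
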