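import Groth.Agent.Lib.RelProj11.TwistComp
import Groth.Agent.Lib.Twist.Gen

/-!
Inverse images of twisting sheaves along morphisms induced by graded homomorphisms.
-/

universe u

open CategoryTheory CategoryTheory.Limits AlgebraicGeometry TopologicalSpace Opposite
open scoped HomogeneousIdeal

namespace Groth.Agent.RelProj11

open Groth.Agent.M1

/-- A morphism carrying generators to generators on a covering is an isomorphism. -/
theorem isIso_of_isGen {X : Scheme.{u}} {M N : X.Modules} (φ : M ⟶ N) {ι : Type u} (U : ι → X.Opens)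
    (hcov : ∀ x : X, ∃ i, x ∈ U i) (g : ∀ i, Γ(M, U i)) (hg : ∀ i, Twist.IsGen M (U i) (g i))
    (hg' : ∀ i, Twist.IsGen N (U i) (φ.app (U i) (g i))) : IsIso φ := by
  refine isIso_of_locally_bijective φ U hcov fun i V hV => ((hg i V hV).of_comp_iff _).1 ?_
  rw [show ⇑(φ.app V) ∘ (fun r : Γ(X, V) => r • mres M hV (g i)) =
    fun r => r • mres N hV (φ.app (U i) (g i)) from funext fun r => by
      rw [Function.comp_apply, Scheme.Modules.Hom.app_smul, app_mres]]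
  exact hg' i V hV

section gen

variable {S P : Scheme.{u}} {𝒮 : RelProj.QCGrAlg S} {p : P ⟶ S}
  {chart : ∀ (U : S.Opens) (hU : IsAffineOpen U), ((p ⁻¹ᵁ U : P.Opens) : Scheme.{u}) ≅ Proj (𝒮.deg U hU)}
  {n : ℤ} {L : P.Modules}
  {lam : ∀ (U : S.Opens) (hU : IsAffineOpen U),
      L ⟶ (Scheme.Modules.pushforward (RelProj.emb p chart U hU)).obj (GrTwist.twist (𝒮.deg U hU) n)}

/-- A section corresponding to an invertible section of a chart is a generator. -/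
theorem isGen_of_lam (hL : RelProj.IsRelTwist 𝒮 p chart n L lam) {U : S.Opens} {hU : IsAffineOpen U}
    {W : P.Opens} (hW : W ≤ p ⁻¹ᵁ U) (g : Γ(L, W))
    (e' : GrTw11.Sec (𝒜 := 𝒮.deg U hU) (-n) (RelProj.emb p chart U hU ⁻¹ᵁ W))
    (h : ∀ x hx, GrTw11.val (n := n) (U := RelProj.emb p chart U hU ⁻¹ᵁ W) ((lam U hU).app W g) x hx *
      GrTw11.val e' x hx = 1) : Twist.IsGen L W g := by
  intro V hV
  have hb := hL.bijective U hU V (hV.trans hW)
  rw [← hb.of_comp_iff' (fun r : Γ(P, V) => r • mres L hV g)]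
  let T := GrTwist.twist (𝒮.deg U hU) n
  have hgen := GrTw11.bijective_smul_of_inverse
    (((lam U hU).app W g : Γ(T, RelProj.emb p chart U hU ⁻¹ᵁ W)) : GrTw11.Sec (𝒜 := 𝒮.deg U hU) n _) e' h
    (RelProj.emb p chart U hU ⁻¹ᵁ V) (Scheme.Hom.preimage_mono _ hV)
  haveI := Scheme.Hom.isIso_app (RelProj.emb p chart U hU) V (le_opensRange_emb (hV.trans hW))
  have hF := hgen.comp (ConcreteCategory.bijective_of_isIso ((RelProj.emb p chart U hU).app V))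
  have key : ∀ r : Γ(P, V), ((lam U hU).app V (r • mres L hV g) : Γ(T, RelProj.emb p chart U hU ⁻¹ᵁ V)) =
      ((RelProj.emb p chart U hU).app V r) • mres T (Scheme.Hom.preimage_mono _ hV)
        ((lam U hU).app W g : Γ(T, RelProj.emb p chart U hU ⁻¹ᵁ W)) := fun r => by
    rw [Scheme.Modules.Hom.app_smul, app_mres]
    rfl
  constructor
  · intro r r' hr
    exact hF.1 (((key r).symm.trans hr).trans (key r'))
  · intro t
    obtain ⟨r, hr⟩ := hF.2 t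
    exact ⟨r, (key r).trans hr⟩

end gen

variable {S PA PB : Scheme.{u}} {𝒜 ℬ : RelProj.QCGrAlg S} {φ : 𝒜.toQCAlg ⟶ ℬ.toQCAlg}
  {hφ : RelProj.IsGradedHom φ}
  {hirr : ∀ (U : S.Opens) (hU : IsAffineOpen U),
    (ℬ.deg U hU)₊ ≤ ((𝒜.deg U hU)₊).map (RelProj.gradedHomAt φ hφ U hU)}
  {pA : PA ⟶ S} {pB : PB ⟶ S}
  {chartA : ∀ (U : S.Opens) (hU : IsAffineOpen U), (((pA ⁻¹ᵁ U : PA.Opens) : Scheme.{u}) ≅ Proj (𝒜.deg U hU))}
  {chartB : ∀ (U : S.Opens) (hU : IsAffineOpen U), (((pB ⁻¹ᵁ U : PB.Opens) : Scheme.{u}) ≅ Proj (ℬ.deg U hU))}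

theorem nonempty_pullback_relTwist (hgen : 𝒜.IsGenDegOne)
    (hA : RelProj.IsRelProj 𝒜 pA chartA) (hB : RelProj.IsRelProj ℬ pB chartB)
    {h : PB ⟶ PA} (hh : RelProj.IsRelProjMap φ hφ hirr chartA chartB h) (n : ℤ) {LA : PA.Modules}
    {lamA : ∀ (U : S.Opens) (hU : IsAffineOpen U),
      LA ⟶ (Scheme.Modules.pushforward (RelProj.emb pA chartA U hU)).obj (GrTwist.twist (𝒜.deg U hU) n)}
    (hLA : RelProj.IsRelTwist 𝒜 pA chartA n LA lamA) {LB : PB.Modules}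
    {lamB : ∀ (U : S.Opens) (hU : IsAffineOpen U),
      LB ⟶ (Scheme.Modules.pushforward (RelProj.emb pB chartB U hU)).obj (GrTwist.twist (ℬ.deg U hU) n)}
    (hLB : RelProj.IsRelTwist ℬ pB chartB n LB lamB) :
    Nonempty ((Scheme.Modules.pullback h).obj LA ≅ LB) := by
  classical
  obtain ⟨a, b, hab⟩ : ∃ a b : ℕ, n = (a : ℤ) - b := ⟨n.toNat, (-n).toNat, (Int.toNat_sub_toNat_neg n).symm⟩
  obtain ⟨θ, hθ, -⟩ := existsUnique_twistMap hh n hA hB hLA hLB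
  let adj := Scheme.Modules.pullbackPushforwardAdjunction h
  let ν := (adj.homEquiv _ _).symm θ
  let ι := Σ U : S.affineOpens, 𝒜.deg U.1 U.2 1
  let D : ∀ i : ι, (Proj (𝒜.deg i.1.1 i.1.2)).Opens := fun i =>
    Proj.basicOpen (𝒜.deg i.1.1 i.1.2) (i.2 : 𝒜.presheaf.obj (op i.1.1))
  let W : ι → PA.Opens := fun i => RelProj.emb pA chartA i.1.1 i.1.2 ''ᵁ D i
  have hW : ∀ i, W i ≤ pA ⁻¹ᵁ i.1.1 := fun i => image_emb_le _
  have hD : ∀ (i : ι) (k : ℕ), RelProj.emb pA chartA i.1.1 i.1.2 ⁻¹ᵁ W i ≤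
      Proj.basicOpen (𝒜.deg i.1.1 i.1.2) ((i.2 : 𝒜.presheaf.obj (op i.1.1)) ^ k) := fun i k y hy hm => by
    rw [Scheme.Hom.preimage_image_eq] at hy
    exact hy (y.isPrime.mem_of_pow_mem k hm)
  have hg : ∀ i : ι, ∃ g : Γ(LA, W i), (lamA i.1.1 i.1.2).app (W i) g =
      GrTw11.frac (𝒜.deg i.1.1 i.1.2) (n := n) (RelProj.emb pA chartA i.1.1 i.1.2 ⁻¹ᵁ W i)
        (SetLike.pow_mem_graded a i.2.2) (SetLike.pow_mem_graded b i.2.2)
        (by simp only [smul_eq_mul]; push_cast; rw [hab]; ring) (hD i b) :=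
    fun i => (hLA.bijective _ _ _ (hW i)).2 _
  choose g hg using hg
  have hgA : ∀ i, Twist.IsGen LA (W i) (g i) := fun i => by
    refine isGen_of_lam hLA (hW i) (g i) (GrTw11.frac (𝒜.deg i.1.1 i.1.2) _
      (SetLike.pow_mem_graded b i.2.2) (SetLike.pow_mem_graded a i.2.2)
      (by simp only [smul_eq_mul]; push_cast; rw [hab]; ring) (hD i a)) fun x hx => ?_
    rw [hg i]
    exact GrTw11.mk_mul_mk_eq_one _ (hD i a hx) (hD i b hx)
  have hpre : ∀ i, h ⁻¹ᵁ W i ≤ pB ⁻¹ᵁ i.1.1 := fun i => by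
    rw [← isRelProjMap_comp hA hB hh, Scheme.Hom.comp_preimage]
    exact Scheme.Hom.preimage_mono _ (hW i)
  have hν : ∀ i, ν.app (h ⁻¹ᵁ W i) (M2.pullSec h LA (g i)) = θ.app (W i) (g i) := fun i => by
    have h1 := congrArg (fun f => Scheme.Modules.Hom.app f (W i)) ((adj.homEquiv _ _).apply_symm_apply θ)
    simp only [Adjunction.homEquiv_unit] at h1
    exact congr($h1 (g i))
  refine ⟨@asIso _ _ _ _ ν (isIso_of_isGen ν (fun i => h ⁻¹ᵁ W i) (fun z => ?_) (fun i => M2.pullSec h LA (g i))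
    (fun i => Twist.IsGen.pullback h (hgA i)) fun i => ?_)⟩
  · obtain ⟨U, hU, x, hx⟩ := exists_emb_eq (chart := chartA) (h z)
    have hxc : x ∈ (⨆ f : 𝒜.deg U hU 1, Proj.basicOpen (𝒜.deg U hU) (f : 𝒜.presheaf.obj (op U))) := by
      rw [iSup_basicOpen_degOne hgen U hU]; trivial
    obtain ⟨f, hf⟩ := Opens.mem_iSup.1 hxc
    exact ⟨⟨⟨U, hU⟩, f⟩, x, hf, hx⟩
  · rw [hν]
    let ψ := RelProj.gradedHomAt φ hφ i.1.1 i.1.2
    have hf : ψ (i.2 : 𝒜.presheaf.obj (op i.1.1)) ∈ ℬ.deg i.1.1 i.1.2 1 := ψ.map_mem i.2.2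
    have hD' : ∀ k : ℕ, RelProj.emb pB chartB i.1.1 i.1.2 ⁻¹ᵁ (h ⁻¹ᵁ W i) ≤
        Proj.basicOpen (ℬ.deg i.1.1 i.1.2) (ψ (i.2 : 𝒜.presheaf.obj (op i.1.1)) ^ k) := fun k y hy hm =>
      hD i 1 (comap_mem_map hh hy) (by
        rw [pow_one]
        exact (y.isPrime.mem_of_pow_mem k hm : ψ (i.2 : 𝒜.presheaf.obj (op i.1.1)) ∈ y.asHomogeneousIdeal))
    refine isGen_of_lam hLB (hpre i) _ (GrTw11.frac (ℬ.deg i.1.1 i.1.2) _
      (SetLike.pow_mem_graded b hf) (SetLike.pow_mem_graded a hf)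
      (by simp only [smul_eq_mul]; push_cast; rw [hab]; ring) (hD' a)) fun y hy => ?_
    have e1 : (lamB i.1.1 i.1.2).app (h ⁻¹ᵁ W i) (θ.app (W i) (g i)) =
        (cmpMap hh n i.1.1 i.1.2).app (W i) ((lamA i.1.1 i.1.2).app (W i) (g i)) :=
      congr($(congrArg (fun f => Scheme.Modules.Hom.app f (W i)) (hθ i.1.1 i.1.2)) (g i))
    rw [e1, cmpMap_val, hg i]
    refine (congrArg (· * _) ((GrTw11.locMap_frac ψ (hirr _ _) y _ _ _))).trans ?_
    simp only [map_pow]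
    exact GrTw11.mk_mul_mk_eq_one _ (hD' a hy) (hD' b hy)

end Groth.Agent.RelProj11
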