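import Groth.Agent.Lib.RelProj11.TwistMap

/-!
Glueing modules given over the preimages of the affine opens of the base.
-/

universe u

open CategoryTheory CategoryTheory.Limits AlgebraicGeometry TopologicalSpace Opposite

namespace Groth.Agent.RelProj11

open Groth.Agent.M1

variable {S P : Scheme.{u}} {p : P ⟶ S}

/-- Modules over the preimages of the affine opens (extended to `P`) with compatible restrictions to basic opens. -/
structure GlueData (p : P ⟶ S) where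
  /-- the module over an affine open -/
  N : ∀ (U : S.Opens), IsAffineOpen U → P.Modules
  /-- the restriction to a basic open -/
  r : ∀ {U D : S.Opens} (hU : IsAffineOpen U) (hD : IsAffineOpen D), IsBasic U D → (N U hU ⟶ N D hD)
  supp : ∀ {U : S.Opens} (hU : IsAffineOpen U) (W : P.Opens),
    Function.Bijective (mres (N U hU) (inf_le_left : W ⊓ p ⁻¹ᵁ U ≤ W))
  bij : ∀ {U D : S.Opens} (hU : IsAffineOpen U) (hD : IsAffineOpen D) (h : IsBasic U D) {W : P.Opens},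
    W ≤ p ⁻¹ᵁ D → Function.Bijective ((r hU hD h).app W)
  comp : ∀ {U D E : S.Opens} (hU : IsAffineOpen U) (hD : IsAffineOpen D) (hE : IsAffineOpen E)
    (h : IsBasic U D) (h' : IsBasic D E), r hU hD h ≫ r hD hE h' = r hU hE (h.trans hU h')

namespace GlueData

variable (G : GlueData p)

/-- The family of chartwise twisting sheaves. -/
noncomputable abbrev famI : S.affineOpens → P.Modules := fun U => G.N U.1 U.2

/-- Their restrictions. -/
noncomputable abbrev famJ : BasicPair S → P.Modules := fun j => G.N j.1.2.1 j.1.2.2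

/-- The value on the smaller open. -/
noncomputable def eqLeft : ∏ᶜ G.famI ⟶ ∏ᶜ G.famJ :=
  Pi.lift fun j => Pi.π (G.famI) j.1.2

/-- The restriction of the value on the bigger open. -/
noncomputable def eqRight : ∏ᶜ G.famI ⟶ ∏ᶜ G.famJ :=
  Pi.lift fun j => Pi.π (G.famI) j.1.1 ≫ G.r j.1.1.2 j.1.2.2 j.2

/-- The glued twisting sheaf. -/
noncomputable def glued : P.Modules := equalizer (G.eqLeft) (G.eqRight)

/-- Its chartwise identifications. -/
noncomputable def gto (U : S.Opens) (hU : IsAffineOpen U) : G.glued ⟶ G.N U hU :=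
  equalizer.ι (G.eqLeft) (G.eqRight) ≫ Pi.π (G.famI) ⟨U, hU⟩

theorem to_r {U D : S.Opens} (hU : IsAffineOpen U) (hD : IsAffineOpen D) (h : IsBasic U D) :
    G.gto U hU ≫ G.r hU hD h = G.gto D hD := by
  have e := equalizer.condition (G.eqLeft) (G.eqRight) =≫ Pi.π (G.famJ) ⟨(⟨U, hU⟩, ⟨D, hD⟩), h⟩
  simp only [eqLeft, eqRight, Category.assoc, Pi.lift_π] at e
  rw [gto, gto, Category.assoc]
  exact e.symm

theorem to_ext (W : P.Opens) {s s' : Γ(G.glued, W)}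
    (h : ∀ (V : S.Opens) (hV : IsAffineOpen V), (G.gto V hV).app W s = (G.gto V hV).app W s') :
    s = s' :=
  equalizer_section_ext W _ _ (pi_section_ext W _ fun V => h V.1 V.2)

theorem r_app_comp {U D E : S.Opens} (hU : IsAffineOpen U) (hD : IsAffineOpen D) (hE : IsAffineOpen E)
    (h : IsBasic U D) (h' : IsBasic D E) (A : P.Opens) (x : Γ(G.N U hU, A)) :
    (G.r hD hE h').app A ((G.r hU hD h).app A x) = (G.r hU hE (h.trans hU h')).app A x :=
  congr($(congrArg (fun φ => Scheme.Modules.Hom.app φ A) (G.comp hU hD hE h h')) x)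

theorem exists_to_eq {U : S.Opens} (hU : IsAffineOpen U) {W : P.Opens} (hW : W ≤ p ⁻¹ᵁ U)
    (t : Γ(G.N U hU, W)) : ∃ s : Γ(G.glued, W), (G.gto U hU).app W s = t := by
  classical
  -- the opens basic in both
  let K : S.affineOpens → Type u := fun V => {D : S.affineOpens // IsBasic U D.1 ∧ IsBasic V.1 D.1}
  have hsec : ∀ V : S.affineOpens, ∃ s : Γ(G.famI V, W), ∀ D : K V,
      (G.r V.2 D.1.2 D.2.2).app _ (mres (G.famI V) (inf_le_left : W ⊓ p ⁻¹ᵁ D.1.1 ≤ W) s) =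
        (G.r hU D.1.2 D.2.1).app _ (mres (G.N U hU) inf_le_left t) := by
    intro V
    let A : K V → P.Opens := fun D => W ⊓ p ⁻¹ᵁ D.1.1
    choose τ hτ using fun D : K V => (G.bij V.2 D.1.2 D.2.2 (inf_le_right : A D ≤ _)).2
      ((G.r hU D.1.2 D.2.1).app (A D) (mres (G.N U hU) inf_le_left t))
    have hcompat : ∀ D D' : K V, mres (G.famI V) (inf_le_left : A D ⊓ A D' ≤ A D) (τ D) =
        mres (G.famI V) (inf_le_right : A D ⊓ A D' ≤ A D') (τ D') := by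
      intro D D'
      let J := {E : S.affineOpens // IsBasic D.1.1 E.1 ∧ IsBasic D'.1.1 E.1}
      refine isSheaf_eq_of_locally (fun E : J => (A D ⊓ A D') ⊓ p ⁻¹ᵁ E.1.1) (fun E => inf_le_left) (fun x hx => ?_) _ _ fun E => ?_
      · obtain ⟨E, hE, h1, h2, hxE⟩ := exists_common_basic D.1.2 D'.1.2 (p x) ⟨hx.1.2, hx.2.2⟩
        exact Opens.mem_iSup.2 ⟨⟨⟨E, hE⟩, h1, h2⟩, hx, hxE⟩
      · refine (G.bij V.2 E.1.2 (D.2.2.trans V.2 E.2.1) (inf_le_right : (A D ⊓ A D') ⊓ p ⁻¹ᵁ E.1.1 ≤ _)).1 ?_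
        rw [mres_mres, mres_mres]
        conv_lhs => rw [← G.r_app_comp V.2 D.1.2 E.1.2 D.2.2 E.2.1, app_mres, hτ, ← app_mres, mres_mres,
          G.r_app_comp hU D.1.2 E.1.2 D.2.1 E.2.1]
        conv_rhs => rw [← G.r_app_comp V.2 D'.1.2 E.1.2 D'.2.2 E.2.2, app_mres, hτ, ← app_mres, mres_mres,
          G.r_app_comp hU D'.1.2 E.1.2 D'.2.1 E.2.2]
    have hcov : W ⊓ p ⁻¹ᵁ V.1 ≤ iSup A := fun x hx => by
      obtain ⟨D, hD, h1, h2, hxD⟩ := exists_common_basic hU V.2 (p x) ⟨hW hx.1, hx.2⟩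
      exact Opens.mem_iSup.2 ⟨⟨⟨D, hD⟩, h1, h2⟩, hx.1, hxD⟩
    have hA : ∀ D : K V, A D ≤ W ⊓ p ⁻¹ᵁ V.1 := fun D => inf_le_inf le_rfl (p.preimage_mono D.2.2.le)
    obtain ⟨s', hs', -⟩ := TopCat.Sheaf.existsUnique_gluing' ⟨(G.famI V).presheaf, (G.famI V).isSheaf⟩ A
      (W ⊓ p ⁻¹ᵁ V.1) (fun D => homOfLE (hA D)) hcov τ hcompat
    obtain ⟨s, hs⟩ := (G.supp V.2 W).2 s'
    refine ⟨s, fun D => ?_⟩
    rw [← mres_mres _ (inf_le_left : W ⊓ p ⁻¹ᵁ V.1 ≤ W) (hA D) s, hs]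
    exact (congrArg _ (hs' D)).trans (hτ D)
  choose sV hsV using hsec
  obtain ⟨σ, hσ⟩ := exists_pi_section W (G.famI) sV
  have hcond : (G.eqLeft).app W σ = (G.eqRight).app W σ := by
    refine pi_section_ext W _ fun j => ?_
    obtain ⟨⟨V, E⟩, hj⟩ := j
    have e1 : (Pi.π (G.famJ) ⟨(V, E), hj⟩).app W ((G.eqLeft).app W σ) = sV E := by
      rw [← hσ E, eqLeft]
      exact congr($(congrArg (fun φ => Scheme.Modules.Hom.app φ W) (Pi.lift_π (fun j : BasicPair S => Pi.π (G.famI) j.1.2) ⟨(V, E), hj⟩)) σ)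
    have e2 : (Pi.π (G.famJ) ⟨(V, E), hj⟩).app W ((G.eqRight).app W σ) =
        (G.r V.2 E.2 hj).app W (sV V) := by
      rw [← hσ V, eqRight]
      exact congr($(congrArg (fun φ => Scheme.Modules.Hom.app φ W) (Pi.lift_π
        (fun j : BasicPair S => Pi.π (G.famI) j.1.1 ≫ G.r j.1.1.2 j.1.2.2 j.2) ⟨(V, E), hj⟩)) σ)
    rw [e1, e2]
    refine (G.supp E.2 W).1 ?_
    refine isSheaf_eq_of_locally (fun D : K E => W ⊓ p ⁻¹ᵁ D.1.1) (fun D => inf_le_inf le_rfl (p.preimage_mono D.2.2.le))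
      (fun x hx => ?_) _ _ fun D => ?_
    · obtain ⟨D, hD, h1, h2, hxD⟩ := exists_common_basic hU E.2 (p x) ⟨hW hx.1, hx.2⟩
      exact Opens.mem_iSup.2 ⟨⟨⟨D, hD⟩, h1, h2⟩, hx.1, hxD⟩
    · refine (G.bij E.2 D.1.2 D.2.2 (inf_le_right : W ⊓ p ⁻¹ᵁ D.1.1 ≤ _)).1 ?_
      rw [mres_mres, mres_mres, hsV E D, ← app_mres, G.r_app_comp V.2 E.2 D.1.2 hj D.2.2,
        hsV V ⟨D.1, D.2.1, hj.trans V.2 D.2.2⟩]
  obtain ⟨s, hs⟩ := exists_equalizer_section W _ _ σ hcond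
  refine ⟨s, ?_⟩
  have e3 : (G.gto U hU).app W s = sV ⟨U, hU⟩ := by
    rw [← hσ ⟨U, hU⟩, ← hs]; rfl
  rw [e3]
  let K' := {D : S.affineOpens // IsBasic U D.1}
  refine isSheaf_eq_of_locally (fun D : K' => W ⊓ p ⁻¹ᵁ D.1.1) (fun D => inf_le_left) (fun x hx => ?_) _ _ fun D => ?_
  · obtain ⟨D, hD, h1, -, hxD⟩ := exists_common_basic hU hU (p x) ⟨hW hx, hW hx⟩
    exact Opens.mem_iSup.2 ⟨⟨⟨D, hD⟩, h1⟩, hx, hxD⟩
  · exact (G.bij hU D.1.2 D.2 inf_le_right).1 (hsV ⟨U, hU⟩ ⟨D.1, D.2, D.2⟩)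

theorem to_injective {U : S.Opens} (hU : IsAffineOpen U) {W : P.Opens} (hW : W ≤ p ⁻¹ᵁ U) :
    Function.Injective ((G.gto U hU).app W) := by
  intro s s' h
  refine G.to_ext W fun V hV => ?_
  refine (G.supp hV W).1 ?_
  let K' := {D : S.affineOpens // IsBasic U D.1 ∧ IsBasic V D.1}
  refine isSheaf_eq_of_locally (fun D : K' => W ⊓ p ⁻¹ᵁ D.1.1) (fun D => inf_le_inf le_rfl (p.preimage_mono D.2.2.le))
    (fun x hx => ?_) _ _ fun D => ?_
  · obtain ⟨D, hD, h1, h2, hxD⟩ := exists_common_basic hU hV (p x) ⟨hW hx.1, hx.2⟩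
    exact Opens.mem_iSup.2 ⟨⟨⟨D, hD⟩, h1, h2⟩, hx.1, hxD⟩
  · refine (G.bij hV D.1.2 D.2.2 (inf_le_right : W ⊓ p ⁻¹ᵁ D.1.1 ≤ _)).1 ?_
    have key : ∀ z : Γ(G.glued, W),
        (G.r hV D.1.2 D.2.2).app (W ⊓ p ⁻¹ᵁ D.1.1) (mres (G.N V hV) inf_le_left ((G.gto V hV).app W z)) =
        (G.r hU D.1.2 D.2.1).app (W ⊓ p ⁻¹ᵁ D.1.1) (mres (G.N U hU) inf_le_left ((G.gto U hU).app W z)) := by
      intro z
      rw [← app_mres, ← app_mres]
      exact (congr($(congrArg (fun φ => Scheme.Modules.Hom.app φ (W ⊓ p ⁻¹ᵁ D.1.1)) (G.to_r hV D.1.2 D.2.2)) _)).trans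
        (congr($(congrArg (fun φ => Scheme.Modules.Hom.app φ (W ⊓ p ⁻¹ᵁ D.1.1)) (G.to_r hU D.1.2 D.2.1)) _)).symm
    rw [mres_mres, mres_mres, key, key, h]


/-- `(L, lam)` is the glued module. -/
structure IsSol (L : P.Modules) (lam : ∀ (U : S.Opens) (hU : IsAffineOpen U), L ⟶ G.N U hU) : Prop where
  bijective : ∀ (U : S.Opens) (hU : IsAffineOpen U) (W : P.Opens), W ≤ p ⁻¹ᵁ U →
    Function.Bijective ((lam U hU).app W)
  lam_r : ∀ (U D : S.Opens) (hU : IsAffineOpen U) (hD : IsAffineOpen D) (h : IsBasic U D),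
    lam U hU ≫ G.r hU hD h = lam D hD

theorem isSol_glued : G.IsSol G.glued G.gto :=
  ⟨fun U hU W hW => ⟨G.to_injective hU hW, G.exists_to_eq hU hW⟩, fun U D hU hD h => G.to_r hU hD h⟩

variable {G}

/-- Compatible maps into the pieces, as one map to the glued module. -/
noncomputable def lift {M : P.Modules} (μ : ∀ (U : S.Opens) (hU : IsAffineOpen U), M ⟶ G.N U hU)
    (hμ : ∀ (U D : S.Opens) (hU : IsAffineOpen U) (hD : IsAffineOpen D) (h : IsBasic U D),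
      μ U hU ≫ G.r hU hD h = μ D hD) : M ⟶ G.glued :=
  equalizer.lift (Pi.lift fun U : S.affineOpens => μ U.1 U.2) (Pi.hom_ext _ _ fun j => by
    simp only [eqLeft, eqRight, Category.assoc, Pi.lift_π, Pi.lift_π_assoc]
    exact (hμ _ _ _ _ j.2).symm)

theorem lift_to {M : P.Modules} (μ : ∀ (U : S.Opens) (hU : IsAffineOpen U), M ⟶ G.N U hU)
    (hμ : ∀ (U D : S.Opens) (hU : IsAffineOpen U) (hD : IsAffineOpen D) (h : IsBasic U D),
      μ U hU ≫ G.r hU hD h = μ D hD) (U : S.Opens) (hU : IsAffineOpen U) :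
    lift μ hμ ≫ G.gto U hU = μ U hU :=
  (Category.assoc _ _ _).symm.trans ((congrArg (· ≫ Pi.π G.famI ⟨U, hU⟩) (equalizer.lift_ι _ _)).trans
    (Pi.lift_π (fun U : S.affineOpens => μ U.1 U.2) ⟨U, hU⟩))

theorem ghom_ext {M : P.Modules} {ν ν' : M ⟶ G.glued}
    (h : ∀ (U : S.Opens) (hU : IsAffineOpen U), ν ≫ G.gto U hU = ν' ≫ G.gto U hU) : ν = ν' :=
  equalizer.hom_ext (Pi.hom_ext _ _ fun U => (Category.assoc _ _ _).trans ((h U.1 U.2).trans (Category.assoc _ _ _).symm))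

variable {L : P.Modules} {lam : ∀ (U : S.Opens) (hU : IsAffineOpen U), L ⟶ G.N U hU}

theorem IsSol.existsUnique_lift (hL : G.IsSol L lam) {M : P.Modules}
    (μ : ∀ (U : S.Opens) (hU : IsAffineOpen U), M ⟶ G.N U hU)
    (hμ : ∀ (U D : S.Opens) (hU : IsAffineOpen U) (hD : IsAffineOpen D) (h : IsBasic U D),
      μ U hU ≫ G.r hU hD h = μ D hD) :
    ∃! ν : M ⟶ L, ∀ (U : S.Opens) (hU : IsAffineOpen U), ν ≫ lam U hU = μ U hU := by
  let k := lift lam hL.lam_r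
  have hk : IsIso k := by
    refine isIso_of_locally_bijective k (fun U : S.affineOpens => p ⁻¹ᵁ U.1)
      (fun x => (exists_mem_preimage (p := p) x).elim fun U hU => hU.elim fun hA hx => ⟨⟨U, hA⟩, hx⟩)
      fun U V hV => ?_
    refine (Function.Bijective.of_comp_iff' (G.isSol_glued.bijective U.1 U.2 V hV) _).1 ?_
    have e : ⇑((G.gto U.1 U.2).app V) ∘ ⇑(k.app V) = ⇑((lam U.1 U.2).app V) := funext fun s =>
      congr($(congrArg (fun φ => Scheme.Modules.Hom.app φ V) (lift_to lam hL.lam_r U.1 U.2)) s)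
    rw [e]
    exact hL.bijective U.1 U.2 V hV
  refine ⟨lift μ hμ ≫ inv k, fun U hU => ?_, fun ν hν => ?_⟩
  · rw [Category.assoc, ← lift_to lam hL.lam_r U hU, IsIso.inv_hom_id_assoc]
    exact lift_to μ hμ U hU
  · rw [IsIso.eq_comp_inv]
    refine ghom_ext fun U hU => ?_
    rw [Category.assoc, lift_to, lift_to]
    exact hν U hU

/-- A map commuting with bijective identifications is an isomorphism. -/
theorem isIso_of_comm {L' : P.Modules} {lam' : ∀ (U : S.Opens) (hU : IsAffineOpen U), L' ⟶ G.N U hU}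
    (hL : G.IsSol L lam) (hL' : G.IsSol L' lam') (φ : L ⟶ L')
    (hφ : ∀ (U : S.Opens) (hU : IsAffineOpen U), φ ≫ lam' U hU = lam U hU) : IsIso φ := by
  refine isIso_of_locally_bijective φ (fun U : S.affineOpens => p ⁻¹ᵁ U.1)
    (fun x => (exists_mem_preimage (p := p) x).elim fun U hU => hU.elim fun hA hx => ⟨⟨U, hA⟩, hx⟩)
    fun U V hV => ?_
  refine (Function.Bijective.of_comp_iff' (hL'.bijective U.1 U.2 V hV) _).1 ?_
  have e : ⇑((lam' U.1 U.2).app V) ∘ ⇑(φ.app V) = ⇑((lam U.1 U.2).app V) := funext fun s =>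
    congr($(congrArg (fun φ => Scheme.Modules.Hom.app φ V) (hφ U.1 U.2)) s)
  rw [e]
  exact hL.bijective U.1 U.2 V hV

end GlueData

end Groth.Agent.RelProj11
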