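import Groth.Prelude.Def_RelProj3
import Groth.Agent.Lib.GrMod11.Comap
import Groth.Agent.Lib.RelProj11.Glue
import Groth.Agent.Lib.ModM1.Stalk

/-!
The module on a relative `Proj` attached to a quasi-coherent graded module.
-/

universe u

open CategoryTheory CategoryTheory.Limits AlgebraicGeometry TopologicalSpace Opposite
open scoped HomogeneousIdeal

namespace Groth.Agent.RelProj11

open Groth.Agent.GrMod11 Groth.Agent.M1

variable {S P : Scheme.{u}} {𝒮 : RelProj.QCGrAlg S}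

/-- A graded module as a module over the structure sheaf. -/
noncomputable abbrev osMod (ℳ : RelProj.GrModule 𝒮) : S.Modules := (AMod.toOS 𝒮.toQCAlg).obj ℳ.mod

theorem grModule_res_eq_zero {ℳ : RelProj.GrModule 𝒮} (hℳ : Coh.IsQCoh (osMod ℳ)) {U D : S.Opens}
    (hU : IsAffineOpen U) (hD : IsAffineOpen D) (hle : D ≤ U) (r : Γ(S, U)) (e : D = S.basicOpen r)
    (m : ℳ.mod.val.obj (op U)) (hm : ℳ.res hU hD hle m = 0) :
    ∃ K : ℕ, ((((𝒮.strZero U hU).hom r : 𝒮.deg U hU 0)) : 𝒮.presheaf.obj (op U)) ^ K • m = 0 := by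
  subst e
  haveI := hℳ
  obtain ⟨K, hK⟩ := exists_pow_smul_eq_zero_affine (osMod ℳ) hU r (m : Γ(osMod ℳ, U)) hm
  refine ⟨K, ?_⟩
  have h : ((𝒮.str.app (op U)).hom (r ^ K) : 𝒮.presheaf.obj (op U)) • m = 0 := hK
  rwa [map_pow] at h

theorem grModule_exists_lift {ℳ : RelProj.GrModule 𝒮} (hℳ : Coh.IsQCoh (osMod ℳ)) {U D : S.Opens}
    (hU : IsAffineOpen U) (hD : IsAffineOpen D) (hle : D ≤ U) (r : Γ(S, U)) (e : D = S.basicOpen r)
    (i : ℕ) (y : ℳ.mod.val.obj (op D)) (hy : y ∈ ℳ.deg D hD i) :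
    ∃ (K : ℕ) (m : ℳ.mod.val.obj (op U)), m ∈ ℳ.deg U hU i ∧ ℳ.res hU hD hle m =
      𝒮.res hU hD hle ((((𝒮.strZero U hU).hom r : 𝒮.deg U hU 0)) : 𝒮.presheaf.obj (op U)) ^ K • y := by
  classical
  subst e
  haveI := hℳ
  obtain ⟨K, m₀, hK⟩ := exists_pow_smul_eq_res_affine (osMod ℳ) hU r (y : Γ(osMod ℳ, S.basicOpen r))
  have h : ℳ.res hU hD hle m₀ =
      ((𝒮.str.app (op (S.basicOpen r))).hom (ores (S.basicOpen_le r) r ^ K) : 𝒮.presheaf.obj (op (S.basicOpen r))) • y := hK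
  have hnat : (𝒮.str.app (op (S.basicOpen r))).hom (ores (S.basicOpen_le r) r) =
      𝒮.res hU hD hle ((((𝒮.strZero U hU).hom r : 𝒮.deg U hU 0)) : 𝒮.presheaf.obj (op U)) :=
    ConcreteCategory.congr_hom (𝒮.str.naturality (homOfLE hle).op) r
  rw [map_pow, hnat] at h
  refine ⟨K, DirectSum.decompose (ℳ.deg U hU) m₀ i, SetLike.coe_mem _, ?_⟩
  rw [← decompose_map (𝒮.res hU hD hle) (ℳ.res hU hD hle) (ℳ.res_mem hU hD hle), h]
  refine DirectSum.decompose_of_mem_same _ ?_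
  have h0 : 𝒮.res hU hD hle ((((𝒮.strZero U hU).hom r : 𝒮.deg U hU 0)) : 𝒮.presheaf.obj (op U)) ^ K ∈
      𝒮.deg (S.basicOpen r) hD 0 := by
    simpa using SetLike.pow_mem_graded K ((𝒮.res hU hD hle).map_mem ((𝒮.strZero U hU).hom r).2)
  simpa using smul_mem_graded (𝒮.deg (S.basicOpen r) hD) h0 hy

variable {p : P ⟶ S}
  {chart : ∀ (U : S.Opens) (hU : IsAffineOpen U), ((p ⁻¹ᵁ U : P.Opens) : Scheme.{u}) ≅ Proj (𝒮.deg U hU)}
  (hP : RelProj.IsRelProj 𝒮 p chart) (ℳ : RelProj.GrModule 𝒮) (n : ℤ)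

variable (chart) in
/-- The module of `ℳ(U)` as a module on `P`. -/
noncomputable abbrev tfam (U : S.Opens) (hU : IsAffineOpen U) : P.Modules :=
  (Scheme.Modules.pushforward (RelProj.emb p chart U hU)).obj (GrMod.tilde (𝒮.deg U hU) (ℳ.deg U hU) n)

/-- The restriction of the modules of the charts to a basic open of the base. -/
noncomputable def tresMap {U D : S.Opens} (hU : IsAffineOpen U) (hD : IsAffineOpen D) (h : IsBasic U D) :
    tfam chart ℳ n U hU ⟶ tfam chart ℳ n D hD :=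
  (Scheme.Modules.pushforward (RelProj.emb p chart U hU)).map
      (GrMod.comap (𝒮.res hU hD h.le) (h.irrelevant hU hD) (ℳ.res hU hD h.le) (ℳ.res_mem hU hD h.le) n) ≫
    (Scheme.Modules.pushforwardComp (Proj.map (𝒮.res hU hD h.le) (h.irrelevant hU hD))
        (RelProj.emb p chart U hU)).hom.app (GrMod.tilde (𝒮.deg D hD) (ℳ.deg D hD) n) ≫
      (Scheme.Modules.pushforwardCongr (map_res_emb' hP hU hD h)).hom.app (GrMod.tilde (𝒮.deg D hD) (ℳ.deg D hD) n)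

theorem tresMap_val {U D : S.Opens} (hU : IsAffineOpen U) (hD : IsAffineOpen D) (h : IsBasic U D) (W : P.Opens)
    (t : Γ(tfam chart ℳ n U hU, W)) (y : Proj (𝒮.deg D hD)) (hy : y ∈ RelProj.emb p chart D hD ⁻¹ᵁ W) :
    val (n := n) (ℳ := ℳ.deg D hD) ((tresMap hP ℳ n hU hD h).app W t) y hy =
      GrMod.locModMap (𝒮.res hU hD h.le) (h.irrelevant hU hD) (ℳ.res hU hD h.le) y
        (val (n := n) (ℳ := ℳ.deg U hU) (U := RelProj.emb p chart U hU ⁻¹ᵁ W) t _ (comap_mem hU hD h hy hP)) := by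
  rfl

theorem tresMap_bijective (hℳ : Coh.IsQCoh (osMod ℳ)) {U D : S.Opens} (hU : IsAffineOpen U) (hD : IsAffineOpen D)
    (h : IsBasic U D) {W : P.Opens} (hW : W ≤ p ⁻¹ᵁ D) :
    Function.Bijective ((tresMap (chart := chart) hP ℳ n hU hD h).app W) := by
  obtain ⟨r, hr⟩ := id h
  have hres := isResLoc 𝒮 hU hD h.le r hr
  have hsub : ((RelProj.emb p chart U hU ⁻¹ᵁ W : (Proj (𝒮.deg U hU)).Opens) : Set (Proj (𝒮.deg U hU))) ⊆
      Set.range (Proj.map (𝒮.res hU hD h.le) (h.irrelevant hU hD)) := by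
    intro x hx
    obtain ⟨y, hy⟩ : ∃ (y : Proj (𝒮.deg D hD)),
        RelProj.emb p chart D hD y = RelProj.emb p chart U hU x := by
      refine ⟨(chart D hD).hom ⟨_, hW hx⟩, ?_⟩
      rw [RelProj.emb, ← Scheme.Hom.comp_apply, Iso.hom_inv_id_assoc]
      rfl
    refine ⟨y, (RelProj.emb p chart U hU).isOpenEmbedding.injective ?_⟩
    rw [← hy, ← map_res_emb' hP hU hD h, Scheme.Hom.comp_apply]
  have hV : RelProj.emb p chart D hD ⁻¹ᵁ W =
      Proj.map (𝒮.res hU hD h.le) (h.irrelevant hU hD) ⁻¹ᵁ (RelProj.emb p chart U hU ⁻¹ᵁ W) := by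
    rw [← Scheme.Hom.comp_preimage, map_res_emb' hP hU hD h]
  have hb := bijective_comap_app_of_isResLoc (𝒮.res hU hD h.le) (h.irrelevant hU hD) (ℳ.res hU hD h.le)
    (ℳ.res_mem hU hD h.le) hres (grModule_res_eq_zero hℳ hU hD h.le r hr)
    (grModule_exists_lift hℳ hU hD h.le r hr) n hsub
  constructor
  · intro s s' e
    refine hb.1 (sec_ext (n := n) (ℳ := ℳ.deg D hD) fun y hy => ?_)
    exact congrArg (fun t => val (n := n) (ℳ := ℳ.deg D hD) t y (hV.ge hy)) e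
  · intro t
    let t' : Γ(GrMod.tilde (𝒮.deg D hD) (ℳ.deg D hD) n,
      Proj.map (𝒮.res hU hD h.le) (h.irrelevant hU hD) ⁻¹ᵁ (RelProj.emb p chart U hU ⁻¹ᵁ W)) :=
        mres (GrMod.tilde (𝒮.deg D hD) (ℳ.deg D hD) n) hV.ge t
    obtain ⟨s, hs⟩ := hb.2 t'
    refine ⟨s, sec_ext (n := n) (ℳ := ℳ.deg D hD) fun y hy => ?_⟩
    exact congrArg (fun t => val (n := n) (ℳ := ℳ.deg D hD) t y (hV.le hy)) hs

theorem grModule_res_comp {U D E : S.Opens} (hU : IsAffineOpen U) (hD : IsAffineOpen D) (hE : IsAffineOpen E)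
    (i : D ≤ U) (j : E ≤ D) (m : ℳ.mod.val.obj (op U)) :
    ℳ.res hD hE j (ℳ.res hU hD i m) = ℳ.res hU hE (j.trans i) m := by
  simp only [RelProj.GrModule.res_apply]
  exact (ℳ.mod.val.map_comp_apply (homOfLE i).op (homOfLE j).op m).symm

theorem tresMap_comp {U D E : S.Opens} (hU : IsAffineOpen U) (hD : IsAffineOpen D) (hE : IsAffineOpen E)
    (h : IsBasic U D) (h' : IsBasic D E) :
    tresMap (chart := chart) hP ℳ n hU hD h ≫ tresMap hP ℳ n hD hE h' = tresMap hP ℳ n hU hE (h.trans hU h') := by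
  ext W t
  refine sec_ext (n := n) (ℳ := ℳ.deg E hE) (U := RelProj.emb p chart E hE ⁻¹ᵁ W) fun y hy => ?_
  show val (n := n) (ℳ := ℳ.deg E hE) ((tresMap hP ℳ n hD hE h').app W ((tresMap hP ℳ n hU hD h).app W t)) y hy = _
  rw [tresMap_val, tresMap_val, tresMap_val]
  have hx : ProjectiveSpectrum.comap (𝒮.res hU hE (h.trans hU h').le) ((h.trans hU h').irrelevant hU hE) y =
      ProjectiveSpectrum.comap (𝒮.res hU hD h.le) (h.irrelevant hU hD)
        (ProjectiveSpectrum.comap (𝒮.res hD hE h'.le) (h'.irrelevant hD hE) y) := by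
    refine ProjectiveSpectrum.ext (HomogeneousIdeal.ext (Ideal.ext fun a => ?_))
    show 𝒮.res hU hE _ a ∈ y.asHomogeneousIdeal ↔ 𝒮.res hD hE h'.le (𝒮.res hU hD h.le a) ∈ y.asHomogeneousIdeal
    rw [← res_comp 𝒮 hU hD hE h.le h'.le]
    rfl
  have key : ∀ (x : ProjectiveSpectrum (𝒮.deg U hU))
      (q : GrMod.LocMod (𝒮.deg U hU) (M := ℳ.mod.val.obj (op U)) x)
      (e₁ : x = ProjectiveSpectrum.comap (𝒮.res hU hE (h.trans hU h').le) ((h.trans hU h').irrelevant hU hE) y)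
      (e₂ : x = ProjectiveSpectrum.comap (𝒮.res hU hD h.le) (h.irrelevant hU hD)
        (ProjectiveSpectrum.comap (𝒮.res hD hE h'.le) (h'.irrelevant hD hE) y)),
      GrMod.locModMap (𝒮.res hD hE h'.le) (h'.irrelevant hD hE) (ℳ.res hD hE h'.le) y
        (GrMod.locModMap (𝒮.res hU hD h.le) (h.irrelevant hU hD) (ℳ.res hU hD h.le) _ (e₂ ▸ q)) =
      GrMod.locModMap (𝒮.res hU hE (h.trans hU h').le) ((h.trans hU h').irrelevant hU hE)
        (ℳ.res hU hE (h.trans hU h').le) y (e₁ ▸ q) := by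
    intro x q e₁ e₂
    subst e₂
    induction q using LocalizedModule.induction_on with
    | h m s =>
      obtain ⟨s, hs⟩ := s
      have hs' : s ∉ (ProjectiveSpectrum.comap (𝒮.res hU hE (h.trans hU h').le) ((h.trans hU h').irrelevant hU hE) y).asHomogeneousIdeal := by
        rw [← e₁]; exact hs
      have aux : ∀ (x : ProjectiveSpectrum (𝒮.deg U hU)) (e : ProjectiveSpectrum.comap (𝒮.res hU hD h.le) (h.irrelevant hU hD)
          (ProjectiveSpectrum.comap (𝒮.res hD hE h'.le) (h'.irrelevant hD hE) y) = x) (hsx : s ∉ x.asHomogeneousIdeal),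
          (e ▸ mkx (𝒮.deg U hU) _ m s hs : GrMod.LocMod (𝒮.deg U hU) x) = mkx (𝒮.deg U hU) x m s hsx := by
        rintro _ rfl _; rfl
      rw [show (LocalizedModule.mk m ⟨s, hs⟩ : GrMod.LocMod (𝒮.deg U hU) _) = mkx (𝒮.deg U hU) _ m s hs from rfl,
        aux _ e₁ hs', locModMap_mkx, locModMap_mkx]
      erw [locModMap_mkx, grModule_res_comp]
      simp only [show 𝒮.res hD hE h'.le (𝒮.res hU hD h.le s) = 𝒮.res hU hE (h.trans hU h').le s from
        DFunLike.congr_fun (res_comp 𝒮 hU hD hE h.le h'.le) s]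
  have hmem := comap_mem hU hE (h.trans hU h') hy hP
  have cast : ∀ (x x' : ProjectiveSpectrum (𝒮.deg U hU)) (e : x = x') (hx : x ∈ RelProj.emb p chart U hU ⁻¹ᵁ W)
      (hx' : x' ∈ RelProj.emb p chart U hU ⁻¹ᵁ W),
      (e ▸ val (n := n) (ℳ := ℳ.deg U hU) t x hx : GrMod.LocMod (𝒮.deg U hU) x') = val (n := n) (ℳ := ℳ.deg U hU) t x' hx' := by
    rintro _ _ rfl _ _; rfl
  have k := key _ (val (n := n) (ℳ := ℳ.deg U hU) t _ hmem) rfl hx
  rw [cast _ _ hx hmem (comap_mem hU hD h (comap_mem hD hE h' hy hP) hP)] at k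
  exact k

/-- The glueing data of `(ℳ(n))~`. -/
noncomputable def tildeData (hℳ : Coh.IsQCoh (osMod ℳ)) : GlueData p where
  N := tfam chart ℳ n
  r hU hD h := tresMap hP ℳ n hU hD h
  supp {U} hU W := by
    have e : RelProj.emb p chart U hU ⁻¹ᵁ (W ⊓ p ⁻¹ᵁ U) = RelProj.emb p chart U hU ⁻¹ᵁ W :=
      le_antisymm (fun y hy => hy.1) fun y hy => ⟨hy, ((chart U hU).inv y).2⟩
    refine ⟨fun s s' es => sec_ext (n := n) (ℳ := ℳ.deg U hU) fun y hy =>
      congrArg (fun t => val (n := n) (ℳ := ℳ.deg U hU) t y (e.ge hy)) es, fun t => ?_⟩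
    exact ⟨mres (GrMod.tilde (𝒮.deg U hU) (ℳ.deg U hU) n) e.ge t, sec_ext (n := n) (ℳ := ℳ.deg U hU) fun y hy => rfl⟩
  bij hU hD h _ hW := tresMap_bijective hP ℳ n hℳ hU hD h hW
  comp hU hD hE h h' := tresMap_comp hP ℳ n hU hD hE h h'

theorem isSol_iff (hℳ : Coh.IsQCoh (osMod ℳ)) {F : P.Modules}
    {lam : ∀ (U : S.Opens) (hU : IsAffineOpen U),
      F ⟶ (Scheme.Modules.pushforward (RelProj.emb p chart U hU)).obj (GrMod.tilde (𝒮.deg U hU) (ℳ.deg U hU) n)} :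
    (tildeData hP ℳ n hℳ).IsSol F lam ↔ RelProj.IsRelTilde 𝒮 p chart ℳ n F lam := by
  refine ⟨fun hL => ⟨hL.bijective, fun U hU r W s y hy _ => ?_⟩, fun hL => ⟨hL.bijective, fun U D hU hD h => ?_⟩⟩
  · refine (congrArg (fun t => val (n := n) (ℳ := ℳ.deg _ (hU.basicOpen r)) t y hy)
      congr($(congrArg (fun f => Scheme.Modules.Hom.app f W) (hL.lam_r U _ hU (hU.basicOpen r) ⟨r, rfl⟩)) s)).symm.trans ?_
    exact tresMap_val hP ℳ n hU (hU.basicOpen r) ⟨r, rfl⟩ W _ y hy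
  · obtain ⟨r, rfl⟩ := h
    ext W s
    refine sec_ext (n := n) (ℳ := ℳ.deg (S.basicOpen r) hD) (U := RelProj.emb p chart (S.basicOpen r) hD ⁻¹ᵁ W) fun y hy => ?_
    show val (n := n) (ℳ := ℳ.deg _ hD) ((tresMap hP ℳ n hU hD ⟨r, rfl⟩).app W ((lam U hU).app W s)) y hy = _
    rw [tresMap_val]
    exact (hL.compat U hU r W s y hy (comap_mem hU hD ⟨r, rfl⟩ hy hP)).symm

end Groth.Agent.RelProj11
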