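import Groth.Agent.Lib.RelProj11.RelTilde
import Groth.Agent.Lib.GrMod11.QCoh

/-!
Existence, uniqueness, quasi-coherence and functoriality of `(ℳ(n))~`.
-/

universe u

open CategoryTheory CategoryTheory.Limits AlgebraicGeometry TopologicalSpace Opposite
open scoped HomogeneousIdeal

namespace Groth.Agent.RelProj11

open Groth.Agent.GrMod11 Groth.Agent.M1

variable {S P : Scheme.{u}} {𝒮 : RelProj.QCGrAlg S} {p : P ⟶ S}
  {chart : ∀ (U : S.Opens) (hU : IsAffineOpen U), ((p ⁻¹ᵁ U : P.Opens) : Scheme.{u}) ≅ Proj (𝒮.deg U hU)}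
  {ℳ : RelProj.GrModule 𝒮} {n : ℤ}

theorem exists_isRelTilde (hP : RelProj.IsRelProj 𝒮 p chart) (hℳ : Coh.IsQCoh (osMod ℳ)) :
    ∃ (F : P.Modules) (lam : ∀ (U : S.Opens) (hU : IsAffineOpen U),
      F ⟶ (Scheme.Modules.pushforward (RelProj.emb p chart U hU)).obj (GrMod.tilde (𝒮.deg U hU) (ℳ.deg U hU) n)),
      RelProj.IsRelTilde 𝒮 p chart ℳ n F lam :=
  ⟨_, _, (isSol_iff hP ℳ n hℳ).1 (tildeData hP ℳ n hℳ).isSol_glued⟩

variable {F : P.Modules}
  {lam : ∀ (U : S.Opens) (hU : IsAffineOpen U),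
      F ⟶ (Scheme.Modules.pushforward (RelProj.emb p chart U hU)).obj (GrMod.tilde (𝒮.deg U hU) (ℳ.deg U hU) n)}

/-- Over an affine open of the base, `(ℳ(n))~` is the module of the graded module. -/
noncomputable def restrictEmbIsoT (hF : RelProj.IsRelTilde 𝒮 p chart ℳ n F lam) (U : S.Opens) (hU : IsAffineOpen U) :
    F.restrict (RelProj.emb p chart U hU) ≅ GrMod.tilde (𝒮.deg U hU) (ℳ.deg U hU) n :=
  haveI : IsIso ((Scheme.Modules.restrictFunctor (RelProj.emb p chart U hU)).map (lam U hU)) :=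
    Scheme.Modules.Hom.isIso_iff_isIso_app.2 fun W =>
      (ConcreteCategory.isIso_iff_bijective _).2 (hF.bijective U hU _ (image_emb_le W))
  asIso ((Scheme.Modules.restrictFunctor (RelProj.emb p chart U hU)).map (lam U hU)) ≪≫
    asIso ((Scheme.Modules.restrictAdjunction (RelProj.emb p chart U hU)).counit.app _)

theorem isQCoh_relTilde (hF : RelProj.IsRelTilde 𝒮 p chart ℳ n F lam) : Coh.IsQCoh F := by
  refine M1.isQCoh_of_openImmersion_cover
    (fun U : S.affineOpens => RelProj.emb p chart U.1 U.2) (fun x => ?_)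
    fun U => M1.isQCoh_of_isIso (restrictEmbIsoT hF U.1 U.2).symm (GrMod11.isQCoh_tilde _ _ n)
  obtain ⟨U, hU, y, hy⟩ := exists_emb_eq (chart := chart) x
  exact ⟨⟨U, hU⟩, y, hy⟩

theorem relTilde_unique (hP : RelProj.IsRelProj 𝒮 p chart) (hℳ : Coh.IsQCoh (osMod ℳ))
    (hF : RelProj.IsRelTilde 𝒮 p chart ℳ n F lam) {F' : P.Modules}
    {lam' : ∀ (U : S.Opens) (hU : IsAffineOpen U),
      F' ⟶ (Scheme.Modules.pushforward (RelProj.emb p chart U hU)).obj (GrMod.tilde (𝒮.deg U hU) (ℳ.deg U hU) n)}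
    (hF' : RelProj.IsRelTilde 𝒮 p chart ℳ n F' lam') :
    (∃! φ : F ⟶ F', ∀ (U : S.Opens) (hU : IsAffineOpen U), φ ≫ lam' U hU = lam U hU) ∧
      ∀ φ : F ⟶ F', (∀ (U : S.Opens) (hU : IsAffineOpen U), φ ≫ lam' U hU = lam U hU) → IsIso φ :=
  have h := (isSol_iff hP ℳ n hℳ).2 hF
  have h' := (isSol_iff hP ℳ n hℳ).2 hF'
  ⟨h'.existsUnique_lift lam h.lam_r, fun φ hφ => GlueData.isIso_of_comm h h' φ hφ⟩

theorem existsUnique_relTilde_map (hP : RelProj.IsRelProj 𝒮 p chart) {𝒩 : RelProj.GrModule 𝒮}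
    (hℳ : Coh.IsQCoh (osMod ℳ)) (h𝒩 : Coh.IsQCoh (osMod 𝒩)) (u : ℳ.mod ⟶ 𝒩.mod) (hu : RelProj.IsGrModHom u)
    (hF : RelProj.IsRelTilde 𝒮 p chart ℳ n F lam) {G : P.Modules}
    {lam' : ∀ (U : S.Opens) (hU : IsAffineOpen U),
      G ⟶ (Scheme.Modules.pushforward (RelProj.emb p chart U hU)).obj (GrMod.tilde (𝒮.deg U hU) (𝒩.deg U hU) n)}
    (hG : RelProj.IsRelTilde 𝒮 p chart 𝒩 n G lam') :
    ∃! ut : F ⟶ G, ∀ (U : S.Opens) (hU : IsAffineOpen U),
      ut ≫ lam' U hU =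
        lam U hU ≫ (Scheme.Modules.pushforward (RelProj.emb p chart U hU)).map
          (GrMod.map (𝒮.deg U hU)
            (show ℳ.mod.val.obj (op U) →ₗ[𝒮.presheaf.obj (op U)] 𝒩.mod.val.obj (op U) from (u.val.app (op U)).hom)
            (hu U hU) n) := by
  refine ((isSol_iff hP 𝒩 n h𝒩).2 hG).existsUnique_lift _ fun U D hU hD h => ?_
  refine (Category.assoc _ _ _).trans (Eq.trans (congrArg (lam U hU ≫ ·) ?_)
    ((Category.assoc _ _ _).symm.trans (congrArg (· ≫ _) (((isSol_iff hP ℳ n hℳ).2 hF).lam_r U D hU hD h))))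
  ext W t
  refine sec_ext (n := n) (ℳ := 𝒩.deg D hD) (U := RelProj.emb p chart D hD ⁻¹ᵁ W) fun y hy => ?_
  show val (n := n) (ℳ := 𝒩.deg D hD) ((tresMap hP 𝒩 n hU hD h).app W _) y hy =
    GrMod.locMap (show ℳ.mod.val.obj (op D) →ₗ[𝒮.presheaf.obj (op D)] 𝒩.mod.val.obj (op D) from (u.val.app (op D)).hom) y
      (val (n := n) (ℳ := ℳ.deg D hD) ((tresMap hP ℳ n hU hD h).app W t) y hy)
  rw [tresMap_val, tresMap_val]
  show GrMod.locModMap (𝒮.res hU hD h.le) (h.irrelevant hU hD) (𝒩.res hU hD h.le) y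
      (GrMod.locMap (show ℳ.mod.val.obj (op U) →ₗ[𝒮.presheaf.obj (op U)] 𝒩.mod.val.obj (op U) from (u.val.app (op U)).hom) _
        (val (n := n) (ℳ := ℳ.deg U hU) (U := RelProj.emb p chart U hU ⁻¹ᵁ W) t _ _)) = _
  generalize val (n := n) (ℳ := ℳ.deg U hU) (U := RelProj.emb p chart U hU ⁻¹ᵁ W) t
    (ProjectiveSpectrum.comap (𝒮.res hU hD h.le) (h.irrelevant hU hD) y) _ = q
  induction q using LocalizedModule.induction_on with
  | h m s =>
    rw [GrMod.locMap_mk, GrMod.locModMap_mk, GrMod.locModMap_mk, GrMod.locMap_mk]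
    congr 1
    exact (PresheafOfModules.naturality_apply u.val (homOfLE h.le).op m).symm

end Groth.Agent.RelProj11
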