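import Groth.Agent.Lib.RelProj11.Basic

/-!
`Proj` of a graded ring generated in degree one by a finitely generated degree one part.
-/

universe u

open CategoryTheory CategoryTheory.Limits AlgebraicGeometry TopologicalSpace Opposite HomogeneousLocalization
open scoped HomogeneousIdeal

namespace Groth.Agent.RelProj11

variable {R A : Type u} [CommRing R] [CommRing A] {σ : Type u} [SetLike σ A] [AddSubgroupClass σ A]
  (𝒜 : ℕ → σ) [GradedRing 𝒜]

theorem adjoin_eq_top_of_degOne {ι : Type u} [Fintype ι] (ρ : R →+* 𝒜 0) (v : ι → A)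
    (hspan : ∀ x ∈ 𝒜 1, ∃ c : ι → R, x = ∑ i, (ρ (c i) : A) * v i)
    (hgen : Subring.closure ((𝒜 0 : Set A) ∪ (𝒜 1 : Set A)) = ⊤) :
    Algebra.adjoin (𝒜 0) (Set.range v) = ⊤ := by
  refine top_le_iff.1 fun x _ => ?_
  have hx : x ∈ Subring.closure ((𝒜 0 : Set A) ∪ (𝒜 1 : Set A)) := hgen ▸ Subring.mem_top x
  refine (Subring.closure_le (t := (Algebra.adjoin (𝒜 0) (Set.range v)).toSubring)).2 ?_ hx
  rintro y (hy | hy)
  · exact (Algebra.adjoin (𝒜 0) (Set.range v)).algebraMap_mem ⟨y, hy⟩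
  · obtain ⟨c, rfl⟩ := hspan y hy
    exact sum_mem fun i _ => mul_mem ((Algebra.adjoin (𝒜 0) (Set.range v)).algebraMap_mem (ρ (c i)))
      (Algebra.subset_adjoin ⟨i, rfl⟩)

theorem away_finiteType_degOne {ι : Type u} [Fintype ι] (ρ : R →+* 𝒜 0) (v : ι → A) (hv : ∀ i, v i ∈ 𝒜 1)
    (hspan : ∀ x ∈ 𝒜 1, ∃ c : ι → R, x = ∑ i, (ρ (c i) : A) * v i)
    (hgen : Subring.closure ((𝒜 0 : Set A) ∪ (𝒜 1 : Set A)) = ⊤) (j : ι) :
    ((fromZeroRingHom 𝒜 (Submonoid.powers (v j))).comp ρ).FiniteType := by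
  classical
  let f : R →+* Away 𝒜 (v j) := (fromZeroRingHom 𝒜 (Submonoid.powers (v j))).comp ρ
  letI := f.toAlgebra
  change Algebra.FiniteType R (Away 𝒜 (v j))
  let g : ι → Away 𝒜 (v j) := fun i => Away.mk 𝒜 (hv j) 1 (v i) (by simpa using hv i)
  let B := Algebra.adjoin R (Set.range g)
  refine ⟨⟨Finset.univ.image g, top_le_iff.1 ?_⟩⟩
  rw [Finset.coe_image, Finset.coe_univ, Set.image_univ]
  have hz : ∀ a : 𝒜 0, fromZeroRingHom 𝒜 (Submonoid.powers (v j)) a ∈ B := by
    intro a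
    obtain ⟨c, hc⟩ := hspan ((a : A) * v j) (by simpa using SetLike.mul_mem_graded a.2 (hv j))
    have e : fromZeroRingHom 𝒜 (Submonoid.powers (v j)) a = ∑ i, algebraMap R _ (c i) * g i := by
      apply val_injective
      let L := algebraMap A (Localization.Away (v j))
      have hu : IsUnit (L (v j)) :=
        IsLocalization.map_units (M := Submonoid.powers (v j)) _ ⟨v j, Submonoid.mem_powers _⟩
      refine hu.mul_right_cancel ?_
      have h0 : ∀ b : 𝒜 0, (fromZeroRingHom 𝒜 (Submonoid.powers (v j)) b).val = L (b : A) := fun b => by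
        show _ = algebraMap A (Localization.Away (v j)) _
        rw [← Localization.mk_one_eq_algebraMap]; rfl
      have h1 : ∀ i, (g i).val * L (v j) = L (v i) := fun i => by
        simp only [g, Away.val_mk, L, ← Localization.mk_one_eq_algebraMap, Localization.mk_mul]
        exact Localization.mk_eq_mk_iff.2 (Localization.r_iff_exists.2 ⟨1, by simp [mul_comm]⟩)
      have h2 : ∀ i, (algebraMap R (Away 𝒜 (v j)) (c i)).val = L (ρ (c i) : A) := fun i => h0 _
      rw [h0, ← map_mul, hc, ← HomogeneousLocalization.algebraMap_apply, map_sum, map_sum, Finset.sum_mul]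
      refine Finset.sum_congr rfl fun i _ => ?_
      rw [map_mul, map_mul, HomogeneousLocalization.algebraMap_apply, HomogeneousLocalization.algebraMap_apply, h2,
        mul_assoc, h1]
    rw [e]
    exact sum_mem fun i _ => mul_mem (B.algebraMap_mem _) (Algebra.subset_adjoin ⟨i, rfl⟩)
  intro x hxtop; clear hxtop
  have h := Away.adjoin_mk_prod_pow_eq_top (hv j) ι v (adjoin_eq_top_of_degOne 𝒜 ρ v hspan hgen) (fun _ => 1) hv
  have hx := h.ge (Algebra.mem_top (x := x))
  induction hx using Algebra.adjoin_induction with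
  | mem y hy =>
    obtain ⟨a, ai, hai, -, rfl⟩ := hy
    have e : Away.mk 𝒜 (hv j) a (∏ i, v i ^ ai i) (hai ▸ SetLike.prod_pow_mem_graded _ _ _ _ fun i _ ↦ hv i) =
        ∏ i, g i ^ ai i := by
      apply val_injective
      show _ = algebraMap (Away 𝒜 (v j)) (Localization.Away (v j)) _
      rw [map_prod, Away.val_mk]
      simp only [map_pow]
      show _ = ∏ i, (g i).val ^ ai i
      simp only [g, Away.val_mk, Localization.mk_pow, Localization.mk_prod]
      congr 1
      refine Subtype.ext ?_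
      simp only [SubmonoidClass.coe_finsetProd, SubmonoidClass.coe_pow, pow_one, Finset.prod_pow_eq_pow_sum]
      congr 1
      simpa using hai.symm
    rw [e]
    exact prod_mem fun i _ => pow_mem (Algebra.subset_adjoin (Set.mem_range_self i)) _
  | algebraMap a => exact hz a
  | add _ _ _ _ h1 h2 => exact add_mem h1 h2
  | mul _ _ _ _ h1 h2 => exact mul_mem h1 h2

theorem finiteType_toSpecZero_degOne {ι : Type u} [Fintype ι] (ρ : R →+* 𝒜 0) (v : ι → A) (hv : ∀ i, v i ∈ 𝒜 1)
    (hspan : ∀ x ∈ 𝒜 1, ∃ c : ι → R, x = ∑ i, (ρ (c i) : A) * v i)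
    (hgen : Subring.closure ((𝒜 0 : Set A) ∪ (𝒜 1 : Set A)) = ⊤) :
    LocallyOfFiniteType (Proj.toSpecZero 𝒜 ≫ Spec.map (CommRingCat.ofHom ρ)) ∧
      QuasiCompact (Proj.toSpecZero 𝒜 ≫ Spec.map (CommRingCat.ofHom ρ)) := by
  have htop := adjoin_eq_top_of_degOne 𝒜 ρ v hspan hgen
  haveI : Algebra.FiniteType (𝒜 0) A :=
    ⟨(Subalgebra.fg_def).2 ⟨Set.range v, Set.finite_range v, htop⟩⟩
  refine ⟨?_, inferInstance⟩
  rw [IsZariskiLocalAtSource.iff_of_iSup_eq_top (P := @LocallyOfFiniteType) _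
    (Proj.iSup_basicOpen_eq_top' 𝒜 v (fun i ↦ ⟨1, hv i⟩) htop)]
  intro i
  rw [← MorphismProperty.cancel_left_of_respectsIso (P := @LocallyOfFiniteType)
    (Proj.basicOpenIsoSpec 𝒜 (v i) (hv i) one_pos).inv, ← Category.assoc,
    ← Proj.awayι, Proj.awayι_toSpecZero_assoc, ← Spec.map_comp, ← CommRingCat.ofHom_comp,
    HasRingHomProperty.Spec_iff (P := @LocallyOfFiniteType)]
  exact away_finiteType_degOne 𝒜 ρ v hv hspan hgen i

end Groth.Agent.RelProj11
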