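import Groth.Agent.Lib.RelProj11.GradeSub
import Groth.Agent.Lib.RelProj11.Map
import Groth.Prelude.Def_RelProj2

/-!
Base change of the relative `Proj`.
-/

universe u

open CategoryTheory CategoryTheory.Limits AlgebraicGeometry TopologicalSpace Opposite
open scoped HomogeneousIdeal

namespace Groth.Agent.RelProj11

theorem isPullback_proj_of_isPushout {R R' A A' : CommRingCat.{u}} (f : R ⟶ R') (s : R ⟶ A) (s' : R' ⟶ A')
    (φ₀ : A ⟶ A') (hpo : IsPushout f s s' φ₀)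
    (𝒜 : ℕ → AddSubgroup A) [GradedRing 𝒜] (ℬ : ℕ → AddSubgroup A') [GradedRing ℬ]
    (hs : ∀ r, s.hom r ∈ 𝒜 0) (hs' : ∀ r, s'.hom r ∈ ℬ 0)
    (φ : 𝒜 →+*ᵍ ℬ) (hφ : ∀ a, φ a = φ₀.hom a) (hirr : ℬ₊ ≤ (𝒜₊).map φ)
    (z : R ⟶ CommRingCat.of (𝒜 0)) (hz : ∀ r, ((z.hom r : 𝒜 0) : A) = s.hom r)
    (z' : R' ⟶ CommRingCat.of (ℬ 0)) (hz' : ∀ r, ((z'.hom r : ℬ 0) : A') = s'.hom r) :
    IsPullback (Proj.map φ hirr) (Proj.toSpecZero ℬ ≫ Spec.map z') (Proj.toSpecZero 𝒜 ≫ Spec.map z) (Spec.map f) := by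
  letI : Algebra R R' := f.hom.toAlgebra
  letI : Algebra R A := s.hom.toAlgebra
  letI : Algebra R' A' := s'.hom.toAlgebra
  letI : Algebra R A' := (s'.hom.comp f.hom).toAlgebra
  letI : Algebra A A' := φ₀.hom.toAlgebra
  haveI : IsScalarTower R R' A' := IsScalarTower.of_algebraMap_eq fun _ => rfl
  haveI : IsScalarTower R A A' := IsScalarTower.of_algebraMap_eq fun r => by
    exact ConcreteCategory.congr_hom hpo.w r
  haveI : Algebra.IsPushout R R' A A' := CommRingCat.isPushout_iff_isPushout.1 hpo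
  let 𝒜s := gradeSub R 𝒜 hs
  let ℬs := gradeSub R' ℬ hs'
  let φs : 𝒜s →+*ᵍ ℬs := { (φ : A →+* A') with map_mem := fun hx => φ.map_mem hx }
  have hirr' : (ℬs)₊ ≤ (𝒜s₊).map φs := by
    rw [HomogeneousIdeal.irrelevant_le]
    intro i hi x hx
    have hle : ((𝒜₊).map φ).toIdeal ≤ ((𝒜s₊).map φs).toIdeal :=
      Ideal.map_le_iff_le_comap.2 ((HomogeneousIdeal.toIdeal_irrelevant_le _).2 fun j hj y hy =>
        Ideal.mem_map_of_mem φs (HomogeneousIdeal.mem_irrelevant_of_mem 𝒜s hj hy))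
    exact hle (hirr (HomogeneousIdeal.mem_irrelevant_of_mem ℬ hi hx))
  have H := EGA2.isPullback_proj 𝒜s ℬs φs (fun a => hφ a) hirr'
  have ez : z = CommRingCat.ofHom (zeroInc R 𝒜 hs) := CommRingCat.hom_ext (RingHom.ext fun r => Subtype.ext (hz r))
  have ez' : z' = CommRingCat.ofHom (zeroInc R' ℬ hs') :=
    CommRingCat.hom_ext (RingHom.ext fun r => Subtype.ext (hz' r))
  subst ez ez'
  refine H.of_iso (projSubIso R' ℬ hs') (projSubIso R 𝒜 hs) (Iso.refl _) (Iso.refl _) ?_ ?_ ?_ ?_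
  · show Proj.map φs hirr' ≫ Proj.map (toSub R 𝒜 hs) _ = Proj.map (toSub R' ℬ hs') _ ≫ Proj.map φ hirr
    rw [← Proj.map_comp, ← Proj.map_comp]
    exact map_congr _ (by ext x; rfl) _
  · rw [Iso.refl_hom, Category.comp_id, projSubIso_toSpec]
  · rw [Iso.refl_hom, Category.comp_id, projSubIso_toSpec]
  · simp
    rfl

variable {S S' P P' : Scheme.{u}} {ψ : S' ⟶ S} {𝒮 : RelProj.QCGrAlg S} {𝒮' : RelProj.QCGrAlg S'}
  {p : P ⟶ S} {chart : ∀ (U : S.Opens) (hU : IsAffineOpen U), ((p ⁻¹ᵁ U : P.Opens) : Scheme.{u}) ≅ Proj (𝒮.deg U hU)}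
  {p' : P' ⟶ S'}
  {chart' : ∀ (U : S'.Opens) (hU : IsAffineOpen U), ((p' ⁻¹ᵁ U : P'.Opens) : Scheme.{u}) ≅ Proj (𝒮'.deg U hU)}

theorem isPullback_baseChange (hP : RelProj.IsRelProj 𝒮 p chart) (hP' : RelProj.IsRelProj 𝒮' p' chart')
    (v : 𝒮.presheaf ⟶ ψ.base _* 𝒮'.presheaf)
    (φ : ∀ (U : S.Opens) (hU : IsAffineOpen U) (U' : S'.Opens) (hU' : IsAffineOpen U') (_ : U' ≤ ψ ⁻¹ᵁ U),
      𝒮.deg U hU →+*ᵍ 𝒮'.deg U' hU')
    (hφ : ∀ (U : S.Opens) (hU : IsAffineOpen U) (U' : S'.Opens) (hU' : IsAffineOpen U') (hle : U' ≤ ψ ⁻¹ᵁ U),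
      (φ U hU U' hU' hle).toRingHom =
        ((v.app (op U) : 𝒮.presheaf.obj (op U) ⟶ 𝒮'.presheaf.obj (op (ψ ⁻¹ᵁ U))) ≫
          𝒮'.presheaf.map (homOfLE hle).op).hom)
    (hpo : ∀ (U : S.Opens) (hU : IsAffineOpen U) (U' : S'.Opens) (hU' : IsAffineOpen U') (hle : U' ≤ ψ ⁻¹ᵁ U),
      IsPushout (ψ.appLE U U' hle) (𝒮.str.app (op U)) (𝒮'.str.app (op U'))
        ((v.app (op U) : 𝒮.presheaf.obj (op U) ⟶ 𝒮'.presheaf.obj (op (ψ ⁻¹ᵁ U))) ≫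
          𝒮'.presheaf.map (homOfLE hle).op))
    (hirr : ∀ (U : S.Opens) (hU : IsAffineOpen U) (U' : S'.Opens) (hU' : IsAffineOpen U') (hle : U' ≤ ψ ⁻¹ᵁ U),
      (𝒮'.deg U' hU')₊ ≤ ((𝒮.deg U hU)₊).map (φ U hU U' hU' hle))
    (g : P' ⟶ P)
    (hg : ∀ (U : S.Opens) (hU : IsAffineOpen U) (U' : S'.Opens) (hU' : IsAffineOpen U') (hle : U' ≤ ψ ⁻¹ᵁ U),
      (p' ⁻¹ᵁ U').ι ≫ g =
        (chart' U' hU').hom ≫ Proj.map (φ U hU U' hU' hle) (hirr U hU U' hU' hle) ≫ RelProj.emb p chart U hU) :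
    IsPullback g p' p ψ := by
  let I := {Q : S.Opens × S'.Opens // IsAffineOpen Q.1 ∧ IsAffineOpen Q.2 ∧ Q.2 ≤ ψ ⁻¹ᵁ Q.1}
  have hcov : ∀ y : S', ∃ a : I, y ∈ a.1.2.ι.opensRange := fun y => by
    obtain ⟨U, hU, hy, -⟩ := exists_isAffineOpen_mem_and_subset (U := (⊤ : S.Opens)) (x := ψ y) trivial
    obtain ⟨U', hU', hy', hle⟩ := exists_isAffineOpen_mem_and_subset (U := ψ ⁻¹ᵁ U) (x := y) hy
    exact ⟨⟨(U, U'), hU, hU', hle⟩, by rw [Scheme.Opens.opensRange_ι]; exact hy'⟩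
  have local' : ∀ a : I, IsPullback ((p' ⁻¹ᵁ a.1.2).ι ≫ g) (p' ∣_ a.1.2) p (a.1.2.ι ≫ ψ) := by
    rintro ⟨⟨U, U'⟩, hU, hU', hle⟩
    have H := isPullback_proj_of_isPushout _ _ _ _ (hpo U hU U' hU' hle) (𝒮.deg U hU) (𝒮'.deg U' hU')
      (𝒮.str_mem U hU) (𝒮'.str_mem U' hU') (φ U hU U' hU' hle) (fun x => RingHom.congr_fun (hφ U hU U' hU' hle) x)
      (hirr U hU U' hU' hle) (𝒮.strZero U hU) (fun _ => rfl) (𝒮'.strZero U' hU') (fun _ => rfl)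
    have H2 : IsPullback ((chart' U' hU').hom ≫ Proj.map (φ U hU U' hU' hle) (hirr U hU U' hU' hle) ≫ (chart U hU).inv)
        (p' ∣_ U') (p ∣_ U) (ψ.resLE U U' hle) := by
      refine H.of_iso (chart' U' hU').symm (chart U hU).symm hU'.isoSpec.symm hU.isoSpec.symm ?_ ?_ ?_ ?_
      · simp
      · rw [morphismRestrict_eq hP' U' hU']
        simp
      · rw [morphismRestrict_eq hP U hU]
        simp
      · rw [← cancel_mono U.ι]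
        simp only [Iso.symm_hom, Category.assoc, Scheme.Hom.resLE_comp_ι]
        rw [IsAffineOpen.isoSpec_inv_ι, reassoc_of% hU'.isoSpec_inv_ι]
        exact IsAffineOpen.SpecMap_appLE_fromSpec ψ hU hU' hle
    have H3 := H2.paste_horiz (isPullback_morphismRestrict p U).flip
    rw [Scheme.Hom.resLE_comp_ι] at H3
    rw [show (p' ⁻¹ᵁ U').ι ≫ g = ((chart' U' hU').hom ≫ Proj.map (φ U hU U' hU' hle) (hirr U hU U' hU' hle) ≫
      (chart U hU).inv) ≫ (p ⁻¹ᵁ U).ι by rw [hg U hU U' hU' hle, RelProj.emb]; simp only [Category.assoc]]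
    exact H3
  have w : g ≫ p = p' ≫ ψ := by
    have hO : (⨆ a : I, p' ⁻¹ᵁ a.1.2) = ⊤ := top_le_iff.1 fun x _ => by
      obtain ⟨a, ha⟩ := hcov (p' x)
      rw [Scheme.Opens.opensRange_ι] at ha
      exact Opens.mem_iSup.2 ⟨a, ha⟩
    refine Scheme.Cover.hom_ext (P'.openCoverOfIsOpenCover (fun a : I => p' ⁻¹ᵁ a.1.2) hO) _ _ fun a => ?_
    show (p' ⁻¹ᵁ a.1.2).ι ≫ _ = (p' ⁻¹ᵁ a.1.2).ι ≫ _
    rw [← Category.assoc, (local' a).w, ← Category.assoc, morphismRestrict_ι, Category.assoc]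
  exact (EGA2.isPullback_of_charts p' g ψ p w.symm (fun a : I => a.1.2.toScheme) (fun a => a.1.2.ι) hcov
    (fun a => (p' ⁻¹ᵁ a.1.2).toScheme) (fun a => p' ∣_ a.1.2) (fun a => (p' ⁻¹ᵁ a.1.2).ι)
    (fun a => isPullback_morphismRestrict p' a.1.2) (fun a => (local' a).flip)).flip

end Groth.Agent.RelProj11
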