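import Groth.Prelude.Def_RelProj
import Mathlib.AlgebraicGeometry.ProjectiveSpectrum.Proper

/-!
The relative homogeneous spectrum over an affine open of the base.
-/

universe u

open CategoryTheory CategoryTheory.Limits AlgebraicGeometry TopologicalSpace Opposite
open scoped HomogeneousIdeal

namespace Groth.Agent.RelProj11

section Graded

variable {A σ : Type u} [CommRing A] [SetLike σ A] [AddSubgroupClass σ A] (𝒜 : ℕ → σ) [GradedRing 𝒜]

theorem away_mk_eq_zero_iff {d : ℕ} {f : A} (hf : f ∈ 𝒜 d) {m : ℕ} {a : A} {ha : a ∈ 𝒜 (m • d)} :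
    HomogeneousLocalization.Away.mk 𝒜 hf m a ha = 0 ↔ ∃ k, f ^ k * a = 0 := by
  rw [HomogeneousLocalization.ext_iff_val, HomogeneousLocalization.Away.val_mk, HomogeneousLocalization.val_zero,
    ← Localization.mk_zero (1 : Submonoid.powers f), Localization.mk_eq_mk_iff,
    Localization.r_iff_exists]
  simp only [OneMemClass.coe_one, one_mul, mul_zero]
  exact ⟨fun ⟨⟨_, k, rfl⟩, h⟩ => ⟨k, h⟩, fun ⟨k, h⟩ => ⟨⟨_, k, rfl⟩, h⟩⟩

theorem away_isReduced (hred : ∀ f ∈ 𝒜₊, IsNilpotent f → f = 0) {d : ℕ} (hd : 0 < d) {f : A} (hf : f ∈ 𝒜 d) :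
    _root_.IsReduced (HomogeneousLocalization.Away 𝒜 f) := by
  refine ⟨fun x ⟨N, hN⟩ => ?_⟩
  obtain ⟨n, a, ha, rfl⟩ := HomogeneousLocalization.Away.mk_surjective 𝒜 hf x
  have hN' : HomogeneousLocalization.Away.mk 𝒜 hf (N * n) (a ^ N)
      (by have := SetLike.pow_mem_graded N ha; rwa [← mul_smul] at this) = 0 := by
    rw [← hN]
    apply HomogeneousLocalization.val_injective
    rw [HomogeneousLocalization.val_pow, HomogeneousLocalization.Away.val_mk,
      HomogeneousLocalization.Away.val_mk, Localization.mk_pow]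
    congr 1
    exact Subtype.ext (by simp [← pow_mul, mul_comm])
  obtain ⟨k, hk⟩ := (away_mk_eq_zero_iff 𝒜 hf).1 hN'
  refine (away_mk_eq_zero_iff 𝒜 hf).2 ⟨1, hred _ ?_ ⟨N + k, ?_⟩⟩
  · exact HomogeneousIdeal.mem_irrelevant_of_mem 𝒜 (Nat.add_pos_left (Nat.mul_pos Nat.one_pos hd) _)
      (SetLike.mul_mem_graded (SetLike.pow_mem_graded 1 hf) ha)
  · calc (f ^ 1 * a) ^ (N + k) = f ^ N * a ^ k * (f ^ k * a ^ N) := by ring
      _ = 0 := by rw [hk, mul_zero]

theorem isReduced_proj (hred : ∀ f ∈ 𝒜₊, IsNilpotent f → f = 0) : IsReduced (Proj 𝒜) := by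
  have : ∀ i, IsReduced ((Proj.affineOpenCover 𝒜).openCover.X i) := fun i => by
    have := away_isReduced 𝒜 hred i.1.2 i.2.2
    exact (affine_isReduced_iff _).2 this
  exact IsReduced.of_openCover _ (Proj.affineOpenCover 𝒜).openCover

/-- If every element of large degree lies in a prime, the prime contains the irrelevant ideal. -/
theorem irrelevant_le_of_forall_deg (P : HomogeneousIdeal 𝒜) [P.toIdeal.IsPrime] (n₀ : ℕ)
    (h : ∀ n, n₀ ≤ n → ∀ x ∈ 𝒜 n, x ∈ P.toIdeal) : 𝒜₊ ≤ P := by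
  rw [HomogeneousIdeal.irrelevant_le]
  intro i hi x hx
  refine Ideal.IsPrime.mem_of_pow_mem ‹_› (n₀ + 1) (h ((n₀ + 1) • i) ?_ _ (SetLike.pow_mem_graded (n₀ + 1) hx))
  rw [smul_eq_mul]; nlinarith

end Graded

variable {S P : Scheme.{u}} {𝒮 : RelProj.QCGrAlg S} {p : P ⟶ S}
  {chart : ∀ (U : S.Opens) (hU : IsAffineOpen U), ((p ⁻¹ᵁ U : P.Opens) : Scheme.{u}) ≅ Proj (𝒮.deg U hU)}

/-- The structure morphism over an affine open, read through the chart. -/
theorem morphismRestrict_eq (hP : RelProj.IsRelProj 𝒮 p chart) (U : S.Opens) (hU : IsAffineOpen U) :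
    p ∣_ U = (chart U hU).hom ≫ Proj.toSpecZero (𝒮.deg U hU) ≫ Spec.map (𝒮.strZero U hU) ≫ hU.isoSpec.inv := by
  rw [← cancel_mono U.ι, morphismRestrict_ι, ← hP.chart_over U hU]
  simp only [Category.assoc, IsAffineOpen.isoSpec_inv_ι]

/-- A property local on the target holds for `p` if it holds for all `Proj 𝒮(U) ⟶ Spec Γ(U)`. -/
theorem of_forall_affine (hP : RelProj.IsRelProj 𝒮 p chart) (Q : MorphismProperty Scheme.{u})
    [IsZariskiLocalAtTarget Q] [Q.RespectsIso]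
    (h : ∀ (U : S.Opens) (hU : IsAffineOpen U), Q (Proj.toSpecZero (𝒮.deg U hU) ≫ Spec.map (𝒮.strZero U hU))) :
    Q p := by
  refine (IsZariskiLocalAtTarget.iff_of_iSup_eq_top (P := Q) (fun U : S.affineOpens => U.1) (iSup_affineOpens_eq_top S)).2 ?_
  intro U
  rw [morphismRestrict_eq hP U.1 U.2, Q.cancel_left_of_respectsIso, ← Category.assoc, Q.cancel_right_of_respectsIso]
  exact h U.1 U.2

theorem isSeparated (hP : RelProj.IsRelProj 𝒮 p chart) : IsSeparated p :=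
  of_forall_affine hP @IsSeparated fun U hU => inferInstance

/-- Every point lies in a chart. -/
theorem exists_mem_preimage (x : P) : ∃ (U : S.Opens), IsAffineOpen U ∧ x ∈ p ⁻¹ᵁ U := by
  obtain ⟨U, hU, hx, -⟩ := exists_isAffineOpen_mem_and_subset (U := (⊤ : S.Opens)) (x := p x) trivial
  exact ⟨U, hU, hx⟩

theorem isReduced_of_forall (h : ∀ (U : S.Opens) (hU : IsAffineOpen U), IsReduced (Proj (𝒮.deg U hU)))
    (chart : ∀ (U : S.Opens) (hU : IsAffineOpen U), ((p ⁻¹ᵁ U : P.Opens) : Scheme.{u}) ≅ Proj (𝒮.deg U hU)) :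
    IsReduced P := by
  haveI : ∀ x : P, _root_.IsReduced (P.presheaf.stalk x) := by
    intro x
    obtain ⟨U, hU, hx⟩ := exists_mem_preimage (p := p) x
    haveI := h U hU
    haveI : IsReduced (p ⁻¹ᵁ U).toScheme := isReduced_of_isOpenImmersion (chart U hU).hom
    exact isReduced_of_injective _
      (ConcreteCategory.bijective_of_isIso ((p ⁻¹ᵁ U).ι.stalkMap ⟨x, hx⟩)).1
  exact isReduced_of_isReduced_stalk P

variable (𝒮) in
theorem finiteType_toSpecZero_comp (U : S.Opens) (hU : IsAffineOpen U)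
    (hft : (𝒮.str.app (op U)).hom.FiniteType) :
    LocallyOfFiniteType (Proj.toSpecZero (𝒮.deg U hU) ≫ Spec.map (𝒮.strZero U hU)) ∧
      QuasiCompact (Proj.toSpecZero (𝒮.deg U hU) ≫ Spec.map (𝒮.strZero U hU)) := by
  have h : (algebraMap (𝒮.deg U hU 0) (𝒮.presheaf.obj (op U))).comp (𝒮.strZero U hU).hom =
      (𝒮.str.app (op U)).hom := rfl
  have h1 : (algebraMap (𝒮.deg U hU 0) (𝒮.presheaf.obj (op U))).FiniteType :=
    RingHom.FiniteType.of_comp_finiteType (f := (𝒮.strZero U hU).hom) (h ▸ hft)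
  haveI : Algebra.FiniteType (𝒮.deg U hU 0) (𝒮.presheaf.obj (op U)) := RingHom.finiteType_algebraMap.1 h1
  have h2 : (𝒮.strZero U hU).hom.FiniteType := by
    have := RingHom.FiniteType.comp_surjective hft
      (g := GradedRing.projZeroRingHom' (𝒮.deg U hU)) (GradedRing.projZeroRingHom'_surjective _)
    rw [show (GradedRing.projZeroRingHom' (𝒮.deg U hU)).comp (𝒮.str.app (op U)).hom = (𝒮.strZero U hU).hom from
      RingHom.ext fun r => Subtype.ext (DirectSum.decompose_of_mem_same _ (𝒮.str_mem U hU r))] at this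
    exact this
  haveI : LocallyOfFiniteType (Spec.map (𝒮.strZero U hU)) := by
    rw [HasRingHomProperty.Spec_iff (P := @LocallyOfFiniteType)]; exact h2
  exact ⟨inferInstance, inferInstance⟩

theorem finiteType (hP : RelProj.IsRelProj 𝒮 p chart)
    (hft : ∀ (U : S.Opens) (_ : IsAffineOpen U), (𝒮.str.app (op U)).hom.FiniteType) :
    LocallyOfFiniteType p ∧ QuasiCompact p :=
  ⟨of_forall_affine hP @LocallyOfFiniteType fun U hU => (finiteType_toSpecZero_comp 𝒮 U hU (hft U hU)).1,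
    of_forall_affine hP @QuasiCompact fun U hU => (finiteType_toSpecZero_comp 𝒮 U hU (hft U hU)).2⟩

section Unique

variable {P' : Scheme.{u}} {p' : P' ⟶ S}
  (chart' : ∀ (U : S.Opens) (hU : IsAffineOpen U), ((p' ⁻¹ᵁ U : P'.Opens) : Scheme.{u}) ≅ Proj (𝒮.deg U hU))

variable (chart) in
/-- The comparison map over an affine open. -/
noncomputable def compMap (U : S.Opens) (hU : IsAffineOpen U) : (p ⁻¹ᵁ U).toScheme ⟶ P' :=
  (chart U hU).hom ≫ (chart' U hU).inv ≫ (p' ⁻¹ᵁ U).ι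

theorem homOfLE_compMap (hP : RelProj.IsRelProj 𝒮 p chart) (hP' : RelProj.IsRelProj 𝒮 p' chart')
    (U : S.Opens) (hU : IsAffineOpen U) (r : Γ(S, U)) :
    P.homOfLE (p.preimage_mono (S.basicOpen_le r)) ≫ compMap chart chart' U hU =
      compMap chart chart' (S.basicOpen r) (hU.basicOpen r) := by
  have h := hP'.chart_res U hU r
  have h' : Proj.map (𝒮.res hU (hU.basicOpen r) (S.basicOpen_le r)) (𝒮.irrelevant_le_map U hU r) ≫
      (chart' U hU).inv = (chart' (S.basicOpen r) (hU.basicOpen r)).inv ≫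
        P'.homOfLE (p'.preimage_mono (S.basicOpen_le r)) := by
    rw [Iso.comp_inv_eq, Category.assoc, h, Iso.inv_hom_id_assoc]
  rw [compMap, ← Category.assoc, hP.chart_res U hU r, Category.assoc, reassoc_of% h', Scheme.homOfLE_ι, compMap]

theorem existsUnique_compMap (hP : RelProj.IsRelProj 𝒮 p chart) (hP' : RelProj.IsRelProj 𝒮 p' chart') :
    ∃! e : P ⟶ P', ∀ (U : S.Opens) (hU : IsAffineOpen U), (p ⁻¹ᵁ U).ι ≫ e = compMap chart chart' U hU := by
  let O : S.affineOpens → P.Opens := fun U => p ⁻¹ᵁ U.1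
  have hO : iSup O = ⊤ := top_le_iff.1 fun x _ => by
    obtain ⟨U, hU, hx⟩ := exists_mem_preimage (p := p) x
    exact Opens.mem_iSup.2 ⟨⟨U, hU⟩, hx⟩
  let C := P.openCoverOfIsOpenCover O hO
  have key : ∀ a b : S.affineOpens, P.homOfLE (inf_le_left : O a ⊓ O b ≤ O a) ≫ compMap chart chart' a.1 a.2 =
      P.homOfLE (inf_le_right : O a ⊓ O b ≤ O b) ≫ compMap chart chart' b.1 b.2 := by
    intro a b
    let I := {W : (O a ⊓ O b).toScheme.Opens // ∃ (r : Γ(S, a.1)) (t : Γ(S, b.1)), S.basicOpen r = S.basicOpen t ∧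
      ∀ z ∈ W, p z.1 ∈ S.basicOpen r}
    have hcov : iSup (fun W : I => W.1) = ⊤ := top_le_iff.1 fun z _ => by
      obtain ⟨r, t, e, hz⟩ := exists_basicOpen_le_affine_inter a.2 b.2 (p z.1) ⟨z.2.1, z.2.2⟩
      exact Opens.mem_iSup.2 ⟨⟨(O a ⊓ O b).ι ⁻¹ᵁ (p ⁻¹ᵁ S.basicOpen r), r, t, e, fun w hw => hw⟩, hz⟩
    refine Scheme.Cover.hom_ext ((O a ⊓ O b).toScheme.openCoverOfIsOpenCover _ hcov) _ _ fun W => ?_
    obtain ⟨W, r, t, e, hW⟩ := W
    show W.ι ≫ _ = W.ι ≫ _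
    have hr : Set.range (W.ι ≫ (O a ⊓ O b).ι) ⊆ Set.range (p ⁻¹ᵁ S.basicOpen r).ι := by
      rw [Scheme.Opens.range_ι]
      rintro _ ⟨z, rfl⟩
      exact hW z.1 z.2
    let l := IsOpenImmersion.lift (p ⁻¹ᵁ S.basicOpen r).ι (W.ι ≫ (O a ⊓ O b).ι) hr
    have e1 : W.ι ≫ P.homOfLE (inf_le_left : O a ⊓ O b ≤ O a) =
        l ≫ P.homOfLE (p.preimage_mono (S.basicOpen_le r)) := by
      rw [← cancel_mono (O a).ι]
      simp only [Category.assoc, Scheme.homOfLE_ι, O, l, IsOpenImmersion.lift_fac]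
    have hle : p ⁻¹ᵁ S.basicOpen r ≤ p ⁻¹ᵁ b.1 := p.preimage_mono (e ▸ S.basicOpen_le t)
    have e2 : W.ι ≫ P.homOfLE (inf_le_right : O a ⊓ O b ≤ O b) = l ≫ P.homOfLE hle := by
      rw [← cancel_mono (O b).ι]
      simp only [Category.assoc, Scheme.homOfLE_ι, O, l, IsOpenImmersion.lift_fac]
    have gen : ∀ (D : S.Opens) (hD : IsAffineOpen D) (hle : p ⁻¹ᵁ D ≤ p ⁻¹ᵁ b.1), D = S.basicOpen t →
        P.homOfLE hle ≫ compMap chart chart' b.1 b.2 = compMap chart chart' D hD := by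
      rintro _ hD hle rfl
      exact homOfLE_compMap chart' hP hP' b.1 b.2 t
    rw [← Category.assoc, e1, ← Category.assoc, e2, Category.assoc, Category.assoc,
      homOfLE_compMap chart' hP hP' a.1 a.2 r, gen _ (a.2.basicOpen r) hle e]
  refine ⟨C.glueMorphisms (fun a => compMap chart chart' a.1 a.2) fun a b => ?_, fun U hU => ?_, fun e he => ?_⟩
  · refine (cancel_epi (isPullback_opens_inf (O a) (O b)).isoPullback.hom).mp ?_
    change _ ≫ pullback.fst (O a).ι (O b).ι ≫ _ = _ ≫ pullback.snd (O a).ι (O b).ι ≫ _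
    rw [IsPullback.isoPullback_hom_fst_assoc, IsPullback.isoPullback_hom_snd_assoc]
    exact key a b
  · exact Scheme.Cover.ι_glueMorphisms C _ _ ⟨U, hU⟩
  · refine Scheme.Cover.hom_ext C _ _ fun a => ?_
    exact (he a.1 a.2).trans (Scheme.Cover.ι_glueMorphisms C (fun a => compMap chart chart' a.1 a.2) _ a).symm

theorem unique_iso (hP : RelProj.IsRelProj 𝒮 p chart) (hP' : RelProj.IsRelProj 𝒮 p' chart') (e : P ⟶ P')
    (he : ∀ (U : S.Opens) (hU : IsAffineOpen U), (p ⁻¹ᵁ U).ι ≫ e = compMap chart chart' U hU) :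
    IsIso e ∧ e ≫ p' = p := by
  obtain ⟨d, hd, -⟩ := existsUnique_compMap (chart := chart') chart hP' hP
  obtain ⟨i, hi, hiu⟩ := existsUnique_compMap (chart := chart) chart hP hP
  obtain ⟨i', hi', hiu'⟩ := existsUnique_compMap (chart := chart') chart' hP' hP'
  have hid : ∀ (U : S.Opens) (hU : IsAffineOpen U), (p ⁻¹ᵁ U).ι ≫ 𝟙 P = compMap chart chart U hU := fun U hU => by
    simp [compMap]
  have hid' : ∀ (U : S.Opens) (hU : IsAffineOpen U), (p' ⁻¹ᵁ U).ι ≫ 𝟙 P' = compMap chart' chart' U hU := fun U hU => by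
    simp [compMap]
  have h1 : e ≫ d = 𝟙 P := (hiu _ fun U hU => by
    rw [← Category.assoc, he U hU, compMap, Category.assoc, Category.assoc, hd U hU, compMap, compMap,
      Iso.inv_hom_id_assoc]).trans (hiu _ hid).symm
  have h2 : d ≫ e = 𝟙 P' := (hiu' _ fun U hU => by
    rw [← Category.assoc, hd U hU, compMap, Category.assoc, Category.assoc, he U hU, compMap, compMap,
      Iso.inv_hom_id_assoc]).trans (hiu' _ hid').symm
  refine ⟨⟨d, h1, h2⟩, ?_⟩
  have hcov : (⨆ U : S.affineOpens, p ⁻¹ᵁ U.1) = ⊤ := top_le_iff.1 fun x _ => by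
    obtain ⟨U, hU, hx⟩ := exists_mem_preimage (p := p) x
    exact Opens.mem_iSup.2 ⟨⟨U, hU⟩, hx⟩
  refine Scheme.Cover.hom_ext (P.openCoverOfIsOpenCover (fun U : S.affineOpens => p ⁻¹ᵁ U.1) hcov) _ _ fun U => ?_
  show (p ⁻¹ᵁ U.1).ι ≫ e ≫ p' = (p ⁻¹ᵁ U.1).ι ≫ p
  rw [← Category.assoc, he U.1 U.2, compMap, Category.assoc, Category.assoc, ← hP'.chart_over U.1 U.2,
    Iso.inv_hom_id_assoc]
  exact hP.chart_over U.1 U.2

end Unique

end Groth.Agent.RelProj11
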