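import Groth.Agent.Lib.RelProj11.Map

/-!
Graded homomorphisms into a ring generated in degree one.
-/

universe u

open scoped HomogeneousIdeal

namespace Groth.Agent.RelProj11

variable {A B σ τ : Type u} [CommRing A] [SetLike σ A] [AddSubgroupClass σ A]
  [CommRing B] [SetLike τ B] [AddSubgroupClass τ B]
  {𝒜 : ℕ → σ} {ℬ : ℕ → τ} [GradedRing 𝒜] [GradedRing ℬ]

theorem surjOn_of_genDegOne (ψ : 𝒜 →+*ᵍ ℬ)
    (hgen : Subring.closure ((ℬ 0 : Set B) ∪ (ℬ 1 : Set B)) = ⊤)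
    (h1 : ∀ b ∈ ℬ 1, ∃ a, ψ a = b) (n : ℕ) (hn : 0 < n) : Set.SurjOn ψ (𝒜 n : Set A) (ℬ n) := by
  classical
  let N := NonUnitalSubring.closure (ℬ 1 : Set B)
  have hN : ∀ m ∈ N, ∃ a, ψ a = m := fun m hm => by
    induction hm using NonUnitalSubring.closure_induction with
    | mem x hx => exact h1 x hx
    | zero => exact ⟨0, map_zero ψ⟩
    | add x y _ _ hx hy => obtain ⟨a, rfl⟩ := hx; obtain ⟨b, rfl⟩ := hy; exact ⟨a + b, map_add ψ a b⟩
    | neg x _ hx => obtain ⟨a, rfl⟩ := hx; exact ⟨-a, map_neg ψ a⟩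
    | mul x y _ _ hx hy => obtain ⟨a, rfl⟩ := hx; obtain ⟨b, rfl⟩ := hy; exact ⟨a * b, map_mul ψ a b⟩
  have hc : ∀ c ∈ ℬ 0, ∀ m ∈ N, c * m ∈ N := fun c hc m hm => by
    induction hm using NonUnitalSubring.closure_induction with
    | mem x hx => exact NonUnitalSubring.subset_closure (by simpa using SetLike.mul_mem_graded hc hx)
    | zero => simp [N]
    | add x y _ _ hx hy => rw [mul_add]; exact add_mem hx hy
    | neg x _ hx => rw [mul_neg]; exact neg_mem hx
    | mul x y _ hy hx _ => rw [← mul_assoc]; exact mul_mem hx hy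
  have key : ∀ s : B, ∃ c ∈ ℬ 0, ∃ m ∈ N, s = c + m := fun s => by
    have hs : s ∈ Subring.closure ((ℬ 0 : Set B) ∪ (ℬ 1 : Set B)) := hgen ▸ Subring.mem_top s
    induction hs using Subring.closure_induction with
    | mem x hx =>
      rcases hx with hx | hx
      · exact ⟨x, hx, 0, zero_mem _, by simp⟩
      · exact ⟨0, zero_mem _, x, NonUnitalSubring.subset_closure hx, by simp⟩
    | zero => exact ⟨0, zero_mem _, 0, zero_mem _, by simp⟩
    | one => exact ⟨1, SetLike.GradedOne.one_mem, 0, zero_mem _, by simp⟩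
    | add x y _ _ hx hy =>
      obtain ⟨c, hc, m, hm, rfl⟩ := hx; obtain ⟨d, hd, k, hk, rfl⟩ := hy
      exact ⟨c + d, add_mem hc hd, m + k, add_mem hm hk, by ring⟩
    | neg x _ hx =>
      obtain ⟨c, hc, m, hm, rfl⟩ := hx
      exact ⟨-c, neg_mem hc, -m, neg_mem hm, by ring⟩
    | mul x y _ _ hx hy =>
      obtain ⟨c, hc', m, hm, rfl⟩ := hx; obtain ⟨d, hd, k, hk, rfl⟩ := hy
      exact ⟨c * d, by simpa using SetLike.mul_mem_graded hc' hd, c * k + d * m + m * k,
        add_mem (add_mem (hc c hc' k hk) (hc d hd m hm)) (mul_mem hm hk), by ring⟩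
  intro b hb
  obtain ⟨c, hc0, m, hm, rfl⟩ := key b
  obtain ⟨a, rfl⟩ := hN m hm
  refine ⟨DirectSum.decompose 𝒜 a n, SetLike.coe_mem _, ?_⟩
  rw [GradedRingHom.map_directSumDecompose]
  have h := DirectSum.decompose_of_mem_same ℬ hb
  rw [DirectSum.decompose_add, DirectSum.add_apply, AddMemClass.coe_add,
    DirectSum.decompose_of_mem_ne ℬ hc0 hn.ne, zero_add] at h
  exact h

end Groth.Agent.RelProj11
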