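import Groth.Agent.Lib.RelProj11.TwistTriv

/-!
The locus where the section `f` of `O(d)` generates is `X_f`.
-/

universe u

open CategoryTheory CategoryTheory.Limits AlgebraicGeometry TopologicalSpace Opposite
open scoped HomogeneousIdeal

namespace Groth.Agent.RelProj11

open Groth.Agent.M1

theorem structureHom_app {X : Scheme.{u}} {M : X.Modules} (s : Coh.structureModule X ⟶ M) (V : X.Opens)
    (r : Γ(X, V)) : s.app V r = r • mres M (le_top : V ≤ ⊤) (s.app ⊤ (one ⊤)) := by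
  have h : (r : Γ(Coh.structureModule X, V)) = r • one V := (mul_one r).symm
  conv_lhs => rw [h]
  rw [Scheme.Modules.Hom.app_smul, ← mres_one (le_top : V ≤ ⊤), app_mres]

variable {S P : Scheme.{u}} {𝒮 : RelProj.QCGrAlg S} {p : P ⟶ S}
  {chart : ∀ (U : S.Opens) (hU : IsAffineOpen U), ((p ⁻¹ᵁ U : P.Opens) : Scheme.{u}) ≅ Proj (𝒮.deg U hU)}

theorem genLocus_eq_Xf {d : ℕ} (hgen : 𝒮.IsGenDegOne) (f : 𝒮.presheaf.obj (op ⊤))
    (hf : ∀ (U : S.Opens) (hU : IsAffineOpen U), (𝒮.presheaf.map (homOfLE le_top).op).hom f ∈ 𝒮.deg U hU d)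
    (Xf : P.Opens) (hXf : ∀ (U : S.Opens) (hU : IsAffineOpen U), Xf ⊓ p ⁻¹ᵁ U = basicPart chart U hU f)
    (L : P.Modules)
    (lam : ∀ (U : S.Opens) (hU : IsAffineOpen U),
      L ⟶ (Scheme.Modules.pushforward (RelProj.emb p chart U hU)).obj (GrTwist.twist (𝒮.deg U hU) (d : ℤ)))
    (hL : RelProj.IsRelTwist 𝒮 p chart (d : ℤ) L lam) (s : Coh.structureModule P ⟶ L)
    (hs : ∀ (U : S.Opens) (hU : IsAffineOpen U) (y : Proj (𝒮.deg U hU)),
      GrTwist.val (V := RelProj.emb p chart U hU ⁻¹ᵁ ⊤)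
        ((lam U hU).app ⊤ (s.app ⊤ (show Γ(Coh.structureModule P, ⊤) from (1 : Γ(P, ⊤))))) ⟨y, Set.mem_univ _⟩ =
        Localization.mk ((𝒮.presheaf.map (homOfLE le_top).op).hom f) 1) :
    Xf = CohB1.genLocus L s := by
  classical
  let σ : Γ(L, ⊤) := s.app ⊤ (one ⊤)
  have hone : ∀ (U : S.Opens) (hU : IsAffineOpen U) (y : Proj (𝒮.deg U hU)), (1 : 𝒮.presheaf.obj (op U)) ∉ y.asHomogeneousIdeal :=
    fun U hU y h => y.isPrime.ne_top ((Ideal.eq_top_iff_one _).mpr h)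
  have hval : ∀ (U : S.Opens) (hU : IsAffineOpen U) (V : P.Opens) (y : Proj (𝒮.deg U hU))
      (hy : y ∈ RelProj.emb p chart U hU ⁻¹ᵁ V),
      GrTw11.val (n := (d : ℤ)) ((lam U hU).app V (mres L (le_top : V ≤ ⊤) σ)) y hy =
        Localization.mk ((𝒮.presheaf.map (homOfLE le_top).op).hom f) ⟨1, hone U hU y⟩ := by
    intro U hU V y hy
    rw [app_mres]
    exact hs U hU y
  have hpt : ∀ (U : S.Opens) (hU : IsAffineOpen U) (y : Proj (𝒮.deg U hU)),
      RelProj.emb p chart U hU y ∈ Xf ↔ y ∈ Proj.basicOpen (𝒮.deg U hU) ((𝒮.presheaf.map (homOfLE le_top).op).hom f) := by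
    intro U hU y
    have hm : RelProj.emb p chart U hU y ∈ p ⁻¹ᵁ U := ((chart U hU).inv y).2
    have e1 : RelProj.emb p chart U hU y ∈ Xf ↔ RelProj.emb p chart U hU y ∈ basicPart chart U hU f := by
      rw [← hXf U hU]; exact ⟨fun h => ⟨h, hm⟩, fun h => h.1⟩
    rw [e1, mem_basicPart_iff (RelProj.emb p chart U hU y) hm]
    have h2 : (⟨RelProj.emb p chart U hU y, hm⟩ : (p ⁻¹ᵁ U).toScheme) = (chart U hU).inv y :=
      Subtype.ext (Scheme.Hom.comp_apply _ _ _)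
    rw [h2, ← Scheme.Hom.comp_apply, Iso.inv_hom_id]
    rfl
  refine le_antisymm (le_sSup ?_) (sSup_le fun V hV x hx => ?_)
  · show IsIso ((Scheme.Modules.restrictFunctor Xf.ι).map s)
    refine Scheme.Modules.Hom.isIso_iff_isIso_app.2 fun W => (ConcreteCategory.isIso_iff_bijective _).2 ?_
    have hle : Xf.ι ''ᵁ W ≤ Xf := by
      rintro _ ⟨y, -, rfl⟩
      exact y.2
    show Function.Bijective fun r : Γ(P, Xf.ι ''ᵁ W) => s.app (Xf.ι ''ᵁ W) r
    rw [show (fun r : Γ(P, Xf.ι ''ᵁ W) => s.app (Xf.ι ''ᵁ W) r) = fun r => r • mres L (le_top : Xf.ι ''ᵁ W ≤ ⊤) σ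
      from funext (structureHom_app s (Xf.ι ''ᵁ W))]
    have key := bijective_smul_of_locally L Xf (mres L (le_top : Xf ≤ ⊤) σ)
      (fun U : S.affineOpens => p ⁻¹ᵁ U.1) (fun x _ => by
        obtain ⟨U, hU, hx⟩ := exists_mem_preimage (p := p) x
        exact Opens.mem_iSup.2 ⟨⟨U, hU⟩, hx⟩) (fun U V hV hVU => ?_) _ hle
    · simpa only [mres_mres] using key
    simp only [mres_mres]
    let e : GrTw11.Sec (𝒜 := 𝒮.deg U.1 U.2) (d : ℤ) (RelProj.emb p chart U.1 U.2 ⁻¹ᵁ V) :=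
      (lam U.1 U.2).app V (mres L (le_top : V ≤ ⊤) σ)
    have hD : RelProj.emb p chart U.1 U.2 ⁻¹ᵁ V ≤
        Proj.basicOpen (𝒮.deg U.1 U.2) ((𝒮.presheaf.map (homOfLE le_top).op).hom f) :=
      fun y hy => (hpt U.1 U.2 y).1 (hV hy)
    let e' : GrTw11.Sec (𝒜 := 𝒮.deg U.1 U.2) (-(d : ℤ)) (RelProj.emb p chart U.1 U.2 ⁻¹ᵁ V) :=
      GrTw11.frac (𝒮.deg U.1 U.2) _ (SetLike.GradedOne.one_mem) (hf U.1 U.2) (by simp) hD
    have hgen' := GrTw11.bijective_smul_of_inverse e e' (fun y hy => by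
      rw [hval U.1 U.2 V y hy]
      exact GrTw11.mk_mul_mk_eq_one _ (hD hy) (hone U.1 U.2 y)) _ le_rfl
    haveI := Scheme.Hom.isIso_app (RelProj.emb p chart U.1 U.2) V (le_opensRange_emb hVU)
    have hφ := ConcreteCategory.bijective_of_isIso ((RelProj.emb p chart U.1 U.2).app V)
    let T := GrTwist.twist (𝒮.deg U.1 U.2) (d : ℤ)
    let eV : Γ(T, RelProj.emb p chart U.1 U.2 ⁻¹ᵁ V) := e
    let G : Γ(Proj (𝒮.deg U.1 U.2), RelProj.emb p chart U.1 U.2 ⁻¹ᵁ V) → Γ(T, RelProj.emb p chart U.1 U.2 ⁻¹ᵁ V) :=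
      fun r' => r' • mres T le_rfl eV
    have hG : Function.Bijective G := hgen'
    have hk : ∀ r : Γ(P, V), ((lam U.1 U.2).app V (r • mres L (le_top : V ≤ ⊤) σ) :
        Γ(T, RelProj.emb p chart U.1 U.2 ⁻¹ᵁ V)) = G ((RelProj.emb p chart U.1 U.2).app V r) := fun r => by
      rw [Scheme.Modules.Hom.app_smul]
      show _ = ((RelProj.emb p chart U.1 U.2).app V r) • mres T le_rfl eV
      rw [mres_id]
      rfl
    have hF := hG.comp hφ
    have hb := hL.bijective U.1 U.2 V hVU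
    constructor
    · intro r r' hr
      exact hF.1 (((hk r).symm.trans (congrArg _ hr)).trans (hk r'))
    · intro t
      obtain ⟨r, hr⟩ := hF.2 ((lam U.1 U.2).app V t)
      exact ⟨r, hb.1 ((hk r).trans hr)⟩
  · have hV' : IsIso ((Scheme.Modules.restrictFunctor V.ι).map s) := hV
    obtain ⟨U, hU, y, rfl⟩ := exists_emb_eq (chart := chart) x
    rw [hpt U hU y]
    intro hfy
    obtain ⟨⟨t, ht⟩, hty⟩ := Opens.mem_iSup.1 ((iSup_basicOpen_degOne hgen U hU).ge (Set.mem_univ y))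
    let A : P.Opens := RelProj.emb p chart U hU ''ᵁ Proj.basicOpen (𝒮.deg U hU) t
    let W : V.toScheme.Opens := V.ι ⁻¹ᵁ A
    have hWimg : V.ι ''ᵁ W ≤ V ⊓ A := by
      rintro _ ⟨z, hz, rfl⟩
      exact ⟨z.2, hz⟩
    have hbij : Function.Bijective fun r : Γ(P, V.ι ''ᵁ W) => s.app (V.ι ''ᵁ W) r :=
      (ConcreteCategory.isIso_iff_bijective _).1 (Scheme.Modules.Hom.isIso_iff_isIso_app.1 hV' W)
    have hWt : RelProj.emb p chart U hU ⁻¹ᵁ (V.ι ''ᵁ W) ≤ Proj.basicOpen (𝒮.deg U hU) (t ^ d) := by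
      intro z hz hzt
      obtain ⟨z', hz', he⟩ := (hWimg hz).2
      obtain rfl := (RelProj.emb p chart U hU).isOpenEmbedding.injective he
      exact hz' (z'.isPrime.mem_of_pow_mem d hzt)
    let g : GrTw11.Sec (𝒜 := 𝒮.deg U hU) (d : ℤ) (RelProj.emb p chart U hU ⁻¹ᵁ (V.ι ''ᵁ W)) :=
      GrTw11.frac (𝒮.deg U hU) _ (SetLike.pow_mem_graded d ht) (SetLike.GradedOne.one_mem) (by simp)
        (fun z _ => hone U hU z)
    have hle : V.ι ''ᵁ W ≤ p ⁻¹ᵁ U := fun z hz => image_emb_le _ (hWimg hz).2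
    obtain ⟨τ, hτ⟩ := (hL.bijective U hU _ hle).2 g
    obtain ⟨r, hr⟩ := hbij.2 τ
    have hy : y ∈ RelProj.emb p chart U hU ⁻¹ᵁ (V.ι ''ᵁ W) := ⟨⟨_, hx⟩, ⟨y, hty, rfl⟩, rfl⟩
    let r' : Γ(Proj (𝒮.deg U hU), RelProj.emb p chart U hU ⁻¹ᵁ (V.ι ''ᵁ W)) :=
      (RelProj.emb p chart U hU).app (V.ι ''ᵁ W) r
    have h1 : GrTw11.valO r' y hy * Localization.mk ((𝒮.presheaf.map (homOfLE le_top).op).hom f) ⟨1, hone U hU y⟩ =
        Localization.mk (t ^ d) ⟨1, hone U hU y⟩ := by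
      rw [← hval U hU _ y hy]
      refine (GrTw11.val_smul r' _ y hy).symm.trans ?_
      rw [show Localization.mk (t ^ d) (⟨1, hone U hU y⟩ : y.asHomogeneousIdeal.toIdeal.primeCompl) =
        GrTw11.val g y hy from rfl, ← hτ, ← hr]
      have e : ((lam U hU).app (V.ι ''ᵁ W)) (s.app (V.ι ''ᵁ W) r) =
          r • ((lam U hU).app (V.ι ''ᵁ W) (mres L (le_top : V.ι ''ᵁ W ≤ ⊤) σ)) := by
        rw [structureHom_app, Scheme.Modules.Hom.app_smul]
      exact congrArg (fun z => GrTw11.val (n := (d : ℤ)) z y hy) e.symm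
    obtain ⟨c, hc⟩ := HomogeneousLocalization.mk_surjective (r'.1 ⟨y, hy⟩)
    have hc' : GrTw11.valO r' y hy = Localization.mk c.num.1 ⟨c.den.1, c.den_mem⟩ := by
      rw [GrTw11.valO, ← hc, HomogeneousLocalization.val_mk]
    rw [hc', Localization.mk_mul, Localization.mk_eq_mk_iff, Localization.r_iff_exists] at h1
    obtain ⟨⟨w, hw⟩, h1⟩ := h1
    have hmem : w * (c.den.1 * 1 * t ^ d) ∈ y.asHomogeneousIdeal.toIdeal := by
      replace h1 : w * (1 * (c.num.1 * (𝒮.presheaf.map (homOfLE le_top).op).hom f)) = w * (c.den.1 * 1 * t ^ d) := h1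
      rw [← h1]
      exact Ideal.mul_mem_left _ _ (Ideal.mul_mem_left _ _ (Ideal.mul_mem_left _ _ hfy))
    rw [mul_one] at hmem
    rcases y.isPrime.mem_or_mem hmem with h | h
    · exact hw h
    · rcases y.isPrime.mem_or_mem h with h' | h'
      · exact c.den_mem h'
      · exact hty (y.isPrime.mem_of_pow_mem d h')

end Groth.Agent.RelProj11
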