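import Groth.Agent.Lib.RelProj11.Map
import Groth.Agent.Lib.EGA2.ProjBaseChange

/-!
A grading by additive subgroups as a grading by submodules over a ring mapping to degree zero.
-/

universe u

open CategoryTheory CategoryTheory.Limits AlgebraicGeometry TopologicalSpace DirectSum
open scoped HomogeneousIdeal

namespace Groth.Agent.RelProj11

variable (R : Type u) {A : Type u} [CommRing R] [CommRing A] [Algebra R A]
  (𝒜 : ℕ → AddSubgroup A) [GradedRing 𝒜] (h : ∀ r : R, algebraMap R A r ∈ 𝒜 0)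

/-- The pieces as submodules. -/
def gradeSub (n : ℕ) : Submodule R A where
  carrier := 𝒜 n
  add_mem' := add_mem
  zero_mem' := zero_mem _
  smul_mem' r x hx := by
    show r • x ∈ 𝒜 n
    rw [Algebra.smul_def]
    simpa using SetLike.mul_mem_graded (h r) hx

theorem mem_gradeSub {n : ℕ} {x : A} : x ∈ gradeSub R 𝒜 h n ↔ x ∈ 𝒜 n := Iff.rfl

/-- The identity between the pieces. -/
def pieceHom (n : ℕ) : 𝒜 n →+ gradeSub R 𝒜 h n where
  toFun x := ⟨x.1, x.2⟩
  map_zero' := rfl
  map_add' _ _ := rfl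

noncomputable instance gradeSubRing : GradedAlgebra (gradeSub R 𝒜 h) where
  one_mem := SetLike.GradedOne.one_mem (A := 𝒜)
  mul_mem _ _ _ _ hx hy := SetLike.mul_mem_graded (A := 𝒜) hx hy
  decompose' a := DirectSum.map (pieceHom R 𝒜 h) (DirectSum.decompose 𝒜 a)
  left_inv a := by
    classical
    have e : (DirectSum.coeAddMonoidHom (gradeSub R 𝒜 h)).comp (DirectSum.map (pieceHom R 𝒜 h)) =
        DirectSum.coeAddMonoidHom 𝒜 := DirectSum.addHom_ext fun i x => by
      simp [DirectSum.map_of, pieceHom]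
    exact (DFunLike.congr_fun e _).trans ((DirectSum.decompose 𝒜).symm_apply_apply a)
  right_inv d := by
    classical
    induction d using DirectSum.induction_on with
    | zero => simp
    | of i x =>
      have : DirectSum.decompose 𝒜 (x : A) = DirectSum.of (fun n => 𝒜 n) i ⟨x.1, x.2⟩ :=
        DirectSum.decompose_coe 𝒜 (⟨x.1, x.2⟩ : 𝒜 i)
      simp only [DirectSum.coeAddMonoidHom_of, this, DirectSum.map_of]
      rfl
    | add a b ha hb => simp only [map_add, DirectSum.decompose_add] at *; rw [ha, hb]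

/-- The identity as a graded homomorphism to the submodule grading. -/
def toSub : 𝒜 →+*ᵍ gradeSub R 𝒜 h := { RingHom.id A with map_mem := fun hx => hx }

/-- The identity as a graded homomorphism from the submodule grading. -/
def ofSub : gradeSub R 𝒜 h →+*ᵍ 𝒜 := { RingHom.id A with map_mem := fun hx => hx }

theorem irrelevant_toSub : (gradeSub R 𝒜 h)₊ ≤ (𝒜₊).map (toSub R 𝒜 h) := by
  rw [HomogeneousIdeal.irrelevant_le]
  intro i hi x hx
  exact Ideal.mem_map_of_mem (toSub R 𝒜 h) (HomogeneousIdeal.mem_irrelevant_of_mem 𝒜 hi hx)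

theorem irrelevant_ofSub : 𝒜₊ ≤ ((gradeSub R 𝒜 h)₊).map (ofSub R 𝒜 h) := by
  rw [HomogeneousIdeal.irrelevant_le]
  intro i hi x hx
  exact Ideal.mem_map_of_mem (ofSub R 𝒜 h)
    (HomogeneousIdeal.mem_irrelevant_of_mem (gradeSub R 𝒜 h) hi hx)

/-- `Proj` does not depend on the presentation of the grading. -/
noncomputable def projSubIso : Proj (gradeSub R 𝒜 h) ≅ Proj 𝒜 :=
  haveI : IsIso (Proj.map (toSub R 𝒜 h) (irrelevant_toSub R 𝒜 h)) :=
    isIso_map _ _ fun _ _ => ⟨fun _ hx => hx, fun _ _ _ _ e => e, fun x hx => ⟨x, hx, rfl⟩⟩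
  asIso (Proj.map (toSub R 𝒜 h) (irrelevant_toSub R 𝒜 h))

/-- The map into degree zero. -/
def zeroInc : R →+* 𝒜 0 where
  toFun r := ⟨algebraMap R A r, h r⟩
  map_one' := Subtype.ext (map_one _)
  map_mul' a b := Subtype.ext (map_mul _ a b)
  map_zero' := Subtype.ext (map_zero _)
  map_add' a b := Subtype.ext (map_add _ a b)

variable {R}

/-- The structure map of `Proj` over the ring acting in degree zero. -/
theorem projSubIso_toSpec :
    (projSubIso R 𝒜 h).hom ≫ Proj.toSpecZero 𝒜 ≫
        Spec.map (CommRingCat.ofHom (zeroInc R 𝒜 h)) =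
      Proj.toSpecZero (gradeSub R 𝒜 h) ≫ Spec.map (CommRingCat.ofHom (algebraMap R (gradeSub R 𝒜 h 0))) := by
  rw [projSubIso, asIso_hom, reassoc_of% map_toSpecZero, ← Spec.map_comp]
  rfl

end Groth.Agent.RelProj11
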