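import Groth.Agent.Lib.RelProj11.Basic

/-!
Integrality of the relative `Proj`.
-/

universe u

open CategoryTheory CategoryTheory.Limits AlgebraicGeometry TopologicalSpace Opposite
open scoped HomogeneousIdeal

namespace Groth.Agent.RelProj11

variable {A σ : Type u} [CommRing A] [SetLike σ A] [AddSubgroupClass σ A] (𝒜 : ℕ → σ) [GradedRing 𝒜]

theorem irreducibleSpace_proj [IsDomain A] (h : (𝒜₊).toIdeal ≠ ⊥) : IrreducibleSpace (Proj 𝒜) := by
  let η : ProjectiveSpectrum 𝒜 := ⟨⊥, by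
      rw [HomogeneousIdeal.toIdeal_bot]; exact Ideal.isPrime_bot,
    fun hle => h (by
      refine le_bot_iff.1 fun x hx => ?_
      have h1 : x ∈ (⊥ : HomogeneousIdeal 𝒜).toIdeal := hle hx
      rwa [HomogeneousIdeal.toIdeal_bot] at h1)⟩
  have hd : closure ({η} : Set (ProjectiveSpectrum 𝒜)) = Set.univ := by
    obtain ⟨s, hs⟩ := (ProjectiveSpectrum.isClosed_iff_zeroLocus 𝒜 _).1 (isClosed_closure (s := ({η} : Set (ProjectiveSpectrum 𝒜))))
    rw [hs]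
    refine Set.eq_univ_of_forall fun x => ?_
    have hη : η ∈ ProjectiveSpectrum.zeroLocus 𝒜 s := hs ▸ subset_closure rfl
    exact fun a ha => by
      have h0 : a ∈ (⊥ : HomogeneousIdeal 𝒜).toIdeal := hη ha
      rw [HomogeneousIdeal.toIdeal_bot, Ideal.mem_bot] at h0
      rw [h0]; exact zero_mem _
  haveI : Nonempty (Proj 𝒜) := ⟨η⟩
  haveI : PreirreducibleSpace (Proj 𝒜) := ⟨by
    have := (isIrreducible_singleton (x := η)).closure
    rw [hd] at this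
    exact this.2⟩
  exact ⟨inferInstance⟩

variable {S P : Scheme.{u}} {𝒮 : RelProj.QCGrAlg S} {p : P ⟶ S}
  {chart : ∀ (U : S.Opens) (hU : IsAffineOpen U), ((p ⁻¹ᵁ U : P.Opens) : Scheme.{u}) ≅ Proj (𝒮.deg U hU)}

theorem isIntegral_and_dense [IsIntegral S]
    (chart : ∀ (U : S.Opens) (hU : IsAffineOpen U), ((p ⁻¹ᵁ U : P.Opens) : Scheme.{u}) ≅ Proj (𝒮.deg U hU))
    (hint : ∀ (U : S.Opens) (hU : IsAffineOpen U), (U : Set S).Nonempty →
      IsDomain (𝒮.presheaf.obj (op U)) ∧ ((𝒮.deg U hU)₊).toIdeal ≠ ⊥) :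
    IsIntegral P ∧ DenseRange p.base := by
  have hirr : ∀ (U : S.Opens) (hU : IsAffineOpen U), (U : Set S).Nonempty →
      IsIrreducible ((p ⁻¹ᵁ U : P.Opens) : Set P) := by
    intro U hU hne
    obtain ⟨hd, hb⟩ := hint U hU hne
    haveI := hd
    haveI := irreducibleSpace_proj (𝒮.deg U hU) hb
    have e : Set.range ((chart U hU).inv ≫ (p ⁻¹ᵁ U).ι) = ((p ⁻¹ᵁ U : P.Opens) : Set P) := by
      rw [← Scheme.Hom.coe_opensRange, Scheme.Hom.opensRange_comp_of_isIso, Scheme.Opens.opensRange_ι]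
    rw [← e, ← Set.image_univ]
    exact (IrreducibleSpace.isIrreducible_univ _).image _ ((chart U hU).inv ≫ (p ⁻¹ᵁ U).ι).continuous.continuousOn
  have hdense : DenseRange p.base := by
    refine dense_iff_inter_open.2 fun V hV ⟨y, hy⟩ => ?_
    obtain ⟨W, hW, hyW, hWV⟩ := exists_isAffineOpen_mem_and_subset (U := (⟨V, hV⟩ : S.Opens)) (x := y) hy
    obtain ⟨z, hz⟩ := (hirr W hW ⟨y, hyW⟩).1
    exact ⟨p z, hWV hz, z, rfl⟩
  haveI : Nonempty P := by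
    obtain ⟨y⟩ := (inferInstance : Nonempty S)
    obtain ⟨W, hW, hyW, -⟩ := exists_isAffineOpen_mem_and_subset (U := (⊤ : S.Opens)) (x := y) trivial
    obtain ⟨z, -⟩ := (hirr W hW ⟨y, hyW⟩).1
    exact ⟨z⟩
  haveI : PreirreducibleSpace P := ⟨by
    intro A B hA hB ⟨a, _, ha⟩ ⟨b, _, hb⟩
    obtain ⟨U, hU, haU⟩ := exists_mem_preimage (p := p) a
    obtain ⟨V, hV, hbV⟩ := exists_mem_preimage (p := p) b
    obtain ⟨y, hy⟩ := (nonempty_preirreducible_inter U.2 V.2 ⟨p a, haU⟩ ⟨p b, hbV⟩)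
    obtain ⟨W, hW, hyW, hWUV⟩ := exists_isAffineOpen_mem_and_subset (U := U ⊓ V) (x := y) hy
    have hirrW := hirr W hW ⟨y, hyW⟩
    obtain ⟨z, hz⟩ := hirrW.1
    obtain ⟨a', ha'U, ha'A, ha'W⟩ := (hirr U hU ⟨p a, haU⟩).2 A _ hA (p ⁻¹ᵁ W).2 ⟨a, haU, ha⟩ ⟨z, (hWUV hz).1, hz⟩
    obtain ⟨b', hb'V, hb'B, hb'W⟩ := (hirr V hV ⟨p b, hbV⟩).2 B _ hB (p ⁻¹ᵁ W).2 ⟨b, hbV, hb⟩ ⟨z, (hWUV hz).2, hz⟩
    obtain ⟨c, -, hc⟩ := hirrW.2 A B hA hB ⟨a', ha'W, ha'A⟩ ⟨b', hb'W, hb'B⟩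
    exact ⟨c, trivial, hc⟩⟩
  haveI : IrreducibleSpace P := ⟨inferInstance⟩
  haveI : IsReduced P := by
    refine isReduced_of_forall (p := p) (fun U hU => ?_) chart
    by_cases hne : (U : Set S).Nonempty
    · obtain ⟨hd, -⟩ := hint U hU hne
      exact isReduced_proj _ fun f _ hf => isNilpotent_iff_eq_zero.1 hf
    · haveI : IsEmpty (Proj (𝒮.deg U hU)) := ⟨fun x => hne ⟨p ((p ⁻¹ᵁ U).ι ((chart U hU).inv x)), ((chart U hU).inv x).2⟩⟩
      haveI : ∀ x : Proj (𝒮.deg U hU), _root_.IsReduced ((Proj (𝒮.deg U hU)).presheaf.stalk x) := fun x => isEmptyElim x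
      exact isReduced_of_isReduced_stalk _
  exact ⟨isIntegral_of_irreducibleSpace_of_isReduced P, hdense⟩

end Groth.Agent.RelProj11
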