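import Groth.Agent.Lib.RelProj11.Basic

/-!
An integral relative `Proj` comes from an integral algebra.
-/

universe u

open CategoryTheory CategoryTheory.Limits AlgebraicGeometry TopologicalSpace Opposite HomogeneousLocalization
open scoped HomogeneousIdeal

namespace Groth.Agent.RelProj11

variable {A σ : Type u} [CommRing A] [SetLike σ A] [AddSubgroupClass σ A] (𝒜 : ℕ → σ) [GradedRing 𝒜]

theorem isNilpotent_of_basicOpen_eq_bot {m : ℕ} (hm : 0 < m) {a : A} (ha : a ∈ 𝒜 m)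
    (h : Proj.basicOpen 𝒜 a = ⊥) : IsNilpotent a := by
  classical
  rw [nilpotent_iff_mem_prime]
  intro P hP
  let J := P.homogeneousCore 𝒜
  have hJ : J.toIdeal.IsPrime := hP.homogeneousCore
  refine Ideal.toIdeal_homogeneousCore_le 𝒜 P ?_
  by_contra haJ
  let x : Proj 𝒜 := ⟨J, hJ, fun hle => haJ (hle (HomogeneousIdeal.mem_irrelevant_of_mem _ hm ha))⟩
  have hx : x ∈ Proj.basicOpen 𝒜 a := haJ
  rw [h] at hx
  exact hx

theorem isDomain_of_proj [Nontrivial A] [IrreducibleSpace (Proj 𝒜)]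
    (hred : ∀ f ∈ (𝒜₊).toIdeal, IsNilpotent f → f = 0)
    (h00 : ∀ a b : A, a ∈ 𝒜 0 → b ∈ 𝒜 0 → a * b = 0 → a = 0 ∨ b = 0)
    (h0 : ∀ (c : 𝒜 0), (c : A) ≠ 0 → ∃ x : Proj 𝒜, Proj.toSpecZero 𝒜 x ∈ PrimeSpectrum.basicOpen c) :
    IsDomain A := by
  classical
  have hpos : ∀ {m : ℕ}, 0 < m → ∀ a ∈ 𝒜 m, a ≠ 0 → (Proj.basicOpen 𝒜 a : Set (Proj 𝒜)).Nonempty := by
    intro m hm a ha hne
    by_contra hempty
    exact hne (hred a (HomogeneousIdeal.mem_irrelevant_of_mem _ hm ha)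
      (isNilpotent_of_basicOpen_eq_bot 𝒜 hm ha
        (Opens.ext (Set.not_nonempty_iff_eq_empty.1 hempty))))
  have hzero : ∀ {n : ℕ}, 0 < n → ∀ a ∈ 𝒜 0, ∀ b ∈ 𝒜 n, a * b = 0 → a = 0 ∨ b = 0 := by
    intro n hn a ha b hb hab
    by_contra hcon
    push Not at hcon
    obtain ⟨x, hx⟩ := h0 ⟨a, ha⟩ hcon.1
    obtain ⟨y, -, hyb, hya⟩ := (IrreducibleSpace.isIrreducible_univ (Proj 𝒜)).2 _ _ (Proj.basicOpen 𝒜 b).2
      ((PrimeSpectrum.basicOpen (⟨a, ha⟩ : 𝒜 0)).2.preimage (Proj.toSpecZero 𝒜).continuous)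
      (by obtain ⟨z, hz⟩ := hpos hn b hb hcon.2; exact ⟨z, trivial, hz⟩) ⟨x, trivial, hx⟩
    have hy : y ∈ (Proj.awayι 𝒜 b hb hn).opensRange := by rw [Proj.opensRange_awayι]; exact hyb
    obtain ⟨w, rfl⟩ := hy
    have h2 : Proj.toSpecZero 𝒜 (Proj.awayι 𝒜 b hb hn w) ∈ PrimeSpectrum.basicOpen (⟨a, ha⟩ : 𝒜 0) := hya
    rw [← Scheme.Hom.comp_apply, Proj.awayι_toSpecZero] at h2
    refine h2 ?_
    show fromZeroRingHom 𝒜 (Submonoid.powers b) ⟨a, ha⟩ ∈ w.asIdeal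
    have e : fromZeroRingHom 𝒜 (Submonoid.powers b) ⟨a, ha⟩ = 0 := by
      apply val_injective
      rw [val_zero, ← Localization.mk_zero (1 : Submonoid.powers b)]
      show Localization.mk a 1 = _
      rw [Localization.mk_eq_mk_iff, Localization.r_iff_exists]
      exact ⟨⟨b, Submonoid.mem_powers b⟩, by simp [mul_comm b a, hab]⟩
    rw [e]
    exact zero_mem _
  haveI hprime : (⊥ : Ideal A).IsPrime := by
    refine ((Ideal.IsHomogeneous.bot 𝒜).isPrime_iff).2 ⟨bot_ne_top, ?_⟩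
    rintro x y ⟨m, hm⟩ ⟨n, hn⟩ hxy
    rw [Ideal.mem_bot] at hxy ⊢
    rw [Ideal.mem_bot]
    rcases Nat.eq_zero_or_pos m with rfl | hm0
    · rcases Nat.eq_zero_or_pos n with rfl | hn0
      · exact h00 x y hm hn hxy
      · exact hzero hn0 x hm y hn hxy
    · rcases Nat.eq_zero_or_pos n with rfl | hn0
      · exact (hzero hm0 y hn x hm (by rw [mul_comm]; exact hxy)).symm
      · by_contra hcon
        push Not at hcon
        obtain ⟨z, -, hzx, hzy⟩ := (IrreducibleSpace.isIrreducible_univ (Proj 𝒜)).2 _ _ (Proj.basicOpen 𝒜 x).2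
          (Proj.basicOpen 𝒜 y).2 (by obtain ⟨z, hz⟩ := hpos hm0 x hm hcon.1; exact ⟨z, trivial, hz⟩)
          (by obtain ⟨z, hz⟩ := hpos hn0 y hn hcon.2; exact ⟨z, trivial, hz⟩)
        have hz : z ∈ Proj.basicOpen 𝒜 (x * y) := by rw [Proj.basicOpen_mul]; exact ⟨hzx, hzy⟩
        rw [hxy, Proj.basicOpen_zero] at hz
        exact hz
  exact IsDomain.of_bot_isPrime A

variable {S P : Scheme.{u}} {𝒮 : RelProj.QCGrAlg S} {p : P ⟶ S}
  {chart : ∀ (U : S.Opens) (hU : IsAffineOpen U), ((p ⁻¹ᵁ U : P.Opens) : Scheme.{u}) ≅ Proj (𝒮.deg U hU)}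

theorem integral_algebra [IsIntegral S] [IsIntegral P] (hP : RelProj.IsRelProj 𝒮 p chart)
    (hbij : ∀ (U : S.Opens) (hU : IsAffineOpen U), Function.Bijective (𝒮.strZero U hU).hom)
    (hred : ∀ (U : S.Opens) (hU : IsAffineOpen U) (x : 𝒮.presheaf.obj (op U)),
      x ∈ (𝒮.deg U hU)₊ → IsNilpotent x → x = 0)
    (hdom : DenseRange p.base) {U : S.Opens} (hU : IsAffineOpen U) (hne : (U : Set S).Nonempty) :
    IsDomain (𝒮.presheaf.obj (op U)) ∧ ((𝒮.deg U hU)₊).toIdeal ≠ ⊥ := by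
  haveI : Nonempty (p ⁻¹ᵁ U : P.Opens) := by
    obtain ⟨_, hy, x, rfl⟩ := hdom.inter_open_nonempty _ U.2 hne
    exact ⟨⟨x, hy⟩⟩
  haveI : Nonempty (p ⁻¹ᵁ U).toScheme := ‹_›
  haveI : IsIntegral (p ⁻¹ᵁ U).toScheme := isIntegral_of_isOpenImmersion (p ⁻¹ᵁ U).ι
  haveI : Nonempty (Proj (𝒮.deg U hU)) := ⟨(chart U hU).hom (Classical.arbitrary _)⟩
  haveI : IrreducibleSpace (Proj (𝒮.deg U hU)) := by
    haveI : IsIntegral (Proj (𝒮.deg U hU)) := isIntegral_of_isOpenImmersion (chart U hU).inv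
    infer_instance
  haveI : Nonempty (U : Scheme.{u}) := ⟨⟨_, hne.some_mem⟩⟩
  haveI : IsDomain Γ(S, U) := inferInstance
  have hne0 : ∀ (c : 𝒮.deg U hU 0), (c : 𝒮.presheaf.obj (op U)) ≠ 0 →
      ∃ x : Proj (𝒮.deg U hU), Proj.toSpecZero (𝒮.deg U hU) x ∈ PrimeSpectrum.basicOpen c := by
    intro c hc
    obtain ⟨r, rfl⟩ := (hbij U hU).2 c
    have hr : r ≠ 0 := by rintro rfl; exact hc (by simp)
    have hD : ((S.basicOpen r : S.Opens) : Set S).Nonempty := by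
      by_contra h
      exact hr ((basicOpen_eq_bot_iff r).1 (Opens.ext (Set.not_nonempty_iff_eq_empty.1 h)))
    obtain ⟨_, hy, w, rfl⟩ := hdom.inter_open_nonempty _ (S.basicOpen r).2 hD
    have hwU : w ∈ p ⁻¹ᵁ U := S.basicOpen_le r hy
    refine ⟨(chart U hU).hom ⟨w, hwU⟩, ?_⟩
    have h1 := congr($(hP.chart_over U hU) (⟨w, hwU⟩ : (p ⁻¹ᵁ U).toScheme))
    simp only [Scheme.Hom.comp_apply] at h1
    have h2 : hU.fromSpec (Spec.map (𝒮.strZero U hU) (Proj.toSpecZero (𝒮.deg U hU) ((chart U hU).hom ⟨w, hwU⟩))) ∈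
        S.basicOpen r := by rw [h1]; exact hy
    rw [← Scheme.Hom.mem_preimage, hU.fromSpec_preimage_basicOpen] at h2
    exact h2
  haveI : Nontrivial (𝒮.presheaf.obj (op U)) := by
    refine (subsingleton_or_nontrivial _).resolve_left fun hs => ?_
    obtain ⟨x⟩ := (inferInstance : Nonempty (Proj (𝒮.deg U hU)))
    exact x.not_irrelevant_le fun a _ => (Subsingleton.elim a 0).symm ▸ zero_mem x.asHomogeneousIdeal.toIdeal
  refine ⟨isDomain_of_proj (𝒮.deg U hU) (fun f hf hn => hred U hU f hf hn) (fun a b ha hb hab => ?_) hne0, fun hbot => ?_⟩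
  · obtain ⟨r, hr⟩ := (hbij U hU).2 ⟨a, ha⟩
    obtain ⟨s, hs⟩ := (hbij U hU).2 ⟨b, hb⟩
    have h : (𝒮.strZero U hU).hom (r * s) = 0 := by rw [map_mul, hr, hs]; exact Subtype.ext hab
    rcases mul_eq_zero.1 ((hbij U hU).1 (h.trans (map_zero _).symm)) with h' | h'
    · left; rw [h', map_zero] at hr; exact (congrArg Subtype.val hr).symm
    · right; rw [h', map_zero] at hs; exact (congrArg Subtype.val hs).symm
  · obtain ⟨x⟩ := (inferInstance : Nonempty (Proj (𝒮.deg U hU)))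
    refine x.not_irrelevant_le fun a ha => ?_
    have : a ∈ ((𝒮.deg U hU)₊).toIdeal := ha
    rw [hbot, Ideal.mem_bot] at this
    rw [this]; exact zero_mem x.asHomogeneousIdeal.toIdeal

end Groth.Agent.RelProj11
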