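import Groth.Agent.Lib.RelProj11.QMapComp

/-!
Standard charts along a filtered colimit of graded algebras.
-/

universe u

open CategoryTheory CategoryTheory.Limits AlgebraicGeometry TopologicalSpace Opposite HomogeneousLocalization
open scoped HomogeneousIdeal

namespace Groth.Agent.RelProj11

variable {S S' P' : Scheme.{u}} {g : S' ⟶ S} {𝒮 : RelProj.QCGrAlg S} {𝒮' : RelProj.QCGrAlg S'}
  {Λ : Type u} [Preorder Λ] {𝒮i : Λ → RelProj.QCGrAlg S} (φ : ∀ i, (𝒮i i).toQCAlg ⟶ 𝒮.toQCAlg)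
  (hφ : ∀ i, RelProj.IsGradedHom (φ i))
  (hsurj : ∀ (U : S.Opens), IsAffineOpen U → ∀ x : 𝒮.presheaf.obj (op U),
      ∃ (i : Λ) (y : (𝒮i i).presheaf.obj (op U)), ((φ i).hom.app (op U)).hom y = x)

include hφ hsurj in
/-- Homogeneous sections come from homogeneous sections. -/
theorem exists_homogeneous_preimage {U : S.Opens} (hU : IsAffineOpen U) {d : ℕ}
    {f : 𝒮.presheaf.obj (op U)} (hf : f ∈ 𝒮.deg U hU d) :
    ∃ i, ∃ y ∈ (𝒮i i).deg U hU d, ((φ i).hom.app (op U)).hom y = f := by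
  classical
  obtain ⟨i, y, hy⟩ := hsurj U hU f
  refine ⟨i, DirectSum.decompose ((𝒮i i).deg U hU) y d, SetLike.coe_mem _, ?_⟩
  refine (GradedRingHom.map_directSumDecompose (f := RelProj.gradedHomAt (φ i) (hφ i) U hU)).trans ?_
  rw [show RelProj.gradedHomAt (φ i) (hφ i) U hU y = f from hy, DirectSum.decompose_of_mem_same _ hf]

variable (t : ∀ i j, i ≤ j → ((𝒮i i).toQCAlg ⟶ (𝒮i j).toQCAlg))
  (ht : ∀ i j (h : i ≤ j), RelProj.IsGradedHom (t i j h)) (hφt : ∀ i j (h : i ≤ j), t i j h ≫ φ j = φ i)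
  {u : RelProj.QGrHom g 𝒮 𝒮'} (ui : ∀ i, RelProj.QGrHom g (𝒮i i) 𝒮')
  (hui : ∀ i (U : S.Opens), (ui i).app U = (φ i).hom.app (op U) ≫ u.app U)

include hφt hui in
theorem ui_eq_comp {i j : Λ} (h : i ≤ j) (U : S.Opens) :
    (ui i).app U = (t i j h).hom.app (op U) ≫ (ui j).app U := by
  rw [hui i U, hui j U, ← hφt i j h, RelSpec.QCAlg.comp_hom, NatTrans.comp_app, Category.assoc]

variable {p' : P' ⟶ S'}
  {chart' : ∀ (U' : S'.Opens) (hU' : IsAffineOpen U'), (((p' ⁻¹ᵁ U' : P'.Opens) : Scheme.{u}) ≅ Proj (𝒮'.deg U' hU'))}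

include hφ hsurj hui in
theorem exists_mem_domQ {z : P'} (hz : z ∈ RelProj.domQ u p' chart') :
    ∃ i, z ∈ RelProj.domQ (ui i) p' chart' := by
  obtain ⟨k, hk⟩ := exists_mem_range_qC hz
  obtain ⟨U, hU, U', hU', hle, d, hd, f, hf⟩ := k
  obtain ⟨i, y, hy, rfl⟩ := exists_homogeneous_preimage φ hφ hsurj hU hf
  let ki : QIdx (g := g) (𝒮 := 𝒮i i) := ⟨U, hU, U', hU', hle, d, hd, y, hy⟩
  have e : z ∈ Set.range (qC (ui i) p' chart' ki) := by
    rw [← qC_push (φ i) (hφ i) (hui i) ki]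
    exact hk
  refine ⟨i, ?_⟩
  have := range_qC_subset ki e
  rwa [Scheme.Opens.range_ι] at this

include ht hφt hui in
theorem domQ_mono {i j : Λ} (h : i ≤ j) : RelProj.domQ (ui i) p' chart' ≤ RelProj.domQ (ui j) p' chart' :=
  domQ_comp_le (t i j h) (ht i j h) (ui_eq_comp φ t hφt ui hui h)

include hφ hsurj ht hφt hui in
theorem exists_domQ_eq_top [IsDirected Λ (· ≤ ·)] [Nonempty Λ] [CompactSpace P']
    (htop : RelProj.domQ u p' chart' = ⊤) : ∃ i, RelProj.domQ (ui i) p' chart' = ⊤ := by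
  classical
  obtain ⟨s, hs⟩ := isCompact_univ.elim_finite_subcover
    (fun i : Λ => ((RelProj.domQ (ui i) p' chart' : P'.Opens) : Set P'))
    (fun i => (RelProj.domQ (ui i) p' chart').isOpen) fun z _ =>
      Set.mem_iUnion.2 (exists_mem_domQ φ hφ hsurj ui hui (htop.ge (Set.mem_univ z)))
  obtain ⟨j, hj⟩ := Finset.exists_le s
  refine ⟨j, top_le_iff.1 fun z _ => ?_⟩
  obtain ⟨i, hi, hz⟩ := Set.mem_iUnion₂.1 (hs (Set.mem_univ z))
  exact domQ_mono φ t ht hφt ui hui (hj i hi) hz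

end Groth.Agent.RelProj11
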