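import Groth.Agent.Lib.RelProj11.QMapColim
import Groth.Agent.Lib.SymAlg11.LineImm

/-!
An immersion into the homogeneous spectrum of a colimit is an immersion at a finite stage.
-/

universe u

open CategoryTheory CategoryTheory.Limits AlgebraicGeometry TopologicalSpace Opposite HomogeneousLocalization
open scoped HomogeneousIdeal

set_option backward.isDefEq.respectTransparency false

namespace Groth.Agent.RelProj11

/-- Cancelling a monomorphism under a cartesian square. -/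
theorem isPullback_of_comp_mono {A B C D E : Scheme.{u}} {b : A ⟶ B} {a : A ⟶ C} {m : B ⟶ D} {l : C ⟶ D}
    (ι : D ⟶ E) [Mono ι] (H : IsPullback b a (m ≫ ι) (l ≫ ι)) : IsPullback b a m l := by
  have w : b ≫ m = a ≫ l := by
    rw [← cancel_mono ι, Category.assoc, Category.assoc]
    exact H.w
  refine IsPullback.of_isLimit' ⟨w⟩ (PullbackCone.IsLimit.mk _
    (fun s => H.lift s.fst s.snd (by rw [← Category.assoc, s.condition, Category.assoc]))
    (fun s => H.lift_fst _ _ _) (fun s => H.lift_snd _ _ _) fun s n h₁ h₂ => ?_)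
  exact H.hom_ext (h₁.trans (H.lift_fst _ _ _).symm) (h₂.trans (H.lift_snd _ _ _).symm)

/-- A subring of a finite type algebra containing the scalars and the generators is everything. -/
theorem eq_top_of_finiteType {R T : Type u} [CommRing R] [CommRing T] (g : R →+* T) (hg : g.FiniteType) :
    ∃ G : Finset T, ∀ K : Subring T, (∀ r, g r ∈ K) → (↑G : Set T) ⊆ K → K = ⊤ := by
  letI := g.toAlgebra
  haveI : Algebra.FiniteType R T := hg
  obtain ⟨G, hG⟩ := (inferInstance : Algebra.FiniteType R T).out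
  refine ⟨G, fun K h₁ h₂ => top_le_iff.1 fun x hxtop => ?_⟩
  clear hxtop
  have hx : x ∈ Algebra.adjoin R (↑G : Set T) := hG ▸ trivial
  induction hx using Algebra.adjoin_induction with
  | mem y hy => exact h₂ hy
  | algebraMap r => exact h₁ r
  | add y z _ _ hy hz => exact K.add_mem hy hz
  | mul y z _ _ hy hz => exact K.mul_mem hy hz

variable {S P P' : Scheme.{u}} {𝒮 : RelProj.QCGrAlg S} {S' : Scheme.{u}} {g : S' ⟶ S}
  {𝒮' : RelProj.QCGrAlg S'}
  {Λ : Type u} [Preorder Λ] [IsDirected Λ (· ≤ ·)] [Nonempty Λ] {𝒮i : Λ → RelProj.QCGrAlg S}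
  (φ : ∀ i, (𝒮i i).toQCAlg ⟶ 𝒮.toQCAlg) (hφ : ∀ i, RelProj.IsGradedHom (φ i))
  (t : ∀ i j, i ≤ j → ((𝒮i i).toQCAlg ⟶ (𝒮i j).toQCAlg))
  (ht : ∀ i j (h : i ≤ j), RelProj.IsGradedHom (t i j h)) (hφt : ∀ i j (h : i ≤ j), t i j h ≫ φ j = φ i)
  (hsurj : ∀ (U : S.Opens), IsAffineOpen U → ∀ x : 𝒮.presheaf.obj (op U),
      ∃ (i : Λ) (y : (𝒮i i).presheaf.obj (op U)), ((φ i).hom.app (op U)).hom y = x)
  {u : RelProj.QGrHom g 𝒮 𝒮'} {ui : ∀ i, RelProj.QGrHom g (𝒮i i) 𝒮'}
  (hui : ∀ i (U : S.Opens), (ui i).app U = (φ i).hom.app (op U) ≫ u.app U)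
  {p : P ⟶ S} {chart : ∀ (U : S.Opens) (hU : IsAffineOpen U), (((p ⁻¹ᵁ U : P.Opens) : Scheme.{u}) ≅ Proj (𝒮.deg U hU))}
  (hP : RelProj.IsRelProj 𝒮 p chart)
  {p' : P' ⟶ S'} {chart' : ∀ (U' : S'.Opens) (hU' : IsAffineOpen U'), (((p' ⁻¹ᵁ U' : P'.Opens) : Scheme.{u}) ≅ Proj (𝒮'.deg U' hU'))}
  (hP' : RelProj.IsRelProj 𝒮' p' chart')
  {r : (RelProj.domQ u p' chart').toScheme ⟶ P}
  (hr : RelProj.IsProjQMapOn u p chart p' chart' (RelProj.domQ u p' chart') r)
  {Pi : Λ → Scheme.{u}} {pi : ∀ i, Pi i ⟶ S}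
  {charti : ∀ i (U : S.Opens) (hU : IsAffineOpen U), ((((pi i) ⁻¹ᵁ U : (Pi i).Opens) : Scheme.{u}) ≅ Proj ((𝒮i i).deg U hU))}
  (hPi : ∀ i, RelProj.IsRelProj (𝒮i i) (pi i) (charti i))
  {ri : ∀ i, (RelProj.domQ (ui i) p' chart').toScheme ⟶ Pi i}
  (hri : ∀ i, RelProj.IsProjQMapOn (ui i) (pi i) (charti i) p' chart' (RelProj.domQ (ui i) p' chart') (ri i))

include hφ ht hφt hsurj in
/-- Finitely many fractions come from a finite stage. -/
theorem exists_stage {U : S.Opens} (hU : IsAffineOpen U) {d : ℕ} {f : 𝒮.presheaf.obj (op U)}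
    (hf : f ∈ 𝒮.deg U hU d) (G : Finset (Away (𝒮.deg U hU) f)) :
    ∃ i₀, ∀ i, i₀ ≤ i → ∃ y ∈ (𝒮i i).deg U hU d, ((φ i).hom.app (op U)).hom y = f ∧
      ∀ x ∈ G, ∃ (m : ℕ) (a : 𝒮.presheaf.obj (op U)) (ha : a ∈ 𝒮.deg U hU (m • d)),
        x = Away.mk (𝒮.deg U hU) hf m a ha ∧
          ∃ a' ∈ (𝒮i i).deg U hU (m • d), ((φ i).hom.app (op U)).hom a' = a := by
  classical
  have push : ∀ {n : ℕ} {a : 𝒮.presheaf.obj (op U)}, a ∈ 𝒮.deg U hU n →
      ∃ i₀, ∀ i, i₀ ≤ i → ∃ a' ∈ (𝒮i i).deg U hU n, ((φ i).hom.app (op U)).hom a' = a := by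
    intro n a ha
    obtain ⟨i₀, a', ha', e⟩ := exists_homogeneous_preimage φ hφ hsurj hU ha
    refine ⟨i₀, fun i hi => ⟨((t i₀ i hi).hom.app (op U)).hom a', ht i₀ i hi U hU _ _ ha', ?_⟩⟩
    rw [← e, ← hφt i₀ i hi]
    rfl
  choose m a ha hx using fun x : Away (𝒮.deg U hU) f => Away.mk_surjective (𝒮.deg U hU) hf x
  choose k hk using fun x : Away (𝒮.deg U hU) f => push (ha x)
  obtain ⟨k₀, hk₀⟩ := push hf
  obtain ⟨i₀, hi₀⟩ := Finset.exists_le (insert k₀ (G.image k))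
  refine ⟨i₀, fun i hi => ?_⟩
  obtain ⟨y, hy, e⟩ := hk₀ i ((hi₀ k₀ (Finset.mem_insert_self _ _)).trans hi)
  exact ⟨y, hy, e, fun x hxG => ⟨m x, a x, ha x, (hx x).symm,
    hk x i ((hi₀ (k x) (Finset.mem_insert_of_mem (Finset.mem_image_of_mem k hxG))).trans hi)⟩⟩

set_option maxHeartbeats 3200000 in
include hφ ht hφt hsurj hui hP hP' hr hPi hri in
/-- Near a point, the morphism at a large stage is a closed immersion over a standard open. -/
theorem exists_closed_at_stage [IsImmersion r]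
    [LocallyOfFiniteType ((RelProj.domQ u p' chart').ι ≫ p' ≫ g)]
    (z : (RelProj.domQ u p' chart').toScheme) :
    ∃ (W : P'.Opens) (i₀ : Λ), z.1 ∈ W ∧ ∀ i, i₀ ≤ i → RelProj.domQ (ui i) p' chart' = ⊤ →
      ∃ D : (Pi i).Opens, IsClosedImmersion (ri i ∣_ D) ∧
        ∀ z' : (RelProj.domQ (ui i) p' chart').toScheme, z'.1 ∈ W → ri i z' ∈ D := by
  obtain ⟨U, hU, hzU, -⟩ := exists_isAffineOpen_mem_and_subset (U := (⊤ : S.Opens)) (x := p (r z)) trivial
  obtain ⟨w, hw⟩ : r z ∈ Set.range (RelProj.emb p chart U hU) := by rw [range_emb]; exact hzU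
  obtain ⟨d, hd, f, hf, hwf, hfO⟩ := SymAlg11.exists_basicOpen_le_proj (𝒮.deg U hU)
    (O := RelProj.emb p chart U hU ⁻¹ᵁ r.coborderRange) (w := w) (by
      show RelProj.emb p chart U hU w ∈ r.coborderRange
      rw [hw]; exact subset_coborder ⟨z, rfl⟩)
  let ε := Proj.awayι (𝒮.deg U hU) f hf hd ≫ RelProj.emb p chart U hU
  have hε : ε.opensRange = RelProj.emb p chart U hU ''ᵁ Proj.basicOpen (𝒮.deg U hU) f := by
    rw [Scheme.Hom.opensRange_comp, Proj.opensRange_awayι]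
  have hDle : ε.opensRange ≤ r.coborderRange := by
    rw [hε]; rintro _ ⟨v, hv, rfl⟩; exact hfO hv
  let a := pullback.snd r ε
  haveI : IsClosedImmersion a := by
    have h1 : IsClosedImmersion (r ∣_ ε.opensRange) :=
      (SymAlg11.restrict_comp_ι_iff r.liftCoborder r r.liftCoborder_ι hDle @IsClosedImmersion).1 inferInstance
    exact ((MorphismProperty.arrow_mk_iso_iff @IsClosedImmersion (morphismRestrictOpensRange r ε))).1 h1
  haveI : IsAffine (pullback r ε) := isAffine_of_isAffineHom a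
  let θ : CommRingCat.of (Away (𝒮.deg U hU) f) ⟶ Γ(pullback r ε, ⊤) :=
    (Scheme.ΓSpecIso _).inv ≫ a.appTop
  have hθ : Function.Surjective θ.hom := by
    intro x
    obtain ⟨v, hv⟩ := (IsClosedImmersion.isAffine_surjective_of_isAffine (f := a)).2 x
    refine ⟨(Scheme.ΓSpecIso _).hom v, ?_⟩
    change a.appTop ((Scheme.ΓSpecIso _).inv ((Scheme.ΓSpecIso _).hom v)) = x
    rw [← hv]
    exact congrArg _ (ConcreteCategory.congr_hom (Scheme.ΓSpecIso _).hom_inv_id v)
  let σ : S.presheaf.obj (op U) ⟶ CommRingCat.of (Away (𝒮.deg U hU) f) :=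
    𝒮.strZero U hU ≫ CommRingCat.ofHom (fromZeroRingHom (𝒮.deg U hU) (Submonoid.powers f))
  have hεp : ε ≫ p = Spec.map σ ≫ hU.fromSpec := by
    change (Proj.awayι _ _ _ _ ≫ _) ≫ p = _
    rw [Category.assoc, RelProj.emb, Category.assoc, ← hP.chart_over U hU, Iso.inv_hom_id_assoc,
      Proj.awayι_toSpecZero_assoc, ← Spec.map_comp_assoc]
  haveI : LocallyOfFiniteType (a ≫ Spec.map σ) := by
    haveI : LocallyOfFiniteType ((a ≫ Spec.map σ) ≫ hU.fromSpec) := by
      rw [Category.assoc, ← hεp, ← pullback.condition_assoc, qMapOn_comp hP hP' hr]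
      infer_instance
    exact locallyOfFiniteType_of_comp _ hU.fromSpec
  have hft : (σ ≫ θ).hom.FiniteType := by
    have h1 := (HasRingHomProperty.iff_of_isAffine (P := @LocallyOfFiniteType)
      (f := a ≫ Spec.map σ)).1 inferInstance
    have h2 : σ ≫ θ = (Scheme.ΓSpecIso _).inv ≫ (a ≫ Spec.map σ).appTop := by
      rw [Scheme.Hom.comp_appTop, ← Scheme.ΓSpecIso_inv_naturality_assoc]
    rw [h2, CommRingCat.hom_comp]
    exact RingHom.FiniteType.comp h1 (RingHom.FiniteType.of_surjective _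
      (ConcreteCategory.bijective_of_isIso (Scheme.ΓSpecIso _).inv).2)
  obtain ⟨G, hG⟩ := eq_top_of_finiteType _ hft
  classical
  choose lift hlift using hθ
  obtain ⟨i₀, hi₀⟩ := exists_stage φ hφ t ht hφt hsurj hU hf (G.image lift)
  refine ⟨(RelProj.domQ u p' chart').ι ''ᵁ (r ⁻¹ᵁ ε.opensRange), i₀, ⟨z, ?_, rfl⟩, fun i hi htop => ?_⟩
  · change r z ∈ ε.opensRange
    rw [hε]
    exact ⟨w, hwf, hw⟩
  obtain ⟨y, hy, e, hstage⟩ := hi₀ i hi
  let ψ := (RelProj.QGrHom.ofHom (φ i) (hφ i)).gradedAt U hU U hU (le_refl U)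
  have eψ : ∀ x, ψ x = ((φ i).hom.app (op U)).hom x := fun x =>
    DFunLike.congr_fun (gradedAt_ofHom (φ i) (hφ i) U hU _) x
  obtain rfl : ψ y = f := (eψ y).trans e
  -- the composite to the standard open of the stage is a closed immersion
  let b := Spec.map (CommRingCat.ofHom (Away.map ψ y))
  haveI : IsClosedImmersion (a ≫ b) := by
    refine IsClosedImmersion.of_surjective_of_isAffine _ ?_
    rw [Scheme.Hom.comp_appTop]
    let K := RingHom.range ((θ.hom).comp (Away.map ψ y))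
    have hK : K = ⊤ := by
      refine hG K (fun s => ?_) (fun x hx => ?_)
      · refine ⟨fromZeroRingHom _ _ ((𝒮i i).strZero U hU s), ?_⟩
        change θ.hom (Away.map ψ y (fromZeroRingHom _ _ ((𝒮i i).strZero U hU s))) = θ.hom (σ.hom s)
        congr 1
        apply HomogeneousLocalization.val_injective
        change HomogeneousLocalization.val (Away.map ψ y (HomogeneousLocalization.mk
          ⟨0, ⟨((𝒮i i).str.app (op U)).hom s, (𝒮i i).str_mem U hU s⟩, 1, one_mem _⟩)) =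
            Localization.mk ((𝒮.str.app (op U)).hom s) 1
        simp only [Away.map, HomogeneousLocalization.map_mk, HomogeneousLocalization.val_mk]
        congr 1
        · rw [eψ]
          exact ConcreteCategory.congr_hom (NatTrans.congr_app (φ i).comm (op U)) s
        · simp
      · obtain ⟨m, c, hc, hcx, c', hc', ec⟩ := hstage _ (Finset.mem_image_of_mem lift hx)
        refine ⟨Away.mk ((𝒮i i).deg U hU) hy m c' hc', ?_⟩
        rw [← hlift x, hcx, RingHom.comp_apply, Away.map_mk]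
        congr 2
        exact (eψ c').trans ec
    intro x
    obtain ⟨v, hv⟩ := hK.ge (Subring.mem_top x)
    refine ⟨(Scheme.ΓSpecIso (CommRingCat.of (Away ((𝒮i i).deg U hU) y))).inv v, ?_⟩
    refine Eq.trans ?_ hv
    change a.appTop (b.appTop ((Scheme.ΓSpecIso (CommRingCat.of (Away ((𝒮i i).deg U hU) y))).inv v)) =
      a.appTop ((Scheme.ΓSpecIso (CommRingCat.of (Away (𝒮.deg U hU) (ψ y)))).inv (Away.map ψ y v))
    exact congrArg _ (ConcreteCategory.congr_hom
      (Scheme.ΓSpecIso_inv_naturality (CommRingCat.ofHom (Away.map ψ y))) v).symm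
  obtain ⟨rv, hrv, -⟩ := existsUnique_qMapOn (RelProj.QGrHom.ofHom (φ i) (hφ i)) (hPi i) hP
  obtain ⟨m, hm, hmr⟩ := qMapOn_compHom (φ i) (hφ i) (hui i) hP (hPi i) hP' hr hrv (hri i)
  let jv : QIdx (g := 𝟙 S) (𝒮 := 𝒮i i) := ⟨U, hU, U, hU, le_refl U, d, hd, y, hy⟩
  let εi := Proj.awayι ((𝒮i i).deg U hU) y hy hd ≫ RelProj.emb (pi i) (charti i) U hU
  let l := IsOpenImmersion.lift (RelProj.domQ (RelProj.QGrHom.ofHom (φ i) (hφ i)) p chart).ι
    (qC (RelProj.QGrHom.ofHom (φ i) (hφ i)) p chart jv) (range_qC_subset jv)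
  have hεi : εi.opensRange = RelProj.emb (pi i) (charti i) U hU ''ᵁ Proj.basicOpen ((𝒮i i).deg U hU) y := by
    rw [Scheme.Hom.opensRange_comp, Proj.opensRange_awayι]
  have HB : IsPullback l b rv εi := by
    refine (IsOpenImmersion.isPullback b l εi rv ?_ ?_).flip
    · exact lift_qC_comp hrv jv
    · refine SetLike.ext fun v => ⟨fun hv => ?_, ?_⟩
      · have hv' : rv v ∈ RelProj.emb (pi i) (charti i) U hU ''ᵁ Proj.basicOpen ((𝒮i i).deg U hU) y := hεi.le hv
        have hvU : p v.1 ∈ U := by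
          have h1 : pi i (rv v) = p v.1 := congr($(qMapOn_comp (hPi i) hP hrv) v)
          rw [← h1]
          obtain ⟨c, -, hc⟩ := hv'
          rw [← hc]
          exact ((charti i U hU).inv c).2
        obtain ⟨c, hc⟩ := (mem_preimage_emb_basicOpen_iff (hPi i) hP hrv jv v hvU).1 hv'
        refine ⟨c, (RelProj.domQ (RelProj.QGrHom.ofHom (φ i) (hφ i)) p chart).ι.isOpenEmbedding.injective ?_⟩
        rw [← Scheme.Hom.comp_apply, IsOpenImmersion.lift_fac]
        exact hc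
      · rintro ⟨c, rfl⟩
        rw [Scheme.Hom.mem_preimage, ← Scheme.Hom.comp_apply, lift_qC_comp hrv jv]
        exact ⟨_, rfl⟩
  have hle := domQ_comp_le (φ i) (hφ i) (hui i) (u := u) (p' := p') (chart' := chart')
  haveI : IsIso (P'.homOfLE hle) :=
    (isIso_iff_isOpenImmersion_and_surjective _).2 ⟨inferInstance, ⟨fun z =>
      ⟨⟨z.1, htop.ge (Set.mem_univ z.1)⟩, Subtype.ext (Scheme.homOfLE_apply _ _)⟩⟩⟩
  have HA : IsPullback (pullback.fst r ε ≫ inv (P'.homOfLE hle)) a m l := by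
    refine isPullback_of_comp_mono (RelProj.domQ (RelProj.QGrHom.ofHom (φ i) (hφ i)) p chart).ι ?_
    rw [hm, show l ≫ (RelProj.domQ (RelProj.QGrHom.ofHom (φ i) (hφ i)) p chart).ι = ε from
      IsOpenImmersion.lift_fac _ _ _]
    exact (IsPullback.of_hasPullback r ε).of_iso (Iso.refl _) (asIso (P'.homOfLE hle)).symm (Iso.refl _)
      (Iso.refl _) (by simp) (by simp [a]) (by simp) (by simp)
  have H := HA.paste_vert HB
  rw [hmr] at H
  refine ⟨εi.opensRange, ?_, fun z' hz' => ?_⟩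
  · refine ((MorphismProperty.arrow_mk_iso_iff @IsClosedImmersion (morphismRestrictOpensRange (ri i) εi))).2 ?_
    change IsClosedImmersion (pullback.snd (ri i) εi)
    rw [← H.isoPullback_inv_snd]
    infer_instance
  · obtain ⟨z'', hz'', e''⟩ := hz'
    have : z'' ∈ Set.range (pullback.fst r ε) := by
      rw [Scheme.Pullback.range_fst]
      exact hz''
    obtain ⟨v, hv⟩ := this
    have e1 : z' = (pullback.fst r ε ≫ inv (P'.homOfLE hle)) v := by
      apply (P'.homOfLE hle).isOpenEmbedding.injective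
      rw [← Scheme.Hom.comp_apply, Category.assoc, IsIso.inv_hom_id, Category.comp_id, hv]
      exact Subtype.ext ((Scheme.homOfLE_apply _ _).trans e''.symm)
    refine ⟨(a ≫ b) v, ?_⟩
    rw [e1, ← Scheme.Hom.comp_apply, ← Scheme.Hom.comp_apply (pullback.fst r ε ≫ _), H.w]

end Groth.Agent.RelProj11
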