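import Groth.Agent.Lib.RelProj11.QMapProps

/-!
Composing the morphism of a graded morphism with that of a graded homomorphism on the base.
-/

universe u

open CategoryTheory CategoryTheory.Limits AlgebraicGeometry TopologicalSpace Opposite HomogeneousLocalization
open scoped HomogeneousIdeal

namespace Groth.Agent.RelProj11

variable {S S' P PT P' : Scheme.{u}} {g : S' ⟶ S} {𝒮 𝒯 : RelProj.QCGrAlg S} {𝒮' : RelProj.QCGrAlg S'}
  {u : RelProj.QGrHom g 𝒮 𝒮'} {u' : RelProj.QGrHom g 𝒯 𝒮'}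
  (v : 𝒯.toQCAlg ⟶ 𝒮.toQCAlg) (hv : RelProj.IsGradedHom v)
  (hu' : ∀ U : S.Opens, u'.app U = v.hom.app (op U) ≫ u.app U)
  {p : P ⟶ S} {chart : ∀ (U : S.Opens) (hU : IsAffineOpen U), (((p ⁻¹ᵁ U : P.Opens) : Scheme.{u}) ≅ Proj (𝒮.deg U hU))}
  {pT : PT ⟶ S} {chartT : ∀ (U : S.Opens) (hU : IsAffineOpen U), (((pT ⁻¹ᵁ U : PT.Opens) : Scheme.{u}) ≅ Proj (𝒯.deg U hU))}
  {p' : P' ⟶ S'} {chart' : ∀ (U' : S'.Opens) (hU' : IsAffineOpen U'), (((p' ⁻¹ᵁ U' : P'.Opens) : Scheme.{u}) ≅ Proj (𝒮'.deg U' hU'))}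

include hu' in
theorem gradedAt_comp {U : S.Opens} (hU : IsAffineOpen U) {U' : S'.Opens} (hU' : IsAffineOpen U')
    (hle : U' ≤ g ⁻¹ᵁ U) :
    u'.gradedAt U hU U' hU' hle =
      (u.gradedAt U hU U' hU' hle).comp (RelProj.gradedHomAt v hv U hU) := by
  ext x
  show (u'.appLE U U' hle).hom x = (u.appLE U U' hle).hom ((v.hom.app (op U)).hom x)
  rw [RelSpec.QHom.appLE, RelSpec.QHom.appLE, hu' U]
  rfl

/-- The chart of the second morphism attached to a chart of the composite. -/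
def QIdx.push (i : QIdx (g := g) (𝒮 := 𝒯)) : QIdx (g := g) (𝒮 := 𝒮) :=
  ⟨i.U, i.hU, i.U', i.hU', i.hle, i.d, i.hd, (v.hom.app (op i.U)).hom i.f, hv i.U i.hU i.d i.f i.hf⟩

include hu' in
theorem qC_push (i : QIdx (g := g) (𝒮 := 𝒯)) :
    Set.range (qC u p' chart' (i.push v hv)) = Set.range (qC u' p' chart' i) := by
  have e : u'.gradedAt i.U i.hU i.U' i.hU' i.hle i.f =
      u.gradedAt i.U i.hU i.U' i.hU' i.hle ((v.hom.app (op i.U)).hom i.f) :=
    DFunLike.congr_fun (gradedAt_comp v hv hu' i.hU i.hU' i.hle) i.f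
  ext x
  rw [mem_range_qC, mem_range_qC]
  change (∃ w ∈ Proj.basicOpen _ (u.gradedAt i.U i.hU i.U' i.hU' i.hle ((v.hom.app (op i.U)).hom i.f)),
    RelProj.emb p' chart' i.U' i.hU' w = x) ↔ _
  rw [← e]

variable (hP : RelProj.IsRelProj 𝒮 p chart) (hPT : RelProj.IsRelProj 𝒯 pT chartT)
  (hP' : RelProj.IsRelProj 𝒮' p' chart')
  {r : (RelProj.domQ u p' chart').toScheme ⟶ P}
  (hr : RelProj.IsProjQMapOn u p chart p' chart' (RelProj.domQ u p' chart') r)

include hv hu' in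
theorem domQ_comp_le : RelProj.domQ u' p' chart' ≤ RelProj.domQ u p' chart' := fun x hx => by
  obtain ⟨i, hi⟩ := exists_mem_range_qC hx
  rw [← qC_push v hv hu' i] at hi
  have := range_qC_subset _ hi
  rwa [Scheme.Opens.range_ι] at this

include hu' hP hPT hP' hr in
/-- The open of definition of the composite. -/
theorem mem_domQ_comp_iff (z : (RelProj.domQ u p' chart').toScheme) :
    r z ∈ RelProj.domQ (RelProj.QGrHom.ofHom v hv) p chart ↔ z.1 ∈ RelProj.domQ u' p' chart' := by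
  constructor
  · intro hz
    obtain ⟨U, hU, hpU, -⟩ :=
      exists_isAffineOpen_mem_and_subset (U := (⊤ : S.Opens)) (x := p (r z)) trivial
    obtain ⟨d, hd, t, ht, hzt⟩ := exists_mem_chart hPT hP hU hU
      (show U ≤ (𝟙 S : S ⟶ S) ⁻¹ᵁ U from le_refl U) hz hpU
    have hgz : g (p' z.1) = p (r z) := (congr($(qMapOn_comp hP hP' hr) z)).symm
    obtain ⟨U', hU', hz', hle⟩ := exists_isAffineOpen_mem_and_subset (U := g ⁻¹ᵁ U) (x := p' z.1)
      (show g (p' z.1) ∈ U by rw [hgz]; exact hpU)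
    obtain ⟨w, hw, hwz⟩ := (mem_range_qC _).1 hzt
    have h1 := (mem_preimage_emb_basicOpen_iff hP hP' hr
      (QIdx.push v hv ⟨U, hU, U', hU', hle, d, hd, t, ht⟩) z hz').1
      ⟨w, by
        change w ∈ Proj.basicOpen _ ((v.hom.app (op U)).hom t)
        rw [gradedAt_ofHom v hv U hU] at hw
        exact hw, hwz⟩
    rw [qC_push v hv hu'] at h1
    have := range_qC_subset _ h1
    rwa [Scheme.Opens.range_ι] at this
  · intro hz
    obtain ⟨i, hi⟩ := exists_mem_range_qC hz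
    have hzU : p' z.1 ∈ i.U' := p'_mem_of_range i hi
    rw [← qC_push v hv hu' i] at hi
    obtain ⟨w, hw, hwz⟩ := (mem_preimage_emb_basicOpen_iff hP hP' hr (i.push v hv) z hzU).2 hi
    have hmem : r z ∈ Set.range (qC (RelProj.QGrHom.ofHom v hv) p chart
        ⟨i.U, i.hU, i.U, i.hU, le_refl i.U, i.d, i.hd, i.f, i.hf⟩) := by
      refine (mem_range_qC _).2 ⟨w, ?_, hwz⟩
      rw [gradedAt_ofHom v hv i.U i.hU]
      exact hw
    have := range_qC_subset _ hmem
    rwa [Scheme.Opens.range_ι] at this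

include hu' hP hPT hP' hr in
/-- The morphism of the composite is the composite of the morphisms. -/
theorem qMapOn_compHom {rv : (RelProj.domQ (RelProj.QGrHom.ofHom v hv) p chart).toScheme ⟶ PT}
    (hrv : RelProj.IsProjQMapOn (RelProj.QGrHom.ofHom v hv) pT chartT p chart
      (RelProj.domQ (RelProj.QGrHom.ofHom v hv) p chart) rv)
    {r' : (RelProj.domQ u' p' chart').toScheme ⟶ PT}
    (hr' : RelProj.IsProjQMapOn u' pT chartT p' chart' (RelProj.domQ u' p' chart') r') :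
    ∃ m : (RelProj.domQ u' p' chart').toScheme ⟶ (RelProj.domQ (RelProj.QGrHom.ofHom v hv) p chart).toScheme,
      m ≫ (RelProj.domQ (RelProj.QGrHom.ofHom v hv) p chart).ι =
          P'.homOfLE (domQ_comp_le v hv hu') ≫ r ∧
        m ≫ rv = r' := by
  have hrange : Set.range (P'.homOfLE (domQ_comp_le v hv hu' (p' := p') (chart' := chart')) ≫ r) ⊆
      Set.range (RelProj.domQ (RelProj.QGrHom.ofHom v hv) p chart).ι := by
    rw [Scheme.Opens.range_ι]
    rintro _ ⟨z, rfl⟩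
    rw [Scheme.Hom.comp_apply]
    refine (mem_domQ_comp_iff v hv hu' hP hPT hP' hr _).2 ?_
    rw [Scheme.homOfLE_apply]
    exact z.2
  refine ⟨IsOpenImmersion.lift _ _ hrange, IsOpenImmersion.lift_fac _ _ _, ?_⟩
  refine hom_ext_refine (c := qC u' p' chart') _ range_qC_subset
    (fun x hx => exists_mem_range_qC hx) _ _ fun i => ?_
  rw [lift_qC_comp hr' i]
  let jv : QIdx (g := 𝟙 S) (𝒮 := 𝒯) := ⟨i.U, i.hU, i.U, i.hU, le_refl i.U, i.d, i.hd, i.f, i.hf⟩
  let ψ := (RelProj.QGrHom.ofHom v hv).gradedAt i.U i.hU i.U i.hU (le_refl i.U)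
  let ψu := u.gradedAt i.U i.hU i.U' i.hU' i.hle
  have hψ : ψu.comp ψ = u'.gradedAt i.U i.hU i.U' i.hU' i.hle := by
    rw [gradedAt_comp v hv hu' i.hU i.hU' i.hle]
    show ψu.comp ((RelProj.QGrHom.ofHom v hv).gradedAt i.U i.hU i.U i.hU (le_refl i.U)) = _
    rw [gradedAt_ofHom v hv i.U i.hU]
  have key : ∀ (φ : 𝒯.deg i.U i.hU →+*ᵍ 𝒮'.deg i.U' i.hU') (_ : ψu.comp ψ = φ),
      ∃ n : Spec (CommRingCat.of (Away (𝒮'.deg i.U' i.hU') (φ i.f))) ⟶ qDom (u := RelProj.QGrHom.ofHom v hv) jv,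
        n ≫ qC (RelProj.QGrHom.ofHom v hv) p chart jv =
          IsOpenImmersion.lift (RelProj.domQ u p' chart').ι
              (Proj.awayι (𝒮'.deg i.U' i.hU') (φ i.f) (φ.map_mem i.hf) i.hd ≫ RelProj.emb p' chart' i.U' i.hU')
              (by
                subst_vars
                exact range_qC_subset (⟨i.U, i.hU, i.U', i.hU', i.hle, i.d, i.hd, ψ i.f, ψ.map_mem i.hf⟩ :
                  QIdx (g := g) (𝒮 := 𝒮))) ≫ r ∧
        n ≫ qM (RelProj.QGrHom.ofHom v hv) pT chartT jv =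
          Spec.map (CommRingCat.ofHom (Away.map φ i.f)) ≫
            Proj.awayι (𝒯.deg i.U i.hU) i.f i.hf i.hd ≫ RelProj.emb pT chartT i.U i.hU := by
    rintro φ rfl
    refine ⟨Spec.map (CommRingCat.ofHom (Away.map ψu (ψ i.f))), ?_, ?_⟩
    · exact (lift_qC_comp hr (⟨i.U, i.hU, i.U', i.hU', i.hle, i.d, i.hd, ψ i.f, ψ.map_mem i.hf⟩ :
        QIdx (g := g) (𝒮 := 𝒮))).symm
    · erw [away_map_comp ψ ψu i.f i.hf, Spec.map_comp, Category.assoc]
      rfl
  obtain ⟨n, hn₁, hn₂⟩ := key _ hψ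
  have e : IsOpenImmersion.lift (RelProj.domQ u' p' chart').ι (qC u' p' chart' i) (range_qC_subset i) ≫
      IsOpenImmersion.lift (RelProj.domQ (RelProj.QGrHom.ofHom v hv) p chart).ι
        (P'.homOfLE (domQ_comp_le v hv hu') ≫ r) hrange =
      n ≫ IsOpenImmersion.lift (RelProj.domQ (RelProj.QGrHom.ofHom v hv) p chart).ι
        (qC (RelProj.QGrHom.ofHom v hv) p chart jv) (range_qC_subset jv) := by
    refine (cancel_mono (RelProj.domQ (RelProj.QGrHom.ofHom v hv) p chart).ι).1 ?_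
    refine ((Category.assoc _ _ _).trans (congrArg (_ ≫ ·) (IsOpenImmersion.lift_fac _ _ _))).trans ?_
    refine Eq.trans ?_ ((Category.assoc _ _ _).trans
      ((congrArg (n ≫ ·) (IsOpenImmersion.lift_fac _ _ _)).trans hn₁)).symm
    refine (Category.assoc _ _ _).symm.trans (congrArg (· ≫ r) ?_)
    refine (cancel_mono (RelProj.domQ u p' chart').ι).1 ?_
    refine ((Category.assoc _ _ _).trans (congrArg (_ ≫ ·) (Scheme.homOfLE_ι _ _))).trans ?_
    exact (IsOpenImmersion.lift_fac _ _ _).trans (IsOpenImmersion.lift_fac _ _ _).symm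
  refine ((Category.assoc _ _ _).symm.trans (congrArg (· ≫ rv) e)).trans ?_
  exact (Category.assoc _ _ _).trans ((congrArg (n ≫ ·) (lift_qC_comp hrv jv)).trans hn₂)

/-- A homomorphism surjective in large degrees is everywhere defined. -/
theorem domQ_ofHom_eq_top
    (hTN : ∃ n : ℕ, ∀ k, n ≤ k → ∀ (U : S.Opens) (hU : IsAffineOpen U), ∀ y ∈ 𝒮.deg U hU k,
      ∃ x ∈ 𝒯.deg U hU k, (v.hom.app (op U)).hom x = y) :
    RelProj.domQ (RelProj.QGrHom.ofHom v hv) p chart = ⊤ := by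
  obtain ⟨n, hn⟩ := hTN
  refine top_le_iff.1 fun x _ => ?_
  obtain ⟨U, hU, hxU, -⟩ := exists_isAffineOpen_mem_and_subset (U := (⊤ : S.Opens)) (x := p x) trivial
  obtain ⟨w, rfl⟩ : x ∈ Set.range (RelProj.emb p chart U hU) := by rw [range_emb]; exact hxU
  refine Opens.mem_iSup.2 ⟨⟨(⟨U, hU⟩, ⟨U, hU⟩), le_refl U⟩, w, ?_, rfl⟩
  rw [gradedAt_ofHom v hv U hU]
  refine (RelCone.mem_domOpen _ w).2 ?_
  by_contra hc
  push Not at hc
  refine w.not_irrelevant_le (irrelevant_le_of_forall_deg _ w.asHomogeneousIdeal (n + 1) fun k hk y hy => ?_)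
  obtain ⟨x, hx, rfl⟩ := hn k (Nat.le_of_succ_le hk) U hU y hy
  exact hc x (HomogeneousIdeal.mem_irrelevant_of_mem _ (Nat.lt_of_lt_of_le (Nat.succ_pos n) hk) hx)

/-- A homomorphism injective in large degrees gives a dominant morphism. -/
theorem isDominant_ofHom
    (hTN : ∃ n : ℕ, ∀ k, n ≤ k → ∀ (U : S.Opens) (hU : IsAffineOpen U), ∀ x ∈ 𝒯.deg U hU k,
      (v.hom.app (op U)).hom x = 0 → x = 0)
    {rv : (RelProj.domQ (RelProj.QGrHom.ofHom v hv) p chart).toScheme ⟶ PT}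
    (hrv : RelProj.IsProjQMapOn (RelProj.QGrHom.ofHom v hv) pT chartT p chart
      (RelProj.domQ (RelProj.QGrHom.ofHom v hv) p chart) rv) :
    IsDominant rv := by
  obtain ⟨n, hn⟩ := hTN
  refine ⟨fun y => mem_closure_iff.2 fun O hO hyO => ?_⟩
  obtain ⟨U, hU, hyU, -⟩ := exists_isAffineOpen_mem_and_subset (U := (⊤ : S.Opens)) (x := pT y) trivial
  obtain ⟨w, rfl⟩ : y ∈ Set.range (RelProj.emb pT chartT U hU) := by rw [range_emb]; exact hyU
  let O' : (Proj (𝒯.deg U hU)).Opens := RelProj.emb pT chartT U hU ⁻¹ᵁ ⟨O, hO⟩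
  obtain ⟨y', hy'⟩ := (Proj.affineOpenCover (𝒯.deg U hU)).openCover.covers w
  generalize (Proj.affineOpenCover (𝒯.deg U hU)).openCover.idx w = i at y' hy'
  obtain ⟨d, ⟨t, ht⟩⟩ := i
  let ψ := (RelProj.QGrHom.ofHom v hv).gradedAt U hU U hU (le_refl U)
  let f := Proj.awayι (𝒯.deg U hU) t ht d.2
  have hinj : Function.Injective (Away.map ψ t) := away_map_injective_of_large ψ n
    (fun k hk a ha h0 => hn k hk U hU a ha (by
      rw [show ψ a = RelProj.gradedHomAt v hv U hU a from DFunLike.congr_fun (gradedAt_ofHom v hv U hU _) a] at h0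
      exact h0)) d.2 ht
  have hdense : DenseRange (PrimeSpectrum.comap (Away.map ψ t)) :=
    (PrimeSpectrum.denseRange_comap_iff_ker_le_nilRadical _).2 (by
      rw [(RingHom.injective_iff_ker_eq_bot _).1 hinj]; exact bot_le)
  obtain ⟨_, hmem, ⟨z, rfl⟩⟩ := mem_closure_iff.1 (hdense y')
    (f.base ⁻¹' (O' : Set (Proj (𝒯.deg U hU)))) (O'.isOpen.preimage f.continuous) (by
    change f y' ∈ O'
    rw [show f y' = w from hy']
    exact hyO)
  refine ⟨_, ?_, IsOpenImmersion.lift (RelProj.domQ (RelProj.QGrHom.ofHom v hv) p chart).ι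
    (qC (RelProj.QGrHom.ofHom v hv) p chart ⟨U, hU, U, hU, le_refl U, d.1, d.2, t, ht⟩) (range_qC_subset _) z, rfl⟩
  rw [← Scheme.Hom.comp_apply, lift_qC_comp hrv]
  exact hmem

end Groth.Agent.RelProj11

namespace Groth.Agent.RelProj11

/-- A property stable under base change passes to a factor followed by a monomorphism. -/
theorem of_comp_mono {A B C : Scheme.{u}} (Q : MorphismProperty Scheme.{u}) [Q.IsStableUnderBaseChange]
    (f : A ⟶ B) (h : B ⟶ C) [Mono h] (hQ : Q (f ≫ h)) : Q f := by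
  have H : IsPullback f (𝟙 A) h (f ≫ h) := by
    refine IsPullback.of_isLimit' ⟨(Category.id_comp _).symm⟩
      (PullbackCone.IsLimit.mk _ (fun s => s.snd) (fun s => ?_) (fun s => Category.comp_id _) fun s m _ hm => ?_)
    · rw [← cancel_mono h, Category.assoc]
      exact s.condition.symm
    · rw [Category.comp_id] at hm
      exact hm
  exact Q.of_isPullback H.flip hQ

end Groth.Agent.RelProj11
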