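import Groth.Agent.Lib.RelProj11.QMapComp

/-!
Composing the morphism of a graded morphism with that of a graded homomorphism on the target.
-/

universe u

open CategoryTheory CategoryTheory.Limits AlgebraicGeometry TopologicalSpace Opposite HomogeneousLocalization
open scoped HomogeneousIdeal

set_option backward.isDefEq.respectTransparency false

noncomputable section

namespace Groth.Agent.RelProj11

variable {S S' P P' PT : Scheme.{u}} {g : S' ⟶ S} {𝒮 : RelProj.QCGrAlg S} {𝒮' 𝒯 : RelProj.QCGrAlg S'}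
  (u : RelProj.QGrHom g 𝒮 𝒮') (v : 𝒮'.toQCAlg ⟶ 𝒯.toQCAlg) (hv : RelProj.IsGradedHom v)

/-- A graded morphism followed by a graded homomorphism of the target. -/
def postComp : RelProj.QGrHom g 𝒮 𝒯 where
  app U := u.app U ≫ v.hom.app (op (g ⁻¹ᵁ U))
  naturality {U V} i := by
    rw [Category.assoc, ← v.hom.naturality, ← Category.assoc, u.naturality, Category.assoc]
  str_app U := by
    rw [← Category.assoc, u.str_app, Category.assoc, ← NatTrans.comp_app, v.comm]
  map_mem U hU U' hU' hle d x hx := by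
    have h1 := hv U' hU' d _ (u.map_mem U hU U' hU' hle hx)
    have h2 := ConcreteCategory.congr_hom (v.hom.naturality (homOfLE hle).op) ((u.app U).hom x)
    erw [h2] at h1
    exact h1

theorem postComp_app (U : S.Opens) : (postComp u v hv).app U = u.app U ≫ v.hom.app (op (g ⁻¹ᵁ U)) := rfl

theorem gradedAt_postComp {U : S.Opens} (hU : IsAffineOpen U) {U' : S'.Opens} (hU' : IsAffineOpen U')
    (hle : U' ≤ g ⁻¹ᵁ U) :
    (postComp u v hv).gradedAt U hU U' hU' hle =
      (RelProj.gradedHomAt v hv U' hU').comp (u.gradedAt U hU U' hU' hle) := by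
  ext x
  exact (ConcreteCategory.congr_hom (v.hom.naturality (homOfLE hle).op) ((u.app U).hom x)).symm

/-- The chart of the homomorphism of the target attached to a chart of the composite. -/
def QIdx.fwd (i : QIdx (g := g) (𝒮 := 𝒮)) : QIdx (g := 𝟙 S') (𝒮 := 𝒮') :=
  ⟨i.U', i.hU', i.U', i.hU', le_refl i.U', i.d, i.hd, u.gradedAt i.U i.hU i.U' i.hU' i.hle i.f,
    (u.gradedAt i.U i.hU i.U' i.hU' i.hle).map_mem i.hf⟩

variable {p : P ⟶ S} {chart : ∀ (U : S.Opens) (hU : IsAffineOpen U), (((p ⁻¹ᵁ U : P.Opens) : Scheme.{u}) ≅ Proj (𝒮.deg U hU))}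
  {p' : P' ⟶ S'} {chart' : ∀ (U : S'.Opens) (hU : IsAffineOpen U), (((p' ⁻¹ᵁ U : P'.Opens) : Scheme.{u}) ≅ Proj (𝒮'.deg U hU))}
  {pT : PT ⟶ S'} {chartT : ∀ (U : S'.Opens) (hU : IsAffineOpen U), (((pT ⁻¹ᵁ U : PT.Opens) : Scheme.{u}) ≅ Proj (𝒯.deg U hU))}

theorem qC_fwd (i : QIdx (g := g) (𝒮 := 𝒮)) :
    Set.range (qC (postComp u v hv) pT chartT i) =
      Set.range (qC (RelProj.QGrHom.ofHom v hv) pT chartT (i.fwd u)) := by
  have e : (RelProj.QGrHom.ofHom v hv).gradedAt i.U' i.hU' i.U' i.hU' (le_refl i.U')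
      (u.gradedAt i.U i.hU i.U' i.hU' i.hle i.f) =
      (postComp u v hv).gradedAt i.U i.hU i.U' i.hU' i.hle i.f := by
    rw [gradedAt_ofHom v hv i.U' i.hU', gradedAt_postComp u v hv i.hU i.hU' i.hle]
    rfl
  ext x
  rw [mem_range_qC, mem_range_qC]
  change _ ↔ ∃ w ∈ Proj.basicOpen _ ((RelProj.QGrHom.ofHom v hv).gradedAt i.U' i.hU' i.U' i.hU' (le_refl i.U')
    (u.gradedAt i.U i.hU i.U' i.hU' i.hle i.f)), RelProj.emb pT chartT i.U' i.hU' w = x
  rw [e]

theorem domQ_postComp_le :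
    RelProj.domQ (postComp u v hv) pT chartT ≤ RelProj.domQ (RelProj.QGrHom.ofHom v hv) pT chartT := fun x hx => by
  obtain ⟨i, hi⟩ := exists_mem_range_qC hx
  rw [qC_fwd u v hv i] at hi
  have := range_qC_subset _ hi
  rwa [Scheme.Opens.range_ι] at this

variable (hP : RelProj.IsRelProj 𝒮 p chart) (hP' : RelProj.IsRelProj 𝒮' p' chart')
  (hPT : RelProj.IsRelProj 𝒯 pT chartT)
  {rv : (RelProj.domQ (RelProj.QGrHom.ofHom v hv) pT chartT).toScheme ⟶ P'}
  (hrv : RelProj.IsProjQMapOn (RelProj.QGrHom.ofHom v hv) p' chart' pT chartT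
    (RelProj.domQ (RelProj.QGrHom.ofHom v hv) pT chartT) rv)

include hP hP' hPT hrv in
/-- The open of definition of the composite. -/
theorem mem_domQ_postComp_iff (z : (RelProj.domQ (RelProj.QGrHom.ofHom v hv) pT chartT).toScheme) :
    rv z ∈ RelProj.domQ u p' chart' ↔ z.1 ∈ RelProj.domQ (postComp u v hv) pT chartT := by
  constructor
  · intro hz
    have hpz : p' (rv z) = pT z.1 := congr($(qMapOn_comp hP' hPT hrv) z)
    obtain ⟨U, hU, hyU, -⟩ :=
      exists_isAffineOpen_mem_and_subset (U := (⊤ : S.Opens)) (x := g (p' (rv z))) trivial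
    obtain ⟨U', hU', hz', hle⟩ := exists_isAffineOpen_mem_and_subset (U := g ⁻¹ᵁ U) (x := p' (rv z)) hyU
    obtain ⟨d, hd, f, hf, hzf⟩ := exists_mem_chart hP hP' hU hU' hle hz hz'
    have h1 := (mem_preimage_emb_basicOpen_iff hP' hPT hrv (QIdx.fwd u ⟨U, hU, U', hU', hle, d, hd, f, hf⟩) z
      (show pT z.1 ∈ U' by rw [← hpz]; exact hz')).1 ((mem_range_qC _).1 hzf)
    rw [← qC_fwd u v hv] at h1
    have := range_qC_subset _ h1
    rwa [Scheme.Opens.range_ι] at this
  · intro hz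
    obtain ⟨i, hi⟩ := exists_mem_range_qC hz
    have hzU : pT z.1 ∈ i.U' := p'_mem_of_range i hi
    rw [qC_fwd u v hv i] at hi
    have h1 := (mem_preimage_emb_basicOpen_iff hP' hPT hrv (i.fwd u) z hzU).2 hi
    have h2 : rv z ∈ Set.range (qC u p' chart' i) := (mem_range_qC i).2 h1
    have := range_qC_subset _ h2
    rwa [Scheme.Opens.range_ι] at this

variable {r : (RelProj.domQ u p' chart').toScheme ⟶ P}
  (hr : RelProj.IsProjQMapOn u p chart p' chart' (RelProj.domQ u p' chart') r)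

include hP hP' hPT hrv hr in
/-- The morphism of the composite is the composite of the morphisms. -/
theorem qMapOn_postComp {r'' : (RelProj.domQ (postComp u v hv) pT chartT).toScheme ⟶ P}
    (hr'' : RelProj.IsProjQMapOn (postComp u v hv) p chart pT chartT (RelProj.domQ (postComp u v hv) pT chartT) r'') :
    ∃ m : (RelProj.domQ (postComp u v hv) pT chartT).toScheme ⟶ (RelProj.domQ u p' chart').toScheme,
      m ≫ (RelProj.domQ u p' chart').ι = PT.homOfLE (domQ_postComp_le u v hv) ≫ rv ∧ m ≫ r = r'' := by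
  have hrange : Set.range (PT.homOfLE (domQ_postComp_le u v hv (pT := pT) (chartT := chartT)) ≫ rv) ⊆
      Set.range (RelProj.domQ u p' chart').ι := by
    rw [Scheme.Opens.range_ι]
    rintro _ ⟨z, rfl⟩
    rw [Scheme.Hom.comp_apply]
    refine (mem_domQ_postComp_iff u v hv hP hP' hPT hrv _).2 ?_
    rw [Scheme.homOfLE_apply]
    exact z.2
  refine ⟨IsOpenImmersion.lift _ _ hrange, IsOpenImmersion.lift_fac _ _ _, ?_⟩
  refine hom_ext_refine (c := qC (postComp u v hv) pT chartT) _ range_qC_subset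
    (fun x hx => exists_mem_range_qC hx) _ _ fun i => ?_
  rw [lift_qC_comp hr'' i]
  let ψu := u.gradedAt i.U i.hU i.U' i.hU' i.hle
  let ψ := (RelProj.QGrHom.ofHom v hv).gradedAt i.U' i.hU' i.U' i.hU' (le_refl i.U')
  have hψ : ψ.comp ψu = (postComp u v hv).gradedAt i.U i.hU i.U' i.hU' i.hle := by
    rw [gradedAt_postComp u v hv i.hU i.hU' i.hle]
    show ((RelProj.QGrHom.ofHom v hv).gradedAt i.U' i.hU' i.U' i.hU' (le_refl i.U')).comp ψu = _
    rw [gradedAt_ofHom v hv i.U' i.hU']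
  have key : ∀ (φ : 𝒮.deg i.U i.hU →+*ᵍ 𝒯.deg i.U' i.hU') (_ : ψ.comp ψu = φ),
      ∃ n : Spec (CommRingCat.of (Away (𝒯.deg i.U' i.hU') (φ i.f))) ⟶ qDom (u := u) i,
        n ≫ qC u p' chart' i =
          IsOpenImmersion.lift (RelProj.domQ (RelProj.QGrHom.ofHom v hv) pT chartT).ι
              (Proj.awayι (𝒯.deg i.U' i.hU') (φ i.f) (φ.map_mem i.hf) i.hd ≫ RelProj.emb pT chartT i.U' i.hU')
              (by
                subst_vars
                exact range_qC_subset (i.fwd u)) ≫ rv ∧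
        n ≫ qM u p chart i =
          Spec.map (CommRingCat.ofHom (Away.map φ i.f)) ≫
            Proj.awayι (𝒮.deg i.U i.hU) i.f i.hf i.hd ≫ RelProj.emb p chart i.U i.hU := by
    rintro φ rfl
    refine ⟨Spec.map (CommRingCat.ofHom (Away.map ψ (ψu i.f))), ?_, ?_⟩
    · exact (lift_qC_comp hrv (i.fwd u)).symm
    · erw [away_map_comp ψu ψ i.f i.hf, Spec.map_comp, Category.assoc]
      rfl
  obtain ⟨n, hn₁, hn₂⟩ := key _ hψ
  have e : IsOpenImmersion.lift (RelProj.domQ (postComp u v hv) pT chartT).ι (qC (postComp u v hv) pT chartT i)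
        (range_qC_subset i) ≫
      IsOpenImmersion.lift (RelProj.domQ u p' chart').ι (PT.homOfLE (domQ_postComp_le u v hv) ≫ rv) hrange =
      n ≫ IsOpenImmersion.lift (RelProj.domQ u p' chart').ι (qC u p' chart' i) (range_qC_subset i) := by
    refine (cancel_mono (RelProj.domQ u p' chart').ι).1 ?_
    refine ((Category.assoc _ _ _).trans (congrArg (_ ≫ ·) (IsOpenImmersion.lift_fac _ _ _))).trans ?_
    refine Eq.trans ?_ ((Category.assoc _ _ _).trans
      ((congrArg (n ≫ ·) (IsOpenImmersion.lift_fac _ _ _)).trans hn₁)).symm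
    refine (Category.assoc _ _ _).symm.trans (congrArg (· ≫ rv) ?_)
    refine (cancel_mono (RelProj.domQ (RelProj.QGrHom.ofHom v hv) pT chartT).ι).1 ?_
    refine ((Category.assoc _ _ _).trans (congrArg (_ ≫ ·) (Scheme.homOfLE_ι _ _))).trans ?_
    exact (IsOpenImmersion.lift_fac _ _ _).trans (IsOpenImmersion.lift_fac _ _ _).symm
  refine ((Category.assoc _ _ _).symm.trans (congrArg (· ≫ r) e)).trans ?_
  exact (Category.assoc _ _ _).trans ((congrArg (n ≫ ·) (lift_qC_comp hr i)).trans hn₂)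

/-- Points with values in a scheme: the two composites agree. -/
theorem comp_eq_of_lift {T A B C : Scheme.{u}} {U : A.Opens} {V : B.Opens} {t : T ⟶ U} {m : U.toScheme ⟶ V}
    {f : U.toScheme ⟶ B} (hm : m ≫ V.ι = f) {c : T ⟶ V} (hc : c ≫ V.ι = t ≫ f) {r : V.toScheme ⟶ C}
    {r'' : U.toScheme ⟶ C} (h : m ≫ r = r'') : c ≫ r = t ≫ r'' := by
  rw [← h, ← Category.assoc]
  congr 1
  rw [← cancel_mono V.ι, hc, Category.assoc, hm]

end Groth.Agent.RelProj11
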