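import Groth.Agent.Lib.RelProj11.QMap
import Groth.Agent.Lib.RelProj11.Map

/-!
Properties of the morphisms of relative homogeneous spectra.
-/

universe u

open CategoryTheory CategoryTheory.Limits AlgebraicGeometry TopologicalSpace Opposite HomogeneousLocalization
open scoped HomogeneousIdeal

namespace Groth.Agent.RelProj11

section Ring

variable {A B σ τ : Type u} [CommRing A] [SetLike σ A] [AddSubgroupClass σ A]
  [CommRing B] [SetLike τ B] [AddSubgroupClass τ B]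
  {𝒜 : ℕ → σ} {ℬ : ℕ → τ} [GradedRing 𝒜] [GradedRing ℬ]
  (ψ : 𝒜 →+*ᵍ ℬ)

theorem away_map_surjective_of_large (n : ℕ) (h : ∀ k : ℕ, n ≤ k → Set.SurjOn ψ (𝒜 k : Set A) (ℬ k)) {d : ℕ}
    (hd : 0 < d) {s : A} (hs : s ∈ 𝒜 d) : Function.Surjective (Away.map ψ s) := by
  intro x
  obtain ⟨m, b, hb, rfl⟩ := Away.mk_surjective ℬ (ψ.map_mem hs) x
  have hb' : b * ψ s ^ n ∈ ℬ ((m + n) • d) := by
    rw [add_nsmul]; exact SetLike.mul_mem_graded hb (SetLike.pow_mem_graded _ (ψ.map_mem hs))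
  obtain ⟨a, ha, hab⟩ := h ((m + n) • d) ((Nat.le_mul_of_pos_right n hd).trans
    (Nat.mul_le_mul_right d (Nat.le_add_left n m))) hb'
  refine ⟨Away.mk 𝒜 hs (m + n) a ha, ?_⟩
  rw [Away.map_mk, away_mk_eq_iff']
  exact ⟨0, by rw [hab]; ring⟩

theorem away_map_injective_of_large (n : ℕ) (h : ∀ k : ℕ, n ≤ k → ∀ a ∈ 𝒜 k, ψ a = 0 → a = 0) {d : ℕ}
    (hd : 0 < d) {s : A} (hs : s ∈ 𝒜 d) : Function.Injective (Away.map ψ s) := by
  rw [injective_iff_map_eq_zero]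
  intro x hx
  obtain ⟨m, a, ha, rfl⟩ := Away.mk_surjective 𝒜 hs x
  rw [Away.map_mk, away_mk_eq_zero_iff] at hx
  obtain ⟨k, hk⟩ := hx
  rw [away_mk_eq_zero_iff]
  refine ⟨k + n, h ((k + n) • d + m • d) (le_trans ((Nat.le_mul_of_pos_right n hd).trans
    (Nat.mul_le_mul_right d (Nat.le_add_left n k))) (Nat.le_add_right _ _)) _
    (SetLike.mul_mem_graded (SetLike.pow_mem_graded _ hs) ha) ?_⟩
  rw [map_mul, map_pow, add_comm k n, pow_add, mul_assoc, hk, mul_zero]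

end Ring

variable {S : Scheme.{u}}

/-- Over the identity the map on the diagonal pair is the homomorphism over that open. -/
theorem gradedAt_ofHom {𝒜 ℬ : RelProj.QCGrAlg S} (φ : 𝒜.toQCAlg ⟶ ℬ.toQCAlg) (hφ : RelProj.IsGradedHom φ)
    (U : S.Opens) (hU : IsAffineOpen U) (hle : U ≤ (𝟙 S : S ⟶ S) ⁻¹ᵁ U) :
    (RelProj.QGrHom.ofHom φ hφ).gradedAt U hU U hU hle = RelProj.gradedHomAt φ hφ U hU := by
  ext x
  exact ConcreteCategory.congr_hom (ℬ.presheaf.map_id (op U)) _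

theorem domQ_eq_top_of_forall {S' P' : Scheme.{u}} {g : S' ⟶ S} {𝒮 : RelProj.QCGrAlg S} {𝒮' : RelProj.QCGrAlg S'}
    (u : RelProj.QGrHom g 𝒮 𝒮') {p' : P' ⟶ S'}
    (chart' : ∀ (U' : S'.Opens) (hU' : IsAffineOpen U'), (((p' ⁻¹ᵁ U' : P'.Opens) : Scheme.{u}) ≅ Proj (𝒮'.deg U' hU')))
    (h : ∀ (U : S.Opens) (hU : IsAffineOpen U) (U' : S'.Opens) (hU' : IsAffineOpen U') (hle : U' ≤ g ⁻¹ᵁ U),
      RelCone.domOpen (u.gradedAt U hU U' hU' hle) = ⊤) : RelProj.domQ u p' chart' = ⊤ := by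
  refine top_le_iff.1 fun x _ => ?_
  obtain ⟨U, hU, hy, -⟩ := exists_isAffineOpen_mem_and_subset (U := (⊤ : S.Opens)) (x := g (p' x)) trivial
  obtain ⟨U', hU', hy', hle⟩ := exists_isAffineOpen_mem_and_subset (U := g ⁻¹ᵁ U) (x := p' x) hy
  obtain ⟨w, rfl⟩ : x ∈ Set.range (RelProj.emb p' chart' U' hU') := by rw [range_emb]; exact hy'
  exact Opens.mem_iSup.2 ⟨⟨(⟨U, hU⟩, ⟨U', hU'⟩), hle⟩, w, by rw [h U hU U' hU' hle]; trivial, rfl⟩

theorem qMapOn_of_qMap {S' P P' : Scheme.{u}} {g : S' ⟶ S} {𝒮 : RelProj.QCGrAlg S} {𝒮' : RelProj.QCGrAlg S'}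
    {u : RelProj.QGrHom g 𝒮 𝒮'} {p : P ⟶ S}
    {chart : ∀ (U : S.Opens) (hU : IsAffineOpen U), (((p ⁻¹ᵁ U : P.Opens) : Scheme.{u}) ≅ Proj (𝒮.deg U hU))}
    {p' : P' ⟶ S'}
    {chart' : ∀ (U' : S'.Opens) (hU' : IsAffineOpen U'), (((p' ⁻¹ᵁ U' : P'.Opens) : Scheme.{u}) ≅ Proj (𝒮'.deg U' hU'))}
    {h : P' ⟶ P} (hh : RelProj.IsProjQMap u p chart p' chart' h) :
    RelProj.IsProjQMapOn u p chart p' chart' (RelProj.domQ u p' chart') ((RelProj.domQ u p' chart').ι ≫ h) := by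
  intro U hU U' hU' hle d hd f hf hW
  rw [IsOpenImmersion.lift_fac_assoc]
  exact hh.2 U hU U' hU' hle d hd f hf

theorem exists_qMap_of_top {S' P P' : Scheme.{u}} {g : S' ⟶ S} {𝒮 : RelProj.QCGrAlg S} {𝒮' : RelProj.QCGrAlg S'}
    (u : RelProj.QGrHom g 𝒮 𝒮') {p : P ⟶ S}
    {chart : ∀ (U : S.Opens) (hU : IsAffineOpen U), (((p ⁻¹ᵁ U : P.Opens) : Scheme.{u}) ≅ Proj (𝒮.deg U hU))}
    {p' : P' ⟶ S'}
    {chart' : ∀ (U' : S'.Opens) (hU' : IsAffineOpen U'), (((p' ⁻¹ᵁ U' : P'.Opens) : Scheme.{u}) ≅ Proj (𝒮'.deg U' hU'))}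
    (hP : RelProj.IsRelProj 𝒮 p chart) (hP' : RelProj.IsRelProj 𝒮' p' chart') (htop : RelProj.domQ u p' chart' = ⊤) :
    ∃ h : P' ⟶ P, RelProj.IsProjQMap u p chart p' chart' h := by
  obtain ⟨v, hv, -⟩ := existsUnique_qMapOn u hP hP'
  haveI : IsIso (RelProj.domQ u p' chart').ι := by rw [htop]; exact inferInstanceAs (IsIso (Scheme.topIso P').hom)
  refine ⟨inv (RelProj.domQ u p' chart').ι ≫ v, htop, fun U hU U' hU' hle d hd f hf => ?_⟩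
  rw [← hv U hU U' hU' hle d hd f hf (RelProj.range_awayEmb_subset_domQ u p' chart' U hU U' hU' hle hd f hf),
    ← Category.assoc]
  congr 1
  rw [IsIso.comp_inv_eq, IsOpenImmersion.lift_fac]

section SameBase

variable {PA PB : Scheme.{u}} {𝒜 ℬ : RelProj.QCGrAlg S} {φ : 𝒜.toQCAlg ⟶ ℬ.toQCAlg} {hφ : RelProj.IsGradedHom φ}
  {pA : PA ⟶ S} {chartA : ∀ (U : S.Opens) (hU : IsAffineOpen U), (((pA ⁻¹ᵁ U : PA.Opens) : Scheme.{u}) ≅ Proj (𝒜.deg U hU))}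
  {pB : PB ⟶ S} {chartB : ∀ (U : S.Opens) (hU : IsAffineOpen U), (((pB ⁻¹ᵁ U : PB.Opens) : Scheme.{u}) ≅ Proj (ℬ.deg U hU))}

theorem qMap_of_forall_away (hA : RelProj.IsRelProj 𝒜 pA chartA) (hB : RelProj.IsRelProj ℬ pB chartB)
    {h : PB ⟶ PA} (hh : RelProj.IsProjQMap (RelProj.QGrHom.ofHom φ hφ) pA chartA pB chartB h)
    (Q : MorphismProperty Scheme.{u}) [IsZariskiLocalAtTarget Q] [Q.RespectsIso]
    (hQ : ∀ (U : S.Opens) (hU : IsAffineOpen U) (d : ℕ) (_ : 0 < d) (f : 𝒜.presheaf.obj (op U)) (_ : f ∈ 𝒜.deg U hU d),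
      Q (Spec.map (CommRingCat.ofHom (Away.map (RelProj.gradedHomAt φ hφ U hU) f)))) : Q h := by
  let u := RelProj.QGrHom.ofHom φ hφ
  let I := Σ U : S.affineOpens, Σ d : {d : ℕ // 0 < d}, (𝒜.deg U.1 U.2 d.1)
  let idx : I → QIdx (g := 𝟙 S) (𝒮 := 𝒜) := fun i => ⟨i.1.1, i.1.2, i.1.1, i.1.2, le_refl i.1.1, i.2.1.1, i.2.1.2, i.2.2.1, i.2.2.2⟩
  let e : ∀ i : I, Spec (CommRingCat.of (Away (𝒜.deg i.1.1 i.1.2) i.2.2.1)) ⟶ PA := fun i =>
    Proj.awayι (𝒜.deg i.1.1 i.1.2) i.2.2.1 i.2.2.2 i.2.1.2 ≫ RelProj.emb pA chartA i.1.1 i.1.2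
  haveI : ∀ i, IsOpenImmersion (e i) := fun i => IsOpenImmersion.comp _ _
  have hcov : ∀ x : PA, ∃ i, x ∈ Set.range (e i) := fun x => by
    obtain ⟨U, hU, hxU, -⟩ := exists_isAffineOpen_mem_and_subset (U := (⊤ : S.Opens)) (x := pA x) trivial
    obtain ⟨w, rfl⟩ : x ∈ Set.range (RelProj.emb pA chartA U hU) := by rw [range_emb]; exact hxU
    obtain ⟨y, hy⟩ := (Proj.affineOpenCover (𝒜.deg U hU)).openCover.covers w
    exact ⟨⟨⟨U, hU⟩, ((Proj.affineOpenCover (𝒜.deg U hU)).openCover.idx w)⟩, y, congrArg (RelProj.emb pA chartA U hU) hy⟩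
  choose ix hix using hcov
  let C : PA.OpenCover := Scheme.Cover.mkOfCovers (PA : Type u) (fun x => Spec (CommRingCat.of (Away (𝒜.deg (ix x).1.1 (ix x).1.2) (ix x).2.2.1)))
    (fun x => e (ix x)) (fun x => ⟨x, hix x⟩) (fun x => inferInstanceAs (IsOpenImmersion (e (ix x))))
  refine IsZariskiLocalAtTarget.of_openCover (P := Q) C fun x => ?_
  show Q (pullback.snd h (e (ix x)))
  generalize ix x = i
  let c : Spec (CommRingCat.of (Away (ℬ.deg (idx i).U' (idx i).hU') (u.gradedAt (idx i).U (idx i).hU (idx i).U' (idx i).hU' (idx i).hle (idx i).f))) ⟶ PB :=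
    qC u pB chartB (idx i)
  let m := Spec.map (CommRingCat.ofHom (Away.map (u.gradedAt (idx i).U (idx i).hU (idx i).U' (idx i).hU' (idx i).hle) (idx i).f))
  haveI : IsOpenImmersion c := isOpenImmersion_qC _
  have w : c ≫ h = m ≫ e i := hh.2 _ _ _ _ (idx i).hle _ (idx i).hd _ (idx i).hf
  have hpb : IsPullback m c (e i) h := by
    refine IsOpenImmersion.isPullback _ _ _ _ w ?_
    ext z
    simp only [Scheme.Hom.coe_opensRange, Scheme.Hom.mem_preimage, SetLike.mem_coe, Scheme.Hom.mem_opensRange]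
    have hz0 : z ∈ RelProj.domQ u pB chartB := by rw [hh.1]; trivial
    have himg : (∀ a, a ∈ Set.range (e i) ↔ a ∈ RelProj.emb pA chartA i.1.1 i.1.2 ''ᵁ Proj.basicOpen (𝒜.deg i.1.1 i.1.2) i.2.2.1) := by
      intro a
      rw [← Proj.opensRange_awayι (𝒜.deg i.1.1 i.1.2) i.2.2.1 i.2.2.2 i.2.1.2]
      exact ⟨fun ⟨y, hy⟩ => ⟨_, ⟨y, rfl⟩, hy⟩, fun ⟨_, ⟨y, rfl⟩, hy⟩ => ⟨y, hy⟩⟩
    constructor
    swap
    · rintro ⟨y, rfl⟩
      exact ⟨m y, (congr($w y)).symm⟩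
    · intro hz
      have hz' := (himg _).1 hz
      have hzU : pB z ∈ i.1.1 := by
        have h1 := congr($(qMapOn_comp hA hB (qMapOn_of_qMap hh)) ⟨z, hz0⟩)
        have h2 : pA (h z) ∈ i.1.1 := by
          obtain ⟨a, -, ha⟩ := hz'
          rw [← ha]
          have : RelProj.emb pA chartA i.1.1 i.1.2 a ∈ Set.range (RelProj.emb pA chartA i.1.1 i.1.2) := ⟨a, rfl⟩
          rwa [range_emb] at this
        have h3 : pA (h z) = pB z := h1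
        rwa [h3] at h2
      exact (mem_preimage_emb_basicOpen_iff hA hB (qMapOn_of_qMap hh) (idx i) ⟨z, hz0⟩ hzU).1 hz'
  refine (Q.arrow_mk_iso_iff (Arrow.isoMk (f := Arrow.mk m) hpb.flip.isoPullback (Iso.refl _) ?_)).1 ?_
  · simp only [Functor.id_obj, Arrow.mk_right, Arrow.mk_left, Arrow.mk_hom, Iso.refl_hom, Category.comp_id]
    exact IsPullback.isoPullback_hom_snd _
  · show Q m
    have key := hQ i.1.1 i.1.2 i.2.1.1 i.2.1.2 i.2.2.1 i.2.2.2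
    rw [← gradedAt_ofHom φ hφ i.1.1 i.1.2 (le_refl i.1.1)] at key
    exact key

end SameBase

end Groth.Agent.RelProj11
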