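import Groth.Agent.Lib.RelProj11.RelTildeMain
import Groth.Agent.Lib.GrMod11.Exact
import Groth.Agent.Lib.ModM1.Exact

/-!
The maps `ũ` between modules `(ℳ(n))~` on a relative `Proj`: mono, epi, exactness; vanishing.
-/

universe u

open CategoryTheory CategoryTheory.Limits AlgebraicGeometry TopologicalSpace Opposite
open scoped HomogeneousIdeal

namespace Groth.Agent.RelProj11

open Groth.Agent.GrMod11 Groth.Agent.M1

variable {S P : Scheme.{u}} {𝒮 : RelProj.QCGrAlg S} {p : P ⟶ S}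
  {chart : ∀ (U : S.Opens) (hU : IsAffineOpen U), ((p ⁻¹ᵁ U : P.Opens) : Scheme.{u}) ≅ Proj (𝒮.deg U hU)}
  {ℳ 𝒩 : RelProj.GrModule 𝒮} {n : ℤ} {F : P.Modules}
  {lam : ∀ (U : S.Opens) (hU : IsAffineOpen U),
      F ⟶ (Scheme.Modules.pushforward (RelProj.emb p chart U hU)).obj (GrMod.tilde (𝒮.deg U hU) (ℳ.deg U hU) n)}

variable (p chart) in
/-- A small neighbourhood of a point inside an open, coming from a basic open of a chart. -/
theorem exists_chart_basicOpen {W : P.Opens} {x : P} (hx : x ∈ W) :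
    ∃ (U : S.Opens) (hU : IsAffineOpen U) (g : 𝒮.presheaf.obj (op U)) (d : ℕ), 0 < d ∧ g ∈ 𝒮.deg U hU d ∧
      ∃ W' : P.Opens, x ∈ W' ∧ W' ≤ W ∧ W' ≤ p ⁻¹ᵁ U ∧
        RelProj.emb p chart U hU ⁻¹ᵁ W' = Proj.basicOpen (𝒮.deg U hU) g := by
  obtain ⟨U, hU, y, rfl⟩ := exists_emb_eq (chart := chart) x
  obtain ⟨g, ⟨d, hd, hg⟩, hyg, hgW⟩ := exists_basicOpen_pos_nhd (𝒮.deg U hU)
    (V := RelProj.emb p chart U hU ⁻¹ᵁ W) (x := y) hx
  refine ⟨U, hU, g, d, hd, hg, RelProj.emb p chart U hU ''ᵁ Proj.basicOpen (𝒮.deg U hU) g, ⟨y, hyg, rfl⟩, ?_,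
    image_emb_le _, Scheme.Hom.preimage_image_eq _ _⟩
  rintro _ ⟨z, hz, rfl⟩
  exact hgW hz

theorem isZero_relTilde_of_isTN (hF : RelProj.IsRelTilde 𝒮 p chart ℳ n F lam) (hTN : ℳ.IsTN) : IsZero F := by
  obtain ⟨n₀, hn₀⟩ := hTN
  have hW : ∀ (U : S.Opens) (hU : IsAffineOpen U) (W : P.Opens) (hW : W ≤ p ⁻¹ᵁ U) (s : Γ(F, W)), s = 0 := by
    intro U hU W hW s
    refine (hF.bijective U hU W hW).1 (Eq.trans ?_ (map_zero _).symm)
    refine sec_ext (n := n) (ℳ := ℳ.deg U hU) (U := RelProj.emb p chart U hU ⁻¹ᵁ W) fun y hy => ?_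
    exact eq_zero_of_locMap_eq_zero (𝒮.deg U hU) (𝒩 := ℳ.deg U hU) (0 : ℳ.mod.val.obj (op U) →ₗ[𝒮.presheaf.obj (op U)] ℳ.mod.val.obj (op U))
      (fun i m _ => zero_mem _) n n₀ (fun k hk m hm _ => hn₀ U hU k hk m hm)
      (val_mem (n := n) (ℳ := ℳ.deg U hU) (U := RelProj.emb p chart U hU ⁻¹ᵁ W) ((lam U hU).app W s) y hy) (by
        generalize val (n := n) (ℳ := ℳ.deg U hU) (U := RelProj.emb p chart U hU ⁻¹ᵁ W) ((lam U hU).app W s) y hy = q
        induction q using LocalizedModule.induction_on with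
        | h m t => rw [GrMod.locMap_mk, LinearMap.zero_apply, LocalizedModule.zero_mk])
  rw [IsZero.iff_id_eq_zero]
  ext W s
  show s = 0
  refine TopCat.Sheaf.eq_of_locally_eq' ⟨F.presheaf, F.isSheaf⟩ (fun U : S.affineOpens => W ⊓ p ⁻¹ᵁ U.1) W
    (fun U => homOfLE inf_le_left) (fun x hx => ?_) s 0 fun U => ?_
  · obtain ⟨U, hU, hxU⟩ := exists_mem_preimage (p := p) x
    exact Opens.mem_iSup.2 ⟨⟨U, hU⟩, hx, hxU⟩
  · exact (hW U.1 U.2 _ inf_le_right _).trans (map_zero _).symm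

variable {G : P.Modules}
  {lam' : ∀ (U : S.Opens) (hU : IsAffineOpen U),
      G ⟶ (Scheme.Modules.pushforward (RelProj.emb p chart U hU)).obj (GrMod.tilde (𝒮.deg U hU) (𝒩.deg U hU) n)}
  {u : ℳ.mod ⟶ 𝒩.mod} {hu : RelProj.IsGrModHom u} {ut : F ⟶ G}

/-- The linear map of a morphism of graded modules over an affine open. -/
noncomputable abbrev secMap (u : ℳ.mod ⟶ 𝒩.mod) (U : S.Opens) :
    ℳ.mod.val.obj (op U) →ₗ[𝒮.presheaf.obj (op U)] 𝒩.mod.val.obj (op U) :=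
  show ℳ.mod.val.obj (op U) →ₗ[𝒮.presheaf.obj (op U)] 𝒩.mod.val.obj (op U) from (u.val.app (op U)).hom

theorem comm_app
    (hut : ∀ (U : S.Opens) (hU : IsAffineOpen U),
      ut ≫ lam' U hU = lam U hU ≫ (Scheme.Modules.pushforward (RelProj.emb p chart U hU)).map
          (GrMod.map (𝒮.deg U hU) (secMap u U) (hu U hU) n))
    (U : S.Opens) (hU : IsAffineOpen U) (W : P.Opens) (s : Γ(F, W)) :
    (lam' U hU).app W (ut.app W s) =
      (GrMod.map (𝒮.deg U hU) (secMap u U) (hu U hU) n).app (RelProj.emb p chart U hU ⁻¹ᵁ W) ((lam U hU).app W s) :=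
  congr($(congrArg (fun f => Scheme.Modules.Hom.app f W) (hut U hU)) s)

theorem mono_relTilde_map (hF : RelProj.IsRelTilde 𝒮 p chart ℳ n F lam)
    (hinj : ∃ n₀ : ℕ, ∀ (U : S.Opens) (hU : IsAffineOpen U) (k : ℕ), n₀ ≤ k →
      ∀ m ∈ ℳ.deg U hU k, (u.val.app (op U)).hom m = 0 → m = 0)
    (hut : ∀ (U : S.Opens) (hU : IsAffineOpen U),
      ut ≫ lam' U hU = lam U hU ≫ (Scheme.Modules.pushforward (RelProj.emb p chart U hU)).map
          (GrMod.map (𝒮.deg U hU) (secMap u U) (hu U hU) n)) : Mono ut := by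
  obtain ⟨n₀, hn₀⟩ := hinj
  refine (M1.mono_iff_app ut).2 fun W => (injective_iff_map_eq_zero _).2 fun s hs => ?_
  refine TopCat.Sheaf.eq_of_locally_eq' ⟨F.presheaf, F.isSheaf⟩ (fun U : S.affineOpens => W ⊓ p ⁻¹ᵁ U.1) W
    (fun U => homOfLE inf_le_left) (fun x hx => ?_) s 0 fun U => ?_
  · obtain ⟨U, hU, hxU⟩ := exists_mem_preimage (p := p) x
    exact Opens.mem_iSup.2 ⟨⟨U, hU⟩, hx, hxU⟩
  · show mres F inf_le_left s = mres F inf_le_left (0 : Γ(F, W))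
    rw [map_zero]
    refine (hF.bijective U.1 U.2 _ inf_le_right).1 (Eq.trans ?_ (map_zero _).symm)
    refine map_app_injective _ (secMap u U.1) (hu U.1 U.2) n n₀ (fun k hk => hn₀ U.1 U.2 k hk) _ ?_
    rw [← comm_app hut, app_mres, hs, map_zero, map_zero]
    exact (map_zero _).symm

theorem epi_relTilde_map (hF : RelProj.IsRelTilde 𝒮 p chart ℳ n F lam) (hG : RelProj.IsRelTilde 𝒮 p chart 𝒩 n G lam')
    (hsurj : ∃ n₀ : ℕ, ∀ (U : S.Opens) (hU : IsAffineOpen U) (k : ℕ), n₀ ≤ k →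
      ∀ m' ∈ 𝒩.deg U hU k, ∃ m ∈ ℳ.deg U hU k, (u.val.app (op U)).hom m = m')
    (hut : ∀ (U : S.Opens) (hU : IsAffineOpen U),
      ut ≫ lam' U hU = lam U hU ≫ (Scheme.Modules.pushforward (RelProj.emb p chart U hU)).map
          (GrMod.map (𝒮.deg U hU) (secMap u U) (hu U hU) n)) : Epi ut := by
  obtain ⟨n₀, hn₀⟩ := hsurj
  refine (M1.epi_iff_locally_surjective ut).2 fun W t x hx => ?_
  obtain ⟨U, hU, g, d, hd, hg, W', hxW', hW'W, hW'U, e⟩ := exists_chart_basicOpen p chart hx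
  refine ⟨W', hW'W, hxW', ?_⟩
  have hs := map_app_surjective_basicOpen (𝒮.deg U hU) (secMap u U) (hu U hU) n n₀ (fun k hk => hn₀ U hU k hk) hd hg
  rw [← e] at hs
  obtain ⟨a, ha⟩ := hs ((lam' U hU).app W' (mres G hW'W t))
  obtain ⟨s, hs'⟩ := (hF.bijective U hU W' hW'U).2 a
  refine ⟨s, (hG.bijective U hU W' hW'U).1 ?_⟩
  rw [comm_app hut, hs']
  exact ha

theorem exact_relTilde_map {ℒ : RelProj.GrModule 𝒮} {H : P.Modules}
    {lam'' : ∀ (U : S.Opens) (hU : IsAffineOpen U),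
      H ⟶ (Scheme.Modules.pushforward (RelProj.emb p chart U hU)).obj (GrMod.tilde (𝒮.deg U hU) (ℒ.deg U hU) n)}
    (hF : RelProj.IsRelTilde 𝒮 p chart ℳ n F lam) (hG : RelProj.IsRelTilde 𝒮 p chart 𝒩 n G lam')
    {v : 𝒩.mod ⟶ ℒ.mod} {hv : RelProj.IsGrModHom v} {vt : G ⟶ H}
    (hex : ∀ (U : S.Opens) (hU : IsAffineOpen U), Function.Exact (u.val.app (op U)).hom (v.val.app (op U)).hom)
    (hut : ∀ (U : S.Opens) (hU : IsAffineOpen U),
      ut ≫ lam' U hU = lam U hU ≫ (Scheme.Modules.pushforward (RelProj.emb p chart U hU)).map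
          (GrMod.map (𝒮.deg U hU) (secMap u U) (hu U hU) n))
    (hvt : ∀ (U : S.Opens) (hU : IsAffineOpen U),
      vt ≫ lam'' U hU = lam' U hU ≫ (Scheme.Modules.pushforward (RelProj.emb p chart U hU)).map
          (GrMod.map (𝒮.deg U hU) (secMap v U) (hv U hU) n))
    (w : ut ≫ vt = 0) : (ShortComplex.mk ut vt w).Exact := by
  rw [M1.exact_iff_stalk_eq_zero]
  intro x b hb
  obtain ⟨W₀, hx₀, t, rfl⟩ := G.presheaf.exists_germ_eq b
  have hb' : H.presheaf.germ W₀ x hx₀ (vt.app W₀ t) = H.presheaf.germ W₀ x hx₀ (0 : Γ(H, W₀)) :=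
    ((M1.germ_naturality vt W₀ x hx₀ t).symm.trans hb).trans (map_zero (H.presheaf.germ W₀ x hx₀).hom).symm
  obtain ⟨W, hxW, i₁, i₂, he⟩ := H.presheaf.germ_eq x hx₀ hx₀ _ _ hb'
  have ht : vt.app W (mres G i₁.le t) = 0 := by
    rw [app_mres]
    exact he.trans (map_zero _)
  obtain ⟨U, hU, g, d, hd, hg, W', hxW', hW'W, hW'U, e⟩ := exists_chart_basicOpen p chart hxW
  have hs := map_app_exact_basicOpen (𝒮.deg U hU) (secMap u U) (hu U hU) n (secMap v U) (hv U hU) (hex U hU) hd hg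
  rw [← e] at hs
  have h0 : (GrMod.map (𝒮.deg U hU) (secMap v U) (hv U hU) n).app (RelProj.emb p chart U hU ⁻¹ᵁ W')
      ((lam' U hU).app W' (mres G hW'W (mres G i₁.le t))) = 0 := by
    rw [← comm_app hvt, app_mres, ht, map_zero, map_zero]
    rfl
  obtain ⟨a, ha⟩ := (hs _).1 h0
  obtain ⟨s, hs'⟩ := (hF.bijective U hU W' hW'U).2 a
  refine ⟨F.presheaf.germ W' x hxW' s, ?_⟩
  rw [M1.germ_naturality]
  have h1 : ut.app W' s = mres G (hW'W.trans i₁.le) t := by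
    refine (hG.bijective U hU W' hW'U).1 ?_
    rw [comm_app hut, hs', ← mres_mres G i₁.le hW'W]
    exact ha
  rw [h1]
  exact G.presheaf.germ_res_apply (homOfLE (hW'W.trans i₁.le)) x hxW' t

end Groth.Agent.RelProj11
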