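import Groth.Agent.Lib.RelProj11.RelTildeExact
import Groth.Agent.Lib.GrMod11.Zero
import Groth.Agent.Lib.GrMod11.Finite

/-!
`ℳ~ = 0` and (TF) give (TN) over a quasi-compact base.
-/

set_option autoImplicit false

open CategoryTheory CategoryTheory.Limits AlgebraicGeometry TopologicalSpace Opposite
open scoped HomogeneousIdeal

universe u

namespace Groth.Agent.RelProj11

open Groth.Agent.M1 Groth.Agent.GrMod11

variable {S P : Scheme.{u}} {𝒮 : RelProj.QCGrAlg S} {p : P ⟶ S}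
  {chart : ∀ (U : S.Opens) (hU : IsAffineOpen U), ((p ⁻¹ᵁ U : P.Opens) : Scheme.{u}) ≅ Proj (𝒮.deg U hU)}

/-- Generation in degree one: the irrelevant ideal is generated by degree one. -/
theorem irrelevant_eq_span_degOne (hgen : 𝒮.IsGenDegOne) (U : S.Opens) (hU : IsAffineOpen U) :
    ((𝒮.deg U hU)₊).toIdeal = Ideal.span (𝒮.deg U hU 1 : Set (𝒮.presheaf.obj (op U))) := by
  refine le_antisymm (fun x hx => ?_)
    (Ideal.span_le.2 fun y hy => HomogeneousIdeal.mem_irrelevant_of_mem _ Nat.one_pos hy)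
  let π := GradedRing.projZeroRingHom (𝒮.deg U hU)
  have key : ∀ y : 𝒮.presheaf.obj (op U),
      y - π y ∈ Ideal.span (𝒮.deg U hU 1 : Set (𝒮.presheaf.obj (op U))) := fun y => by
    have hy : y ∈ Subring.closure ((𝒮.deg U hU 0 : Set (𝒮.presheaf.obj (op U))) ∪ (𝒮.deg U hU 1 : Set _)) :=
      (hgen U hU) ▸ Subring.mem_top y
    induction hy using Subring.closure_induction with
    | mem z hz =>
      rcases hz with hz | hz
      · rw [show π z = z from DirectSum.decompose_of_mem_same _ hz, sub_self]; exact zero_mem _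
      · rw [show π z = 0 from DirectSum.decompose_of_mem_ne _ hz one_ne_zero, sub_zero]
        exact Ideal.subset_span hz
    | zero => simp
    | one => simp
    | add a b _ _ ha hb => rw [map_add, add_sub_add_comm]; exact add_mem ha hb
    | neg a _ ha => rw [map_neg, ← neg_sub']; exact neg_mem ha
    | mul a b _ _ ha hb =>
      convert add_mem (Ideal.mul_mem_left _ a hb) (Ideal.mul_mem_left _ (π b) ha) using 1
      rw [map_mul]; ring
  have h0 : π x = 0 := (HomogeneousIdeal.mem_irrelevant_iff _ x).1 hx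
  simpa [h0] using key x

theorem span_degOne_eq (hft : 𝒮.IsFTDeg 1) (U : S.Opens) (hU : IsAffineOpen U) :
    ∃ T : Finset (𝒮.presheaf.obj (op U)), (∀ t ∈ T, t ∈ 𝒮.deg U hU 1) ∧
      Ideal.span (𝒮.deg U hU 1 : Set (𝒮.presheaf.obj (op U))) = Ideal.span (T : Set _) := by
  obtain ⟨T, hT, hgen⟩ := hft U hU
  refine ⟨T, hT, le_antisymm (Ideal.span_le.2 fun x hx => ?_) (Ideal.span_mono hT)⟩
  obtain ⟨c, rfl⟩ := hgen x hx
  exact sum_mem fun t ht => Ideal.mul_mem_left _ _ (Ideal.subset_span ht)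

theorem irrelevant_fg (hgen : 𝒮.IsGenDegOne) (hft : 𝒮.IsFTDeg 1) (U : S.Opens) (hU : IsAffineOpen U) :
    ((𝒮.deg U hU)₊).toIdeal.FG := by
  obtain ⟨T, -, hT⟩ := span_degOne_eq hft U hU
  exact ⟨T, ((irrelevant_eq_span_degOne hgen U hU).trans hT).symm⟩

variable {ℳ : RelProj.GrModule 𝒮} {F : P.Modules}

theorem isZero_tilde_chart {n : ℤ}
    {lam : ∀ (U : S.Opens) (hU : IsAffineOpen U),
      F ⟶ (Scheme.Modules.pushforward (RelProj.emb p chart U hU)).obj (GrMod.tilde (𝒮.deg U hU) (ℳ.deg U hU) n)}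
    (hF : RelProj.IsRelTilde 𝒮 p chart ℳ n F lam) (h0 : IsZero F) (U : S.Opens) (hU : IsAffineOpen U) :
    IsZero (GrMod.tilde (𝒮.deg U hU) (ℳ.deg U hU) n) :=
  (Functor.map_isZero (Scheme.Modules.restrictFunctor (RelProj.emb p chart U hU)) h0).of_iso
    (restrictEmbIsoT hF U hU).symm

theorem isTN_of_isZero [CompactSpace S] (hgen : 𝒮.IsGenDegOne) (hft : 𝒮.IsFTDeg 1)
    (hℳ : Coh.IsQCoh (osMod ℳ)) (hTF : ℳ.IsTF)
    {lam : ∀ (U : S.Opens) (hU : IsAffineOpen U),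
      F ⟶ (Scheme.Modules.pushforward (RelProj.emb p chart U hU)).obj (GrMod.tilde (𝒮.deg U hU) (ℳ.deg U hU) 0)}
    (hF : RelProj.IsRelTilde 𝒮 p chart ℳ 0 F lam) (h0 : IsZero F) : ℳ.IsTN := by
  classical
  obtain ⟨n, hn⟩ := hTF
  choose b hb using fun U : S.affineOpens => eventually_zero_of_isZero (𝒮.deg U.1 U.2) (ℳ.deg U.1 U.2)
    (isZero_tilde_chart hF h0 U.1 U.2) (irrelevant_eq_span_degOne hgen U.1 U.2) (irrelevant_fg hgen hft U.1 U.2)
    (hn U.1 U.2)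
  obtain ⟨s, hs⟩ := isCompact_univ.elim_finite_subcover (fun U : S.affineOpens => (U.1 : Set S))
    (fun U => U.1.2) fun x _ => by
      obtain ⟨V, hV, hxV, -⟩ := Opens.isBasis_iff_nbhd.1 S.isBasis_affineOpens (Opens.mem_top x)
      exact Set.mem_iUnion.2 ⟨⟨V, hV⟩, hxV⟩
  refine ⟨s.sup b, fun U hU k hk m hm => ?_⟩
  have hloc : ∀ x : U, ∃ (D : S.Opens) (hle : D ≤ U), x.1 ∈ D ∧
      M1.mres (osMod ℳ) hle (m : Γ(osMod ℳ, U)) = 0 := by
    rintro ⟨x, hx⟩
    obtain ⟨V, hVs, hxV⟩ := Set.mem_iUnion₂.1 (hs (Set.mem_univ x))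
    obtain ⟨f, g, e, hxf⟩ := exists_basicOpen_le_affine_inter hU V.2 x ⟨hx, hxV⟩
    refine ⟨S.basicOpen f, S.basicOpen_le f, hxf, ?_⟩
    have hle : S.basicOpen f ≤ V.1 := e.le.trans (S.basicOpen_le g)
    have hy := ℳ.res_mem hU (hU.basicOpen f) (S.basicOpen_le f) k m hm
    obtain ⟨K, m', hm', he⟩ := grModule_exists_lift hℳ V.2 (hU.basicOpen f) hle g e k _ hy
    rw [hb V k ((Finset.le_sup hVs).trans hk) m' hm', map_zero] at he
    suffices hu : IsUnit (ores hle g) from ?_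
    swap
    · have h1 : IsUnit (ores (S.basicOpen_le g) g) := RingedSpace.isUnit_res_basicOpen _ g
      rw [show ores hle g = ores e.le (ores (S.basicOpen_le g) g) from (ores_ores _ _ g).symm]
      exact h1.map (ores e.le).hom
    have h3 : 𝒮.res V.2 (hU.basicOpen f) hle ((((𝒮.strZero V.1 V.2).hom g : 𝒮.deg V.1 V.2 0)) : 𝒮.presheaf.obj (op V.1)) =
        (𝒮.str.app (op (S.basicOpen f))).hom (ores hle g) :=
      (ConcreteCategory.congr_hom (𝒮.str.naturality (homOfLE hle).op) g).symm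
    have hunit : IsUnit (𝒮.res V.2 (hU.basicOpen f) hle
        ((((𝒮.strZero V.1 V.2).hom g : 𝒮.deg V.1 V.2 0)) : 𝒮.presheaf.obj (op V.1))) := by
      rw [h3]; exact hu.map _
    have h5 : ℳ.res hU (hU.basicOpen f) (S.basicOpen_le f) m = 0 := (hunit.pow K).smul_eq_zero.1 he.symm
    exact h5
  choose D hle hxD hz using hloc
  exact TopCat.Sheaf.eq_of_locally_eq' ⟨(osMod ℳ).presheaf, (osMod ℳ).isSheaf⟩ D U (fun x => homOfLE (hle x))
    (fun x hx => Opens.mem_iSup.2 ⟨⟨x, hx⟩, hxD ⟨x, hx⟩⟩) (m : Γ(osMod ℳ, U)) 0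
    fun x => (hz x).trans (map_zero _).symm

theorem isFT_relTilde (hgen : 𝒮.IsGenDegOne) (hTF : ℳ.IsTF)
    {lam : ∀ (U : S.Opens) (hU : IsAffineOpen U),
      F ⟶ (Scheme.Modules.pushforward (RelProj.emb p chart U hU)).obj (GrMod.tilde (𝒮.deg U hU) (ℳ.deg U hU) 0)}
    (hF : RelProj.IsRelTilde 𝒮 p chart ℳ 0 F lam) : CohB1.IsFT F := by
  obtain ⟨n, hn⟩ := hTF
  refine M1.isFT_of_openImmersion_cover (fun U : S.affineOpens => RelProj.emb p chart U.1 U.2) (fun x => ?_)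
    fun U => M1.isFT_of_isIso (restrictEmbIsoT hF U.1 U.2).symm
      (isFT_tilde_of_degOne (𝒮.deg U.1 U.2) (ℳ.deg U.1 U.2) (fun y => ?_) (hn U.1 U.2))
  · obtain ⟨U, hU, y, hy⟩ := exists_emb_eq (chart := chart) x
    exact ⟨⟨U, hU⟩, y, hy⟩
  · exact Opens.mem_iSup.1 ((iSup_basicOpen_degOne hgen U.1 U.2).ge trivial)

end Groth.Agent.RelProj11
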