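import Groth.Agent.Lib.RelProj11.TwistMap

/-!
The comparison map of twisting sheaves along the morphism induced by a graded homomorphism.
-/

universe u

open CategoryTheory CategoryTheory.Limits AlgebraicGeometry TopologicalSpace Opposite
open scoped HomogeneousIdeal

namespace Groth.Agent.RelProj11

variable {S PA PB : Scheme.{u}} {𝒜 ℬ : RelProj.QCGrAlg S} {φ : 𝒜.toQCAlg ⟶ ℬ.toQCAlg}
  {hφ : RelProj.IsGradedHom φ}
  {hirr : ∀ (U : S.Opens) (hU : IsAffineOpen U),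
    (ℬ.deg U hU)₊ ≤ ((𝒜.deg U hU)₊).map (RelProj.gradedHomAt φ hφ U hU)}
  {pA : PA ⟶ S} {pB : PB ⟶ S}
  {chartA : ∀ (U : S.Opens) (hU : IsAffineOpen U), (((pA ⁻¹ᵁ U : PA.Opens) : Scheme.{u}) ≅ Proj (𝒜.deg U hU))}
  {chartB : ∀ (U : S.Opens) (hU : IsAffineOpen U), (((pB ⁻¹ᵁ U : PB.Opens) : Scheme.{u}) ≅ Proj (ℬ.deg U hU))}
  {h : PB ⟶ PA} (hh : RelProj.IsRelProjMap φ hφ hirr chartA chartB h) (n : ℤ)

include hh in
theorem map_emb (U : S.Opens) (hU : IsAffineOpen U) :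
    Proj.map (RelProj.gradedHomAt φ hφ U hU) (hirr U hU) ≫ RelProj.emb pA chartA U hU =
      RelProj.emb pB chartB U hU ≫ h := by
  rw [RelProj.emb, RelProj.emb, Category.assoc, hh U hU, Iso.inv_hom_id_assoc]

/-- The comparison on one chart. -/
noncomputable def cmpMap (U : S.Opens) (hU : IsAffineOpen U) :
    fam chartA n U hU ⟶ (Scheme.Modules.pushforward h).obj (fam chartB n U hU) :=
  (Scheme.Modules.pushforward (RelProj.emb pA chartA U hU)).map
      (GrTwist.comap (RelProj.gradedHomAt φ hφ U hU) (hirr U hU) n) ≫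
    (Scheme.Modules.pushforwardComp (Proj.map (RelProj.gradedHomAt φ hφ U hU) (hirr U hU))
        (RelProj.emb pA chartA U hU)).hom.app (GrTwist.twist (ℬ.deg U hU) n) ≫
      (Scheme.Modules.pushforwardCongr (map_emb hh U hU)).hom.app (GrTwist.twist (ℬ.deg U hU) n) ≫
        (Scheme.Modules.pushforwardComp (RelProj.emb pB chartB U hU) h).inv.app (GrTwist.twist (ℬ.deg U hU) n)

include hh in
theorem comap_mem_map {U : S.Opens} {hU : IsAffineOpen U} {W : PA.Opens} {y : Proj (ℬ.deg U hU)}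
    (hy : y ∈ RelProj.emb pB chartB U hU ⁻¹ᵁ (h ⁻¹ᵁ W)) :
    ProjectiveSpectrum.comap (RelProj.gradedHomAt φ hφ U hU) (hirr U hU) y ∈ RelProj.emb pA chartA U hU ⁻¹ᵁ W := by
  have h1 := congr($(map_emb hh U hU) y)
  rw [Scheme.Hom.comp_apply, Scheme.Hom.comp_apply] at h1
  show RelProj.emb pA chartA U hU (Proj.map _ (hirr U hU) y) ∈ W
  rw [h1]
  exact hy

theorem cmpMap_val {U : S.Opens} (hU : IsAffineOpen U) (W : PA.Opens) (t : Γ(fam chartA n U hU, W))
    (y : Proj (ℬ.deg U hU)) (hy : y ∈ RelProj.emb pB chartB U hU ⁻¹ᵁ (h ⁻¹ᵁ W)) :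
    GrTw11.val (n := n) (U := RelProj.emb pB chartB U hU ⁻¹ᵁ (h ⁻¹ᵁ W)) ((cmpMap hh n U hU).app W t) y hy =
      GrTwist.locMap (RelProj.gradedHomAt φ hφ U hU) (hirr U hU) y
        (GrTw11.val (n := n) (U := RelProj.emb pA chartA U hU ⁻¹ᵁ W) t _ (comap_mem_map hh hy)) := by
  rfl

variable (hA : RelProj.IsRelProj 𝒜 pA chartA) (hB : RelProj.IsRelProj ℬ pB chartB)

theorem cmpMap_resMap {U D : S.Opens} (hU : IsAffineOpen U) (hD : IsAffineOpen D) (hr : IsBasic U D) :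
    cmpMap hh n U hU ≫ (Scheme.Modules.pushforward h).map (resMap hB n hU hD hr) =
      resMap hA n hU hD hr ≫ cmpMap hh n D hD := by
  ext W t
  refine GrTw11.sec_ext (n := n) (U := RelProj.emb pB chartB D hD ⁻¹ᵁ (h ⁻¹ᵁ W)) fun y hy => ?_
  show GrTw11.val (n := n) ((resMap hB n hU hD hr).app (h ⁻¹ᵁ W) ((cmpMap hh n U hU).app W t)) y hy =
    GrTw11.val (n := n) ((cmpMap hh n D hD).app W ((resMap hA n hU hD hr).app W t)) y hy
  rw [resMap_val, cmpMap_val, cmpMap_val, resMap_val]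
  have key : ∀ (χ χ' : 𝒜.deg U hU →+*ᵍ ℬ.deg D hD) (hχ : (ℬ.deg D hD)₊ ≤ ((𝒜.deg U hU)₊).map χ)
      (hχ' : (ℬ.deg D hD)₊ ≤ ((𝒜.deg U hU)₊).map χ') (_ : χ = χ')
      (hm : ProjectiveSpectrum.comap χ hχ y ∈ RelProj.emb pA chartA U hU ⁻¹ᵁ W)
      (hm' : ProjectiveSpectrum.comap χ' hχ' y ∈ RelProj.emb pA chartA U hU ⁻¹ᵁ W),
      GrTwist.locMap χ hχ y (GrTw11.val (n := n) (U := RelProj.emb pA chartA U hU ⁻¹ᵁ W) t _ hm) =
        GrTwist.locMap χ' hχ' y (GrTw11.val (n := n) (U := RelProj.emb pA chartA U hU ⁻¹ᵁ W) t _ hm') := by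
    rintro _ _ _ _ rfl _ _
    rfl
  have e1 := Groth.Agent.GrTw11.locMap_comp (RelProj.gradedHomAt φ hφ U hU) (hirr U hU) (ℬ.res hU hD hr.le)
    (hr.irrelevant hU hD) (HomogeneousIdeal.irrelevant_le_map_comp (hirr U hU) (hr.irrelevant hU hD)) y
  have e2 := Groth.Agent.GrTw11.locMap_comp (𝒜.res hU hD hr.le) (hr.irrelevant hU hD)
    (RelProj.gradedHomAt φ hφ D hD) (hirr D hD) (HomogeneousIdeal.irrelevant_le_map_comp (hr.irrelevant hU hD) (hirr D hD)) y
  refine (e1 _).trans (Eq.trans ?_ (e2 _).symm)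
  exact key _ _ _ _ (gradedHomAt_res φ hφ hU hD hr.le) _ _

include hh hA hB in
theorem existsUnique_twistMap {LA : PA.Modules}
    {lamA : ∀ (U : S.Opens) (hU : IsAffineOpen U),
      LA ⟶ (Scheme.Modules.pushforward (RelProj.emb pA chartA U hU)).obj (GrTwist.twist (𝒜.deg U hU) n)}
    (hLA : RelProj.IsRelTwist 𝒜 pA chartA n LA lamA) {LB : PB.Modules}
    {lamB : ∀ (U : S.Opens) (hU : IsAffineOpen U),
      LB ⟶ (Scheme.Modules.pushforward (RelProj.emb pB chartB U hU)).obj (GrTwist.twist (ℬ.deg U hU) n)}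
    (hLB : RelProj.IsRelTwist ℬ pB chartB n LB lamB) :
    ∃! θ : LA ⟶ (Scheme.Modules.pushforward h).obj LB, ∀ (U : S.Opens) (hU : IsAffineOpen U),
      θ ≫ (Scheme.Modules.pushforward h).map (lamB U hU) = lamA U hU ≫ cmpMap hh n U hU := by
  let adj := Scheme.Modules.pullbackPushforwardAdjunction h
  have nat : ∀ {N N' : PB.Modules} (f : (Scheme.Modules.pullback h).obj LA ⟶ N) (g : N ⟶ N'),
      adj.homEquiv _ _ (f ≫ g) = adj.homEquiv _ _ f ≫ (Scheme.Modules.pushforward h).map g :=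
    fun f g => adj.homEquiv_naturality_right f g
  obtain ⟨ν, hν, huν⟩ := existsUnique_lift hB hLB (M := (Scheme.Modules.pullback h).obj LA)
    (fun U hU => (adj.homEquiv _ _).symm (lamA U hU ≫ cmpMap hh n U hU)) fun U D hU hD hr => by
      refine (adj.homEquiv _ _).injective ?_
      rw [nat, Equiv.apply_symm_apply, Equiv.apply_symm_apply, Category.assoc, cmpMap_resMap hh n hA hB,
        ← Category.assoc, lam_resMap hA hLA]
  refine ⟨adj.homEquiv _ _ ν, fun U hU => ?_, fun θ hθ => ?_⟩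
  · rw [← nat, hν, Equiv.apply_symm_apply]
  · rw [← (adj.homEquiv _ _).apply_symm_apply θ]
    refine congrArg _ (huν _ fun U hU => (adj.homEquiv _ _).injective ?_)
    rw [nat, Equiv.apply_symm_apply, Equiv.apply_symm_apply, hθ]

end Groth.Agent.RelProj11
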