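import Groth.Agent.Lib.RelProj11.TwistExist
import Groth.Agent.Lib.RelProj11.Map

/-!
The universal property of the twisting sheaf of a relative `Proj`, and the comparison map of twisting sheaves.
-/

universe u

open CategoryTheory CategoryTheory.Limits AlgebraicGeometry TopologicalSpace Opposite
open scoped HomogeneousIdeal

namespace Groth.Agent.RelProj11

open Groth.Agent.M1

/-- A morphism of modules that is bijective over the opens inside a covering family is an isomorphism. -/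
theorem isIso_of_locally_bijective {X : Scheme.{u}} {M N : X.Modules} (φ : M ⟶ N) {ι : Type u} (U : ι → X.Opens)
    (hcov : ∀ x : X, ∃ i, x ∈ U i) (h : ∀ (i : ι) (V : X.Opens), V ≤ U i → Function.Bijective (φ.app V)) :
    IsIso φ := by
  refine Scheme.Modules.Hom.isIso_iff_isIso_app.2 fun V => (ConcreteCategory.isIso_iff_bijective _).2 ?_
  have hc : V ≤ ⨆ i, V ⊓ U i := fun x hx => by
    obtain ⟨i, hi⟩ := hcov x
    exact Opens.mem_iSup.2 ⟨i, hx, hi⟩
  refine ⟨fun a b e => TopCat.Sheaf.eq_of_locally_eq' ⟨M.presheaf, M.isSheaf⟩ (fun i => V ⊓ U i) V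
    (fun i => homOfLE inf_le_left) hc a b fun i => ?_, fun b => ?_⟩
  · refine (h i _ inf_le_right).1 ?_
    show φ.app _ (mres M _ a) = φ.app _ (mres M _ b)
    rw [app_mres, app_mres, e]
  · choose m hm using fun i => (h i (V ⊓ U i) inf_le_right).2 (mres N inf_le_left b)
    obtain ⟨g, hg, -⟩ := TopCat.Sheaf.existsUnique_gluing' ⟨M.presheaf, M.isSheaf⟩ (fun i => V ⊓ U i) V
      (fun i => homOfLE inf_le_left) hc m fun i j => by
        show mres M (inf_le_left : (V ⊓ U i) ⊓ (V ⊓ U j) ≤ V ⊓ U i) (m i) =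
          mres M (inf_le_right : (V ⊓ U i) ⊓ (V ⊓ U j) ≤ V ⊓ U j) (m j)
        refine (h i _ (inf_le_left.trans inf_le_right)).1 ?_
        rw [app_mres, app_mres, hm, hm, mres_mres, mres_mres]
    refine ⟨g, TopCat.Sheaf.eq_of_locally_eq' ⟨N.presheaf, N.isSheaf⟩ (fun i => V ⊓ U i) V
      (fun i => homOfLE inf_le_left) hc _ _ fun i => ?_⟩
    show mres N _ (φ.app V g) = mres N _ b
    rw [← app_mres, show mres M (inf_le_left : V ⊓ U i ≤ V) g = m i from hg i, hm]

variable {S P : Scheme.{u}} {𝒮 : RelProj.QCGrAlg S} {p : P ⟶ S}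
  {chart : ∀ (U : S.Opens) (hU : IsAffineOpen U), ((p ⁻¹ᵁ U : P.Opens) : Scheme.{u}) ≅ Proj (𝒮.deg U hU)}
  (hP : RelProj.IsRelProj 𝒮 p chart) {n : ℤ} {L : P.Modules}
  {lam : ∀ (U : S.Opens) (hU : IsAffineOpen U),
      L ⟶ (Scheme.Modules.pushforward (RelProj.emb p chart U hU)).obj (GrTwist.twist (𝒮.deg U hU) n)}
  (hL : RelProj.IsRelTwist 𝒮 p chart n L lam)

include hL in
theorem lam_resMap {U D : S.Opens} (hU : IsAffineOpen U) (hD : IsAffineOpen D) (h : IsBasic U D) :
    lam U hU ≫ resMap hP n hU hD h = lam D hD := by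
  obtain ⟨r, rfl⟩ := h
  ext W s
  refine GrTw11.sec_ext (n := n) (U := RelProj.emb p chart (S.basicOpen r) hD ⁻¹ᵁ W) fun y hy => ?_
  show GrTw11.val (n := n) ((resMap hP n hU hD ⟨r, rfl⟩).app W ((lam U hU).app W s)) y hy = _
  rw [resMap_val]
  exact (hL.compat U hU r W s y hy (comap_mem hU hD ⟨r, rfl⟩ hy hP)).symm

/-- Compatible maps into the twisting sheaves of the charts. -/
noncomputable def liftGlued {M : P.Modules} (μ : ∀ (U : S.Opens) (hU : IsAffineOpen U), M ⟶ fam chart n U hU)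
    (hμ : ∀ (U D : S.Opens) (hU : IsAffineOpen U) (hD : IsAffineOpen D) (h : IsBasic U D),
      μ U hU ≫ resMap hP n hU hD h = μ D hD) : M ⟶ glued hP n :=
  equalizer.lift (Pi.lift fun U : S.affineOpens => μ U.1 U.2) (Pi.hom_ext _ _ fun j => by
    simp only [eqLeft, eqRight, Category.assoc, Pi.lift_π, Pi.lift_π_assoc]
    exact (hμ _ _ _ _ j.2).symm)

theorem liftGlued_to {M : P.Modules} (μ : ∀ (U : S.Opens) (hU : IsAffineOpen U), M ⟶ fam chart n U hU)
    (hμ : ∀ (U D : S.Opens) (hU : IsAffineOpen U) (hD : IsAffineOpen D) (h : IsBasic U D),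
      μ U hU ≫ resMap hP n hU hD h = μ D hD) (U : S.Opens) (hU : IsAffineOpen U) :
    liftGlued hP μ hμ ≫ gluedTo hP n U hU = μ U hU := by
  exact (Category.assoc _ _ _).symm.trans ((congrArg (· ≫ Pi.π (famI chart n) ⟨U, hU⟩) (equalizer.lift_ι _ _)).trans
    (Pi.lift_π (fun U : S.affineOpens => μ U.1 U.2) ⟨U, hU⟩))

theorem glued_hom_ext {M : P.Modules} {ν ν' : M ⟶ glued hP n}
    (h : ∀ (U : S.Opens) (hU : IsAffineOpen U), ν ≫ gluedTo hP n U hU = ν' ≫ gluedTo hP n U hU) : ν = ν' :=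
  equalizer.hom_ext (Pi.hom_ext _ _ fun U => (Category.assoc _ _ _).trans ((h U.1 U.2).trans (Category.assoc _ _ _).symm))

include hP hL in
/-- The twisting sheaf is the limit of the twisting sheaves of the charts. -/
theorem existsUnique_lift {M : P.Modules} (μ : ∀ (U : S.Opens) (hU : IsAffineOpen U), M ⟶ fam chart n U hU)
    (hμ : ∀ (U D : S.Opens) (hU : IsAffineOpen U) (hD : IsAffineOpen D) (h : IsBasic U D),
      μ U hU ≫ resMap hP n hU hD h = μ D hD) :
    ∃! ν : M ⟶ L, ∀ (U : S.Opens) (hU : IsAffineOpen U), ν ≫ lam U hU = μ U hU := by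
  let k := liftGlued hP lam fun U D hU hD h => lam_resMap hP hL hU hD h
  have hk : IsIso k := by
    refine isIso_of_locally_bijective k (fun U : S.affineOpens => p ⁻¹ᵁ U.1)
      (fun x => (exists_mem_preimage (p := p) x).elim fun U hU => hU.elim fun hA hx => ⟨⟨U, hA⟩, hx⟩)
      fun U V hV => ?_
    have hg : Function.Bijective ((gluedTo hP n U.1 U.2).app V) := by
      exact ⟨gluedTo_injective hP n U.2 hV, exists_gluedTo_eq hP n U.2 hV⟩
    refine (Function.Bijective.of_comp_iff' hg _).1 ?_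
    have e : ⇑((gluedTo hP n U.1 U.2).app V) ∘ ⇑(k.app V) = ⇑((lam U.1 U.2).app V) := funext fun s =>
      congr($(congrArg (fun φ => Scheme.Modules.Hom.app φ V)
        (liftGlued_to hP lam (fun U D hU hD h => lam_resMap hP hL hU hD h) U.1 U.2)) s)
    rw [e]
    exact hL.bijective U.1 U.2 V hV
  refine ⟨liftGlued hP μ hμ ≫ inv k, fun U hU => ?_, fun ν hν => ?_⟩
  · rw [Category.assoc, ← liftGlued_to hP lam (fun U D hU hD h => lam_resMap hP hL hU hD h) U hU,
      IsIso.inv_hom_id_assoc]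
    exact liftGlued_to hP μ hμ U hU
  · rw [IsIso.eq_comp_inv]
    refine glued_hom_ext hP fun U hU => ?_
    rw [Category.assoc, liftGlued_to, liftGlued_to]
    exact hν U hU

end Groth.Agent.RelProj11
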