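import Groth.Agent.Lib.RelProj11.Exists
import Groth.Agent.Lib.RelProj11.Twist
import Groth.Agent.Lib.GrTw11.Comap

/-!
Restriction maps between the chartwise twisting sheaves of a relative `Proj`.
-/

universe u

open CategoryTheory CategoryTheory.Limits AlgebraicGeometry TopologicalSpace Opposite
open scoped HomogeneousIdeal

namespace Groth.Agent.RelProj11

variable {S P : Scheme.{u}} {𝒮 : RelProj.QCGrAlg S} {p : P ⟶ S}
  {chart : ∀ (U : S.Opens) (hU : IsAffineOpen U), ((p ⁻¹ᵁ U : P.Opens) : Scheme.{u}) ≅ Proj (𝒮.deg U hU)}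
  (hP : RelProj.IsRelProj 𝒮 p chart) (n : ℤ)

variable (chart) in
/-- The twisting sheaf of `𝒮(U)` as a module on `P`. -/
noncomputable abbrev fam (U : S.Opens) (hU : IsAffineOpen U) : P.Modules :=
  (Scheme.Modules.pushforward (RelProj.emb p chart U hU)).obj (GrTwist.twist (𝒮.deg U hU) n)

/-- `D` is a basic open of `U`. -/
def IsBasic (U D : S.Opens) : Prop := ∃ r : Γ(S, U), D = S.basicOpen r

theorem IsBasic.le {U D : S.Opens} (h : IsBasic U D) : D ≤ U := by
  obtain ⟨r, rfl⟩ := h; exact S.basicOpen_le r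

theorem IsBasic.irrelevant {U D : S.Opens} (hU : IsAffineOpen U) (hD : IsAffineOpen D) (h : IsBasic U D) :
    (𝒮.deg D hD)₊ ≤ ((𝒮.deg U hU)₊).map (𝒮.res hU hD h.le) := by
  obtain ⟨r, rfl⟩ := h; exact 𝒮.irrelevant_le_map U hU r

theorem IsBasic.trans {U D E : S.Opens} (hU : IsAffineOpen U) (h : IsBasic U D) (h' : IsBasic D E) :
    IsBasic U E := by
  obtain ⟨r, rfl⟩ := h
  obtain ⟨t, rfl⟩ := h'
  obtain ⟨w, hw⟩ := hU.basicOpen_basicOpen_is_basicOpen r t
  exact ⟨w, hw.symm⟩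

include hP in
theorem map_res_emb' {U D : S.Opens} (hU : IsAffineOpen U) (hD : IsAffineOpen D) (h : IsBasic U D) :
    Proj.map (𝒮.res hU hD h.le) (h.irrelevant hU hD) ≫ RelProj.emb p chart U hU = RelProj.emb p chart D hD := by
  obtain ⟨r, rfl⟩ := h
  exact RelProj.map_res_emb hP U hU r

/-- The restriction of twisting sheaves to a basic open of the base. -/
noncomputable def resMap {U D : S.Opens} (hU : IsAffineOpen U) (hD : IsAffineOpen D) (h : IsBasic U D) :
    fam chart n U hU ⟶ fam chart n D hD :=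
  (Scheme.Modules.pushforward (RelProj.emb p chart U hU)).map
      (GrTwist.comap (𝒮.res hU hD h.le) (h.irrelevant hU hD) n) ≫
    (Scheme.Modules.pushforwardComp (Proj.map (𝒮.res hU hD h.le) (h.irrelevant hU hD))
        (RelProj.emb p chart U hU)).hom.app (GrTwist.twist (𝒮.deg D hD) n) ≫
      (Scheme.Modules.pushforwardCongr (map_res_emb' hP hU hD h)).hom.app (GrTwist.twist (𝒮.deg D hD) n)

theorem comap_mem {U D : S.Opens} (hU : IsAffineOpen U) (hD : IsAffineOpen D) (h : IsBasic U D) {W : P.Opens}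
    {y : Proj (𝒮.deg D hD)} (hy : y ∈ RelProj.emb p chart D hD ⁻¹ᵁ W)
    (hP : RelProj.IsRelProj 𝒮 p chart) :
    ProjectiveSpectrum.comap (𝒮.res hU hD h.le) (h.irrelevant hU hD) y ∈ RelProj.emb p chart U hU ⁻¹ᵁ W := by
  have h1 := congr($(map_res_emb' hP hU hD h) y)
  rw [Scheme.Hom.comp_apply] at h1
  show RelProj.emb p chart U hU (Proj.map _ (h.irrelevant hU hD) y) ∈ W
  rw [h1]
  exact hy

theorem resMap_val {U D : S.Opens} (hU : IsAffineOpen U) (hD : IsAffineOpen D) (h : IsBasic U D) (W : P.Opens)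
    (t : Γ(fam chart n U hU, W)) (y : Proj (𝒮.deg D hD)) (hy : y ∈ RelProj.emb p chart D hD ⁻¹ᵁ W) :
    GrTw11.val (n := n) ((resMap hP n hU hD h).app W t) y hy =
      GrTwist.locMap (𝒮.res hU hD h.le) (h.irrelevant hU hD) y
        (GrTw11.val (n := n) (U := RelProj.emb p chart U hU ⁻¹ᵁ W) t _ (comap_mem hU hD h hy hP)) := by
  rfl

theorem resMap_bijective {U D : S.Opens} (hU : IsAffineOpen U) (hD : IsAffineOpen D) (h : IsBasic U D) {W : P.Opens}
    (hW : W ≤ p ⁻¹ᵁ D) : Function.Bijective ((resMap hP n hU hD h).app W) := by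
  obtain ⟨r, hr⟩ := id h
  have hres := isResLoc 𝒮 hU hD h.le r hr
  have hsub : ((RelProj.emb p chart U hU ⁻¹ᵁ W : (Proj (𝒮.deg U hU)).Opens) : Set (Proj (𝒮.deg U hU))) ⊆
      Set.range (Proj.map (𝒮.res hU hD h.le) (h.irrelevant hU hD)) := by
    intro x hx
    obtain ⟨U', hU', y, hy⟩ : ∃ (_ : S.Opens) (_ : True) (y : Proj (𝒮.deg D hD)),
        RelProj.emb p chart D hD y = RelProj.emb p chart U hU x := by
      refine ⟨D, trivial, (chart D hD).hom ⟨_, hW hx⟩, ?_⟩
      rw [RelProj.emb, ← Scheme.Hom.comp_apply, Iso.hom_inv_id_assoc]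
      rfl
    refine ⟨y, (RelProj.emb p chart U hU).isOpenEmbedding.injective ?_⟩
    rw [← hy, ← map_res_emb' hP hU hD h, Scheme.Hom.comp_apply]
  have hV : RelProj.emb p chart D hD ⁻¹ᵁ W =
      Proj.map (𝒮.res hU hD h.le) (h.irrelevant hU hD) ⁻¹ᵁ (RelProj.emb p chart U hU ⁻¹ᵁ W) := by
    rw [← Scheme.Hom.comp_preimage, map_res_emb' hP hU hD h]
  have hb := GrTw11.comapApp_bijective (h.irrelevant hU hD) hres n (RelProj.emb p chart U hU ⁻¹ᵁ W)
    (RelProj.emb p chart D hD ⁻¹ᵁ W) hV hsub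
  exact hb

theorem resMap_comp {U D E : S.Opens} (hU : IsAffineOpen U) (hD : IsAffineOpen D) (hE : IsAffineOpen E)
    (h : IsBasic U D) (h' : IsBasic D E) :
    resMap (chart := chart) hP n hU hD h ≫ resMap hP n hD hE h' = resMap hP n hU hE (h.trans hU h') := by
  ext W t
  refine GrTw11.sec_ext (n := n) (U := RelProj.emb p chart E hE ⁻¹ᵁ W) fun y hy => ?_
  show GrTw11.val (n := n) ((resMap hP n hD hE h').app W ((resMap hP n hU hD h).app W t)) y hy = _
  rw [resMap_val, resMap_val, resMap_val]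
  have key : ∀ (χ : 𝒮.deg U hU →+*ᵍ 𝒮.deg E hE) (hχ : (𝒮.deg E hE)₊ ≤ ((𝒮.deg U hU)₊).map χ)
      (_ : χ = (𝒮.res hD hE h'.le).comp (𝒮.res hU hD h.le))
      (hm : ProjectiveSpectrum.comap χ hχ y ∈ RelProj.emb p chart U hU ⁻¹ᵁ W),
      GrTwist.locMap (𝒮.res hD hE h'.le) (h'.irrelevant hD hE) y
        (GrTwist.locMap (𝒮.res hU hD h.le) (h.irrelevant hU hD) _
          (GrTw11.val (n := n) (U := RelProj.emb p chart U hU ⁻¹ᵁ W) t _
            (comap_mem hU hD h (comap_mem hD hE h' hy hP) hP))) =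
      GrTwist.locMap χ hχ y (GrTw11.val (n := n) (U := RelProj.emb p chart U hU ⁻¹ᵁ W) t _ hm) := by
    rintro _ hχ rfl hm
    exact GrTw11.locMap_comp _ _ _ _ hχ y _
  exact key _ _ (res_comp 𝒮 hU hD hE h.le h'.le).symm _

end Groth.Agent.RelProj11
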